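import Cfsg.Agent.Mrg.Omega.NOThreeL.RRed.Blk.Def
import Cfsg.Agent.Mrg.Omega.NOThreeL.RZ.Trace

section


/-!
# [R-z]: the block algebra (#25118, #25135, #25243 (1), (4)) over `Blk.Dec`

`S` a 2-group, `Dec S L U N E R₀`: `U = ∏ N b × R₀`.

* `Orbs L N E O` : `O b ⊆ N b ∖ {1}` has odd order, `E b` is transitive on `O b`, `L` permutes the `O b`;
* `PP N R₀ O` : the elements of `∏ N b` with all components in `O b`; their number is odd (`odd_PP`), `⨆ E b` is
  transitive on them (`tr_PP`);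
* **`exists_e`** : `S` centralises some `e ∈ PP`, and `L = C_L(e) ⟨E b⟩` for every such `e`;
* `zc_eq`, `sep`, `disj`, `gen_eq` : `Z = (Z ∩ B)(Z ∩ R₀)`, `R₀ = ⟨(Z ∩ R₀)^L⟩`, `B = ⟨(Z ∩ B)^L⟩`.
-/

set_option autoImplicit false
set_option linter.unusedSectionVars false

namespace Cfsg.Agent.Omega.NOThreeL.RZ.TwoC.DecE

open Subgroup Cfsg
open Cfsg.Agent.ZN (zc zl)
open Cfsg.Agent.MinSimple.VModule (zc_le_zl le_normalizer_zl zl_le mem_zc)
open Cfsg.Agent.Omega.NOThreeL.RRed.Blk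
open scoped Pointwise

universe u v

variable {G : Type u} [Group G] {ι : Type v}

/-- Orbits of odd length, one in each block. -/
structure Orbs (L : Subgroup G) (N E : ι → Subgroup G) (O : ι → Set G) : Prop where
  sub : ∀ b, O b ⊆ N b
  one : ∀ b, (1 : G) ∉ O b
  odd : ∀ b, Odd (Nat.card (O b))
  tr : ∀ b, ∀ x ∈ O b, ∀ y ∈ O b, ∃ e ∈ E b, e * x * e⁻¹ = y
  inv : ∀ g ∈ L, ∀ b c, MulAut.conj g • N b = N c → ∀ x ∈ O b, g * x * g⁻¹ ∈ O c

/-- The elements of `∏ N b` all whose components lie in the `O b`. -/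
def PP (N : ι → Subgroup G) (R₀ : Subgroup G) (O : ι → Set G) : Set G :=
  {z | z ∈ (⨆ b, N b) ∧ ∀ b, ∃ n ∈ O b, IsC N R₀ b z n}

variable {S L U : Subgroup G} {N E : ι → Subgroup G} {R₀ : Subgroup G} {O : ι → Set G}

theorem smul_of_norm {W : Subgroup G} {g : G} (hg : g ∈ normalizer (W : Set G)) : MulAut.conj g • W = W := by
  ext x
  rw [mem_pointwise_smul_iff_inv_smul_mem, ← map_inv, MulAut.smul_def, MulAut.conj_apply]
  have h1 := mem_normalizer_iff.1 (inv_mem hg) x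
  exact h1.symm

section
variable (h : Dec S L U N E R₀)
include h

theorem B_le : (⨆ b, N b) ≤ U := by
  rw [← h.sup]; exact le_sup_left

theorem R_le : R₀ ≤ U := by
  rw [← h.sup]; exact le_sup_right

/-- `⟨E b⟩ ≤ L` centralises `R₀`. -/
theorem E_le : (⨆ b, E b) ≤ L := iSup_le h.EL

theorem E_cent : (⨆ b, E b) ≤ centralizer (R₀ : Set G) := iSup_le h.ER

/-- an element with prescribed components -/
theorem ex_of (s : Finset ι) (f : ι → G) (hf : ∀ b, f b ∈ N b) :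
    ∃ z ∈ ⨆ b, N b, (∀ b ∈ s, IsC N R₀ b z (f b)) ∧ ∀ b ∉ s, IsC N R₀ b z 1 := by
  classical
  induction s using Finset.induction_on with
  | empty => exact ⟨1, one_mem _, by simp, fun b _ => h.comp_one (one_mem _)⟩
  | insert a s ha ih =>
    obtain ⟨z, hz, h1, h2⟩ := ih
    refine ⟨f a * z, mul_mem (le_iSup N a (hf a)) hz, fun b hb => ?_, fun b hb => ?_⟩
    · rcases Finset.mem_insert.1 hb with rfl | hb
      · have h3 := h.comp_mul (h.comp_self (hf b)) (h2 b ha)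
        rwa [mul_one] at h3
      · have hab : a ≠ b := fun e => ha (e ▸ hb)
        have h3 := h.comp_mul (h.comp_ne hab (hf a)) (h1 b hb)
        rwa [one_mul] at h3
    · rw [Finset.mem_insert, not_or] at hb
      have h3 := h.comp_mul (h.comp_ne (Ne.symm hb.1) (hf a)) (h2 b hb.2)
      rwa [one_mul] at h3

/-- conjugation by `e ∈ E b` changes the component `b` only -/
theorem conj_E [DecidableEq ι] {b : ι} {e x : G} (he : e ∈ E b) {c : ι} {n : G} (hn : IsC N R₀ c x n) :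
    IsC N R₀ c (e * x * e⁻¹) (if c = b then e * n * e⁻¹ else n) := by
  have h0 : MulAut.conj e • N c = N c := by
    by_cases hc : c = b
    · subst hc; exact smul_of_norm (h.EN c he)
    · exact smul_of_norm (centralizer_le_normalizer _ (h.EC b c (Ne.symm hc) he))
  have h1 := h.comp_conj (h.EL b he) h0 hn
  split_ifs with hc
  · exact h1
  · rwa [cent (h.EC b c (Ne.symm hc) he) hn.1] at h1

theorem norm_B {g : G} (hg : g ∈ L) {x : G} (hx : x ∈ ⨆ b, N b) : g * x * g⁻¹ ∈ ⨆ b, N b := by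
  have key : MulAut.conj g • (⨆ b, N b) ≤ ⨆ b, N b := by
    rw [show MulAut.conj g • (⨆ b, N b) = ⨆ b, MulAut.conj g • N b from Subgroup.map_iSup _ _]
    refine iSup_le fun b => ?_
    obtain ⟨c, hc, _⟩ := h.perm g hg b
    rw [hc]
    exact le_iSup N c
  exact key ((conj_smul rfl).1 hx)

theorem le_norm_B : L ≤ normalizer ((⨆ b, N b : Subgroup G) : Set G) := by
  intro g hg
  rw [mem_normalizer_iff]
  intro x
  refine ⟨fun hx => norm_B h hg hx, fun hx => ?_⟩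
  have h1 := norm_B h (inv_mem hg) hx
  have e : g⁻¹ * (g * x * g⁻¹) * g⁻¹⁻¹ = x := by group
  rwa [e] at h1

variable (o : Orbs L N E O)
include o

/-- `L` acts on `PP` -/
theorem PP_conj {g : G} (hg : g ∈ L) {z : G} (hz : z ∈ PP N R₀ O) : g * z * g⁻¹ ∈ PP N R₀ O := by
  refine ⟨norm_B h hg hz.1, fun c => ?_⟩
  obtain ⟨b, hb, _⟩ := h.perm g⁻¹ (inv_mem hg) c
  have hb' : MulAut.conj g • N b = N c := by
    rw [← hb, map_inv, smul_inv_smul]
  obtain ⟨n, hn, hc⟩ := hz.2 b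
  exact ⟨_, o.inv g hg b c hb' n hn, h.comp_conj hg hb' hc⟩

theorem ne_one [Nonempty ι] {z : G} (hz : z ∈ PP N R₀ O) : z ≠ 1 := by
  rintro rfl
  obtain ⟨b⟩ := ‹Nonempty ι›
  obtain ⟨n, hn, hc⟩ := hz.2 b
  have h1 := h.uniq hc (h.comp_one (one_mem _))
  exact o.one b (h1 ▸ hn)

/-- the number of elements of `PP` is odd -/
theorem odd_PP [Finite ι] : Odd (Nat.card (PP N R₀ O)) := by
  classical
  have := Fintype.ofFinite ι
  have key : Nat.card (PP N R₀ O) = Nat.card (∀ b, O b) := by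
    refine Nat.card_congr (Equiv.ofBijective
      (fun z : PP N R₀ O => fun b => ⟨(z.2.2 b).choose, (z.2.2 b).choose_spec.1⟩) ⟨?_, ?_⟩)
    · intro z z' e
      refine Subtype.ext (h.ext z.2.1 z'.2.1 fun b => ⟨(z.2.2 b).choose, (z.2.2 b).choose_spec.2, ?_⟩)
      have h1 : (z.2.2 b).choose = (z'.2.2 b).choose := congrArg Subtype.val (congrFun e b)
      rw [h1]
      exact (z'.2.2 b).choose_spec.2
    · intro f
      obtain ⟨z, hz, h1, _⟩ := ex_of h Finset.univ (fun b => ((f b : O b) : G)) fun b => o.sub b (f b).2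
      have hz' : z ∈ PP N R₀ O := ⟨hz, fun b => ⟨f b, (f b).2, h1 b (Finset.mem_univ _)⟩⟩
      refine ⟨⟨z, hz'⟩, funext fun b => Subtype.ext ?_⟩
      exact h.uniq (hz'.2 b).choose_spec.2 (h1 b (Finset.mem_univ _))
  rw [key, Nat.card_pi]
  exact Finset.prod_induction _ Odd (fun _ _ => Odd.mul) odd_one fun b _ => o.odd b

/-- `⟨E b⟩` is transitive on `PP` -/
theorem tr_PP [Finite ι] {z z' : G} (hz : z ∈ PP N R₀ O) (hz' : z' ∈ PP N R₀ O) :
    ∃ e ∈ ⨆ b, E b, e * z * e⁻¹ = z' := by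
  classical
  have := Fintype.ofFinite ι
  choose n hn hc using hz.2
  choose n' hn' hc' using hz'.2
  have key : ∀ s : Finset ι, ∃ e ∈ ⨆ b, E b, ∀ b, IsC N R₀ b (e * z * e⁻¹) (if b ∈ s then n' b else n b) := by
    intro s
    induction s using Finset.induction_on with
    | empty => exact ⟨1, one_mem _, fun b => by simpa using hc b⟩
    | insert a s ha ih =>
      obtain ⟨e, he, h1⟩ := ih
      obtain ⟨x, hx, hxa⟩ := o.tr a (n a) (hn a) (n' a) (hn' a)
      refine ⟨x * e, mul_mem (le_iSup E a hx) he, fun b => ?_⟩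
      have h2 := conj_E h hx (h1 b)
      have e2 : x * (e * z * e⁻¹) * x⁻¹ = x * e * z * (x * e)⁻¹ := by group
      rw [e2] at h2
      by_cases hb : b = a
      · subst hb
        rw [if_pos rfl, if_neg ha, hxa] at h2
        rwa [if_pos (Finset.mem_insert_self _ _)]
      · rw [if_neg hb] at h2
        have e3 : (b ∈ insert a s) ↔ b ∈ s := by rw [Finset.mem_insert]; tauto
        simpa only [e3] using h2
  obtain ⟨e, he, h1⟩ := key Finset.univ
  refine ⟨e, he, h.ext (norm_B h (E_le h he) hz.1) hz'.1 fun b => ⟨n' b, ?_, hc' b⟩⟩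
  simpa using h1 b

/-- **`L = C_L(e) ⟨E b⟩` for `e ∈ PP`** -/
theorem le_of [Finite ι] {e : G} (he : e ∈ PP N R₀ O) :
    L ≤ (L ⊓ centralizer ({e} : Set G)) ⊔ ⨆ b, E b := by
  intro g hg
  obtain ⟨x, hx, hxe⟩ := tr_PP h o he (PP_conj h o hg he)
  have h1 : x⁻¹ * g ∈ L ⊓ centralizer ({e} : Set G) := by
    refine mem_inf.2 ⟨L.mul_mem (L.inv_mem (E_le h hx)) hg, ?_⟩
    rw [mem_centralizer_iff]
    intro y hy
    rw [Set.mem_singleton_iff.1 hy]
    have h2 : x * e * x⁻¹ = g * e * g⁻¹ := hxe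
    calc e * (x⁻¹ * g) = x⁻¹ * (x * e * x⁻¹) * g := by group
      _ = x⁻¹ * (g * e * g⁻¹) * g := by rw [h2]
      _ = x⁻¹ * g * e := by group
  have e2 : g = x * (x⁻¹ * g) := by group
  rw [e2]
  exact mul_mem (mem_sup_right hx) (mem_sup_left h1)

/-- **the vector `e` of full support** -/
theorem exists_e [Finite ι] (hS : IsPGroup 2 S) :
    ∃ e ∈ PP N R₀ O, S ≤ centralizer ({e} : Set G) := by
  let act : MulAction S (PP N R₀ O) :=
    { smul := fun s z => ⟨s * z * (s : G)⁻¹, PP_conj h o (h.SL s.2) z.2⟩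
      one_smul := fun z => Subtype.ext (by
        change ((1 : S) : G) * z * ((1 : S) : G)⁻¹ = z
        simp)
      mul_smul := fun s t z => Subtype.ext (by
        change ((s * t : S) : G) * z * ((s * t : S) : G)⁻¹ = s * (t * z * (t : G)⁻¹) * (s : G)⁻¹
        rw [Subgroup.coe_mul]
        group) }
  obtain ⟨z, hz⟩ := hS.nonempty_fixed_point_of_prime_not_dvd_card (PP N R₀ O)
    (by have := odd_PP h o; rwa [← Nat.not_even_iff_odd, even_iff_two_dvd] at this)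
  refine ⟨z, z.2, fun s hs => ?_⟩
  rw [mem_centralizer_iff]
  intro y hy
  rw [Set.mem_singleton_iff.1 hy]
  have h1 : (s : G) * z * (s : G)⁻¹ = z := congrArg Subtype.val (hz ⟨s, hs⟩)
  calc (z : G) * s = s * z * s⁻¹ * s := by rw [h1]
    _ = s * z := by group

end

/-! ### FACT 1 -/

section
variable (h : Dec S L U N E R₀)
include h

/-- `B ∩ R₀ = 1` -/
theorem disj [Finite ι] : (⨆ b, N b) ⊓ R₀ = ⊥ := by
  rw [eq_bot_iff]
  intro x hx
  rw [mem_bot]
  exact h.ext hx.1 (one_mem _) fun b => ⟨1, h.comp_one (h.R_le_Co b hx.2), h.comp_one (one_mem _)⟩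

theorem ex_mul {x : G} (hx : x ∈ U) : ∃ b ∈ ⨆ b, N b, ∃ r ∈ R₀, x = b * r := by
  rw [← h.sup] at hx
  exact mem_sup_of (h.nor (B_le h) (R_le h)) hx

/-- `b r = b' r'` implies `b = b'`, `r = r'` -/
theorem uniq_mul [Finite ι] {b b' r r' : G} (hb : b ∈ ⨆ b, N b) (hb' : b' ∈ ⨆ b, N b) (hr : r ∈ R₀) (hr' : r' ∈ R₀)
    (e : b * r = b' * r') : b = b' ∧ r = r' := by
  have h1 : b'⁻¹ * b ∈ (⨆ b, N b) ⊓ R₀ := by
    refine mem_inf.2 ⟨mul_mem (inv_mem hb') hb, ?_⟩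
    have e1 : b'⁻¹ * b = r' * r⁻¹ := by
      rw [inv_mul_eq_iff_eq_mul, ← mul_assoc, ← e, mul_assoc, mul_inv_cancel, mul_one]
    rw [e1]
    exact mul_mem hr' (inv_mem hr)
  rw [disj h, mem_bot, inv_mul_eq_one] at h1
  subst h1
  exact ⟨rfl, mul_left_cancel e⟩

/-- **(\*)** `g ∈ L` fixes `b r` only if it fixes `b` and `r` -/
theorem sep [Finite ι] {g b r : G} (hg : g ∈ L) (hb : b ∈ ⨆ b, N b) (hr : r ∈ R₀)
    (e : g * (b * r) * g⁻¹ = b * r) : g * b * g⁻¹ = b ∧ g * r * g⁻¹ = r := by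
  refine uniq_mul h (norm_B h hg hb) hb (conj_of (h.Rnor hg) hr) hr ?_
  rw [← e]; group

/-- **`Z = (Z ∩ B) (Z ∩ R₀)`** -/
theorem zc_eq [Finite ι] (hUS : U ≤ S) (hsq : ∀ v ∈ U, v ^ 2 = 1) (hZ : zc S ≤ U) :
    zc S = (zc S ⊓ ⨆ b, N b) ⊔ (zc S ⊓ R₀) := by
  apply le_antisymm _ (sup_le inf_le_left inf_le_left)
  intro z hz
  obtain ⟨b, hb, r, hr, e⟩ := ex_mul h (hZ hz)
  have h1 : ∀ s ∈ S, s * b * s⁻¹ = b ∧ s * r * s⁻¹ = r := by
    intro s hs
    refine sep h (h.SL hs) hb hr ?_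
    rw [← e, (mem_zc.1 hz).2.1 s hs, mul_inv_cancel_right]
  have h2 : ∀ x ∈ U, (∀ s ∈ S, s * x * s⁻¹ = x) → x ∈ zc S := fun x hx hf =>
    mem_zc.2 ⟨hUS hx, fun s hs => by
      conv_rhs => rw [← hf s hs]
      group, hsq x hx⟩
  rw [e]
  exact mul_mem (mem_sup_left ⟨h2 b (B_le h hb) fun s hs => (h1 s hs).1, hb⟩)
    (mem_sup_right ⟨h2 r (R_le h hr) fun s hs => (h1 s hs).2, hr⟩)

theorem zl_le_V [Finite ι] (hUS : U ≤ S) (hsq : ∀ v ∈ U, v ^ 2 = 1) (hZ : zc S ≤ U) :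
    zl S L ≤ NoFF.Basic.V (zc S ⊓ ⨆ b, N b) L ⊔ NoFF.Basic.V (zc S ⊓ R₀) L := by
  refine zl_le ?_ (Cfsg.Agent.Omega.NO3b.Bang.le_normalizer_sup (Cfsg.Agent.Omega.NOThreeL.RZ.le_norm_V _ _)
    (Cfsg.Agent.Omega.NOThreeL.RZ.le_norm_V _ _))
  conv_lhs => rw [zc_eq h hUS hsq hZ]
  exact sup_le_sup (RZ.Z_le _ _) (RZ.Z_le _ _)

/-- **`R₀ = ⟨(Z ∩ R₀)^L⟩`, `B = ⟨(Z ∩ B)^L⟩`** -/
theorem gen_eq [Finite ι] (hUS : U ≤ S) (hsq : ∀ v ∈ U, v ^ 2 = 1) (hU : U = zl S L) :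
    (⨆ b, N b) = NoFF.Basic.V (zc S ⊓ ⨆ b, N b) L ∧ R₀ = NoFF.Basic.V (zc S ⊓ R₀) L := by
  have hZ : zc S ≤ U := by rw [hU]; exact zc_le_zl _ _
  have hB : NoFF.Basic.V (zc S ⊓ ⨆ b, N b) L ≤ ⨆ b, N b := RZ.V_le_of inf_le_right (le_norm_B h)
  have hR : NoFF.Basic.V (zc S ⊓ R₀) L ≤ R₀ := RZ.V_le_of inf_le_right h.Rnor
  have key : ∀ x ∈ U, ∃ b ∈ NoFF.Basic.V (zc S ⊓ ⨆ b, N b) L, ∃ r ∈ NoFF.Basic.V (zc S ⊓ R₀) L, x = b * r := by
    intro x hx
    rw [hU] at hx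
    exact mem_sup_of (h.nor (hB.trans (B_le h)) (hR.trans (R_le h))) (zl_le_V h hUS hsq hZ hx)
  refine ⟨le_antisymm (fun x hx => ?_) hB, le_antisymm (fun x hx => ?_) hR⟩
  · obtain ⟨b, hb, r, hr, e⟩ := key x (B_le h hx)
    have h1 := (uniq_mul h hx (hB hb) (one_mem _) (hR hr) (by rw [mul_one]; exact e)).1
    rw [h1]; exact hb
  · obtain ⟨b, hb, r, hr, e⟩ := key x (R_le h hx)
    have h1 := (uniq_mul h (one_mem _) (hB hb) hx (hR hr) (by rw [one_mul]; exact e)).2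
    rw [h1]; exact hr

/-- a subgroup normalised by `C(e)` and the `E b` is normalised by `L` -/
theorem le_of_le [Finite ι] (o : Orbs L N E O) {e : G} (he : e ∈ PP N R₀ O) {X : Subgroup G}
    (h1 : L ⊓ centralizer ({e} : Set G) ≤ X) (h2 : ∀ b, E b ≤ X) : L ≤ X :=
  (le_of h o he).trans (sup_le h1 (iSup_le h2))

end

end Cfsg.Agent.Omega.NOThreeL.RZ.TwoC.DecE

end

section


/-!
# Blocks: restriction to an `L`-invariant set `J` of blocks, vectors of full support in `∏_{b ∈ J} N b`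

* `Dec.restrict` : `Dec S L U (N|J) (E|J) ((⨆ b ∉ J, N b) ⊔ R₀)`; `Orbs.restrict`; `isC_restrict`;
* `FSup N R₀ O J` : the elements of `∏_{b ∈ J} N b` whose components `b ∈ J` lie in `O b`;
* **`exists_fsup`** : `S` centralises some `z ∈ FSup J`; **`fsup_le`** : `L ≤ (L ⊓ C((⨆ b ∉ J, N b) ⊔ R₀)) ⊔ (L ⊓ C(z))`;
* **`fsup_joint`** : `z ∈ FSup J`, `z' ∈ FSup Jᶜ` : for `y ∈ L` some `g ∈ ⨆ E b` has `g⁻¹ y ∈ C(z) ⊓ C(z')`.
-/

set_option autoImplicit false
set_option linter.unusedSectionVars false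

namespace Cfsg.Agent.Omega.NOThreeL.RRed.Blk

open Subgroup Cfsg
open Cfsg.Agent.Omega.NOThreeL.RZ.TwoC.DecE (Orbs PP)
open scoped Pointwise

universe u v

variable {G : Type u} [Group G] {ι : Type v}

/-- `J` is `L`-invariant -/
def InvJ (L : Subgroup G) (N : ι → Subgroup G) (J : Set ι) : Prop :=
  ∀ g ∈ L, ∀ b ∈ J, ∀ c, MulAut.conj g • N b = N c → c ∈ J

/-- the complement of the blocks in `J` -/
def CoJ (N : ι → Subgroup G) (R₀ : Subgroup G) (J : Set ι) : Subgroup G := (⨆ b : {b // b ∉ J}, N b) ⊔ R₀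

variable {S L U : Subgroup G} {N E : ι → Subgroup G} {R₀ : Subgroup G} {O : ι → Set G} {J : Set ι}

theorem co_restrict (b : J) : Co (fun c : J => N c) (CoJ N R₀ J) b = Co N R₀ b := by
  unfold Co CoJ
  apply le_antisymm
  · refine sup_le (iSup_le fun c => ?_) (sup_le (iSup_le fun c => ?_) le_sup_right)
    · exact (le_iSup (fun d : {d // d ≠ (b : ι)} => N d) ⟨c.1, fun e => c.2 (Subtype.ext e)⟩).trans le_sup_left
    · exact (le_iSup (fun d : {d // d ≠ (b : ι)} => N d) ⟨c.1, fun e => c.2 (e ▸ b.2)⟩).trans le_sup_left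
  · refine sup_le (iSup_le fun c => ?_) (le_sup_right.trans le_sup_right)
    by_cases hc : c.1 ∈ J
    · exact (le_iSup (fun d : {d : J // d ≠ b} => N d.1) ⟨⟨c.1, hc⟩, fun e => c.2 (congrArg Subtype.val e)⟩).trans
        le_sup_left
    · exact (le_iSup (fun d : {d // d ∉ J} => N d) ⟨c.1, hc⟩).trans (le_sup_left.trans le_sup_right)

theorem isC_restrict {b : J} {x n : G} : IsC (fun c : J => N c) (CoJ N R₀ J) b x n ↔ IsC N R₀ b x n := by
  unfold IsC
  rw [co_restrict]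

/-- the complement is invariant -/
theorem InvJ.compl (hJ : InvJ L N J) : InvJ L N Jᶜ := by
  intro g hg b hb c hc hcJ
  refine hb (hJ g⁻¹ (inv_mem hg) c hcJ b ?_)
  rw [← hc, map_inv, inv_smul_smul]

theorem CoJ_le (h : Dec S L U N E R₀) : CoJ N R₀ J ≤ U := by
  rw [← h.sup]
  exact sup_le ((iSup_le fun c : {c // c ∉ J} => le_iSup N c.1).trans le_sup_left) le_sup_right

theorem le_norm_CoJ (h : Dec S L U N E R₀) (hJ : InvJ L N J) : L ≤ normalizer (CoJ N R₀ J : Set G) := by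
  have key : ∀ g ∈ L, ∀ x ∈ CoJ N R₀ J, g * x * g⁻¹ ∈ CoJ N R₀ J := by
    intro g hg x hx
    have h1 : MulAut.conj g • CoJ N R₀ J ≤ CoJ N R₀ J := by
      unfold CoJ
      rw [smul_sup]
      refine sup_le ?_ ?_
      · rw [show MulAut.conj g • (⨆ d : {d // d ∉ J}, N d) = ⨆ d : {d // d ∉ J}, MulAut.conj g • N d from
          Subgroup.map_iSup _ _]
        refine iSup_le fun d => ?_
        obtain ⟨e, he, _⟩ := h.perm g hg d
        rw [he]
        exact (le_iSup (fun d : {d // d ∉ J} => N d) ⟨e, hJ.compl g hg d d.2 e he⟩).trans le_sup_left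
      · refine le_trans ?_ le_sup_right
        rintro y ⟨w, hw, rfl⟩
        exact conj_of (h.Rnor hg) hw
    exact h1 ((conj_smul rfl).1 hx)
  intro g hg
  rw [mem_normalizer_iff]
  refine fun x => ⟨fun hx => key g hg x hx, fun hx => ?_⟩
  have h1 := key g⁻¹ (inv_mem hg) _ hx
  have e : g⁻¹ * (g * x * g⁻¹) * g⁻¹⁻¹ = x := by group
  rwa [e] at h1

theorem cent_CoJ (h : Dec S L U N E R₀) {b : ι} (hb : b ∈ J) : E b ≤ centralizer (CoJ N R₀ J : Set G) := by
  rw [le_centralizer_iff]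
  refine sup_le (iSup_le fun c => ?_) ?_
  · rw [le_centralizer_iff]
    exact h.EC b c fun e => c.2 (e ▸ hb)
  · rw [le_centralizer_iff]
    exact h.ER b

/-- **Restriction.** -/
theorem Dec.restrict (h : Dec S L U N E R₀) (hJ : InvJ L N J) :
    Dec S L U (fun b : J => N b) (fun b : J => E b) (CoJ N R₀ J) where
  SL := h.SL
  LU := h.LU
  ab := h.ab
  sup := by
    apply le_antisymm
    · exact sup_le (iSup_le fun b => h.NU b) (CoJ_le h)
    · conv_lhs => rw [← h.sup]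
      refine sup_le (iSup_le fun b => ?_) (le_sup_right.trans le_sup_right)
      by_cases hb : b ∈ J
      · exact (le_iSup (fun b : J => N b) ⟨b, hb⟩).trans le_sup_left
      · exact (le_iSup (fun d : {d // d ∉ J} => N d) ⟨b, hb⟩).trans (le_sup_left.trans le_sup_right)
  ind b := by
    have h1 := co_restrict (N := N) (R₀ := R₀) b
    have h2 : N b ⊓ Co N R₀ b = ⊥ := h.ind b
    rw [← h1] at h2
    exact h2
  ne b := h.ne b
  Rnor := le_norm_CoJ h hJ
  EL b := h.EL b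
  CE b := h.CE b
  perm g hg b := by
    obtain ⟨c, h1, h2⟩ := h.perm g hg b
    exact ⟨⟨c, hJ g hg b b.2 c h1⟩, h1, h2⟩
  EN b := h.EN b
  EC b c hbc := h.EC b c fun e => hbc (Subtype.ext e)
  ER b := cent_CoJ h b.2

theorem Orbs.restrict (o : Orbs L N E O) : Orbs L (fun b : J => N b) (fun b : J => E b) (fun b : J => O b) where
  sub b := o.sub b
  one b := o.one b
  odd b := o.odd b
  tr b := o.tr b
  inv g hg b c hbc := o.inv g hg b c hbc

/-- the vectors of full support in `∏_{b ∈ J} N b` -/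
def FSup (N : ι → Subgroup G) (R₀ : Subgroup G) (O : ι → Set G) (J : Set ι) : Set G :=
  {z | z ∈ (⨆ b : J, N b) ∧ ∀ b ∈ J, ∃ n ∈ O b, IsC N R₀ b z n}

theorem mem_PP_restrict {z : G} :
    z ∈ PP (fun b : J => N b) (CoJ N R₀ J) (fun b : J => O b) ↔ z ∈ FSup N R₀ O J := by
  constructor
  · rintro ⟨h1, h2⟩
    refine ⟨h1, fun b hb => ?_⟩
    obtain ⟨n, hn, hc⟩ := h2 ⟨b, hb⟩
    exact ⟨n, hn, isC_restrict.1 hc⟩
  · rintro ⟨h1, h2⟩
    refine ⟨h1, fun b => ?_⟩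
    obtain ⟨n, hn, hc⟩ := h2 b b.2
    exact ⟨n, hn, isC_restrict.2 hc⟩

/-- **a vector of full support in the blocks `J`** -/
theorem exists_fsup [Finite ι] (h : Dec S L U N E R₀) (o : Orbs L N E O) (hS : IsPGroup 2 S) (hJ : InvJ L N J) :
    ∃ z ∈ FSup N R₀ O J, S ≤ centralizer ({z} : Set G) := by
  obtain ⟨z, h1, h2⟩ := RZ.TwoC.DecE.exists_e (h.restrict hJ) (Orbs.restrict o) hS
  exact ⟨z, mem_PP_restrict.1 h1, h2⟩

theorem fsup_ne_one (h : Dec S L U N E R₀) (o : Orbs L N E O) {z : G} (hz : z ∈ FSup N R₀ O J) (hJ : J.Nonempty) :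
    z ≠ 1 := by
  rintro rfl
  obtain ⟨b, hb⟩ := hJ
  obtain ⟨n, hn, hc⟩ := hz.2 b hb
  have h1 := h.uniq hc (h.comp_one (one_mem _))
  exact o.one b (h1 ▸ hn)

/-- **`L = C_L(U_{Jᶜ}) C_L(z)`** -/
theorem fsup_le [Finite ι] (h : Dec S L U N E R₀) (o : Orbs L N E O) (hJ : InvJ L N J) {z : G}
    (hz : z ∈ FSup N R₀ O J) :
    L ≤ (L ⊓ centralizer (CoJ N R₀ J : Set G)) ⊔ (L ⊓ centralizer ({z} : Set G)) := by
  refine (RZ.TwoC.DecE.le_of (h.restrict hJ) (Orbs.restrict o) (mem_PP_restrict.2 hz)).trans (sup_le le_sup_right ?_)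
  refine iSup_le fun b => le_sup_of_le_left (le_inf (h.EL b) (cent_CoJ h b.2))

/-- the product of full support vectors of `J`, `Jᶜ` -/
theorem fsup_mul (h : Dec S L U N E R₀) {z z' : G} (hz : z ∈ FSup N R₀ O J) (hz' : z' ∈ FSup N R₀ O Jᶜ) :
    z * z' ∈ PP N R₀ O := by
  have hle : ∀ K : Set ι, (⨆ b : K, N b) ≤ ⨆ b, N b := fun K => iSup_le fun b => le_iSup N b.1
  have hco : ∀ (K : Set ι) (b : ι), b ∉ K → (⨆ b : K, N b) ≤ Co N R₀ b := fun K b hb =>
    iSup_le fun c => h.N_le_Co fun e => hb (e ▸ c.2)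
  refine ⟨mul_mem (hle _ hz.1) (hle _ hz'.1), fun b => ?_⟩
  by_cases hb : b ∈ J
  · obtain ⟨n, hn, hc⟩ := hz.2 b hb
    have h1 := h.comp_mul hc (h.comp_one (hco Jᶜ b (fun h => h hb) hz'.1))
    rw [mul_one] at h1
    exact ⟨n, hn, h1⟩
  · obtain ⟨n, hn, hc⟩ := hz'.2 b hb
    have h1 := h.comp_mul (h.comp_one (hco J b hb hz.1)) hc
    rw [one_mul] at h1
    exact ⟨n, hn, h1⟩

/-- **the joint form** : modulo `⨆ E b` (which fixes every block) `y ∈ L` fixes both vectors -/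
theorem fsup_joint [Finite ι] (h : Dec S L U N E R₀) (o : Orbs L N E O) (hJ : InvJ L N J) {z z' : G}
    (hz : z ∈ FSup N R₀ O J) (hz' : z' ∈ FSup N R₀ O Jᶜ) {y : G} (hy : y ∈ L) :
    ∃ g ∈ ⨆ b, E b, g⁻¹ * y ∈ centralizer ({z} : Set G) ⊓ centralizer ({z'} : Set G) := by
  have h1 := fsup_mul h hz hz'
  obtain ⟨g, hg, hgy⟩ := RZ.TwoC.DecE.tr_PP h o h1 (RZ.TwoC.DecE.PP_conj h o hy h1)
  have hE : (⨆ b, E b) ≤ L := RZ.TwoC.DecE.E_le h
  have h2 : g⁻¹ * y ∈ L := mul_mem (inv_mem (hE hg)) hy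
  have h3 : (g⁻¹ * y) * (z * z') * (g⁻¹ * y)⁻¹ = z * z' := by
    calc (g⁻¹ * y) * (z * z') * (g⁻¹ * y)⁻¹ = g⁻¹ * (y * (z * z') * y⁻¹) * g := by group
      _ = g⁻¹ * (g * (z * z') * g⁻¹) * g := by rw [← hgy]
      _ = z * z' := by group
  have hz2 : z' ∈ CoJ N R₀ J := by
    have h4 : (⨆ b : (Jᶜ : Set ι), N b) ≤ CoJ N R₀ J :=
      iSup_le fun c => (le_iSup (fun d : {d // d ∉ J} => N d) ⟨c.1, c.2⟩).trans le_sup_left
    exact h4 hz'.1
  obtain ⟨h4, h5⟩ := RZ.TwoC.DecE.sep (h.restrict hJ) h2 (b := z) (r := z') hz.1 hz2 h3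
  refine ⟨g, hg, mem_inf.2 ⟨mem_centralizer_singleton_iff.2 ?_, mem_centralizer_singleton_iff.2 ?_⟩⟩
  · exact mul_inv_eq_iff_eq_mul.1 h4
  · exact mul_inv_eq_iff_eq_mul.1 h5

end Cfsg.Agent.Omega.NOThreeL.RRed.Blk

end

section


/-!
# Blocks of two kinds (box R, [R-z]): the merge of two block decompositions

`Dec S L U N₁ E₁ R₁`, `Dec S L U N₂ E₂ R₂`; the groups `E₁ b` centralise the `N₂ c` and conversely.

* `Dec.le_R` : a subgroup of `U` centralised by all `E b`, `C_{N b}(E b) = 1`, lies in `R₀`;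
* **`Dec.merge`** : `Dec S L U (Sum.elim N₁ N₂) (Sum.elim E₁ E₂) (R₁ ⊓ R₂)`;
* **`Orbs.merge`** : orbits of odd length for the merged blocks;
* `Dec.tv_cent` : `t ∈ L` with `|U : C_U(t)| ≤ 2` centralises every block `N b`, `2 < |N b|`, if no element of `L` which
  normalises `N b` acts on it as a transvection.
-/

set_option autoImplicit false
set_option linter.unusedSectionVars false

namespace Cfsg.Agent.Omega.NOThreeL.RRed.Blk

open Subgroup Cfsg
open Cfsg.Agent.Omega.NOThreeL.RZ.TwoC.DecE (Orbs B_le R_le)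
open scoped Pointwise

universe u v w

variable {G : Type u} [Group G] {ι : Type v} {κ : Type w}

variable {S L U : Subgroup G} {N E : ι → Subgroup G} {R₀ : Subgroup G} {N' E' : κ → Subgroup G} {R₀' : Subgroup G}

/-- `g ∈ E b` fixing `x` fixes its `b`-component -/
theorem Dec.comp_fix (h : Dec S L U N E R₀) {b : ι} {x n : G} (hn : IsC N R₀ b x n) {g : G} (hg : g ∈ E b)
    (hx : g * x * g⁻¹ = x) : g * n * g⁻¹ = n := by
  -- `g` acts trivially on the complement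
  have hco : ∀ y ∈ Co N R₀ b, g * y * g⁻¹ = y := by
    intro y hy
    have h1 : Co N R₀ b ≤ centralizer (({g} : Set G)) := by
      refine sup_le (iSup_le fun c => ?_) ?_
      · intro z hz
        rw [mem_centralizer_singleton_iff]
        exact (mem_centralizer_iff.1 (h.EC b c.1 (fun e => c.2 e.symm) hg) z hz)
      · intro z hz
        rw [mem_centralizer_singleton_iff]
        exact (mem_centralizer_iff.1 (h.ER b hg) z hz)
    have h2 := mem_centralizer_singleton_iff.1 (h1 hy)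
    rw [← h2, mul_inv_cancel_right]
  have e : g * n * g⁻¹ = (g * x * g⁻¹) * (g * (n⁻¹ * x) * g⁻¹)⁻¹ := by group
  rw [e, hx, hco _ hn.2]
  group

/-- a subgroup of `U` centralised by all `E b` lies in `R₀` if `C_{N b}(E b) = 1` -/
theorem Dec.le_R [Finite ι] (h : Dec S L U N E R₀) (hf : ∀ b, ∀ x ∈ N b, (∀ g ∈ E b, g * x * g⁻¹ = x) → x = 1)
    {W : Subgroup G} (hWU : W ≤ U) (hW : ∀ b, E b ≤ centralizer (W : Set G)) : W ≤ R₀ := by
  intro x hx
  have hxU := hWU hx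
  refine h.mem_R hxU fun b => ?_
  obtain ⟨n, hn⟩ := h.ex_comp b hxU
  have h2 : n = 1 := hf b n hn.1 fun g hg => h.comp_fix hn hg (cent (hW b hg) hx)
  rwa [h2] at hn

/-- `W = A (W ∩ B)` for `A ≤ W ≤ A B`, everything in the abelian group `U` -/
theorem modular {A B W U : Subgroup G} (hU : U ≤ centralizer (U : Set G)) (hA : A ≤ U) (hB : B ≤ U) (hAW : A ≤ W)
    (hW : W ≤ A ⊔ B) : W = A ⊔ (W ⊓ B) := by
  refine le_antisymm (fun x hx => ?_) (sup_le hAW inf_le_left)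
  have hn : A ≤ normalizer (B : Set G) :=
    (hA.trans hU).trans ((centralizer_le hB).trans (centralizer_le_normalizer _))
  obtain ⟨a, ha, b, hb, rfl⟩ := mem_sup_of hn (hW hx)
  refine mul_mem_sup ha ⟨?_, hb⟩
  have := mul_mem (inv_mem (hAW ha)) hx
  rwa [inv_mul_cancel_left] at this

section merge

variable (h₁ : Dec S L U N E R₀) (h₂ : Dec S L U N' E' R₀') (hN : ∀ c, N' c ≤ R₀) (hN' : ∀ b, N b ≤ R₀')
  (hE : ∀ b c, E b ≤ centralizer (N' c : Set G)) (hE' : ∀ c b, E' c ≤ centralizer (N b : Set G))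
include h₁ h₂ hN hN' hE hE'

/-- **The merge.** -/
theorem Dec.merge : Dec S L U (Sum.elim N N') (Sum.elim E E') (R₀ ⊓ R₀') where
  SL := h₁.SL
  LU := h₁.LU
  ab := h₁.ab
  sup := by
    have e1 : (⨆ x : ι ⊕ κ, (Sum.elim N N') x) = (⨆ b, N b) ⊔ ⨆ c, N' c := by
      rw [iSup_sum]
      rfl
    have e2 : R₀ = (⨆ c, N' c) ⊔ (R₀ ⊓ R₀') := by
      refine modular h₁.ab (B_le h₂) (R_le h₂) (iSup_le hN) ?_
      rw [h₂.sup]
      exact h₁.RU
    rw [e1, sup_assoc, ← e2]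
    exact h₁.sup
  ind := by
    rintro (b | c)
    · rw [eq_bot_iff, ← h₁.ind b]
      refine inf_le_inf_left _ (sup_le (iSup_le ?_) (inf_le_left.trans le_sup_right))
      rintro ⟨b' | c', hne⟩
      · exact (le_iSup (fun d : {d // d ≠ b} => N d) ⟨b', fun e => hne (by rw [e])⟩).trans le_sup_left
      · exact (hN c').trans le_sup_right
    · rw [eq_bot_iff, ← h₂.ind c]
      refine inf_le_inf_left _ (sup_le (iSup_le ?_) (inf_le_right.trans le_sup_right))
      rintro ⟨b' | c', hne⟩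
      · exact (hN' b').trans le_sup_right
      · exact (le_iSup (fun d : {d // d ≠ c} => N' d) ⟨c', fun e => hne (by rw [e])⟩).trans le_sup_left
  ne := by
    rintro (b | c)
    · exact h₁.ne b
    · exact h₂.ne c
  Rnor := (le_inf h₁.Rnor h₂.Rnor).trans inf_normalizer_le_normalizer_inf
  EL := by
    rintro (b | c)
    · exact h₁.EL b
    · exact h₂.EL c
  CE := by
    rintro (b | c)
    · exact h₁.CE b
    · exact h₂.CE c
  perm := by
    rintro g hg (b | c)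
    · obtain ⟨b', h3, h4⟩ := h₁.perm g hg b
      exact ⟨Sum.inl b', h3, h4⟩
    · obtain ⟨c', h3, h4⟩ := h₂.perm g hg c
      exact ⟨Sum.inr c', h3, h4⟩
  EN := by
    rintro (b | c)
    · exact h₁.EN b
    · exact h₂.EN c
  EC := by
    rintro (b | c) (b' | c') hne
    · exact h₁.EC b b' fun e => hne (by rw [e])
    · exact hE b c'
    · exact hE' c b'
    · exact h₂.EC c c' fun e => hne (by rw [e])
  ER := by
    rintro (b | c)
    · exact (h₁.ER b).trans (centralizer_le inf_le_left)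
    · exact (h₂.ER c).trans (centralizer_le inf_le_right)

/-- `N b` and `N' c` are not conjugate in `L` -/
theorem not_conj {g : G} (hg : g ∈ L) {b : ι} {c : κ} : MulAut.conj g • N b ≠ N' c := by
  intro e
  obtain ⟨b', h3, -⟩ := h₁.perm g hg b
  rw [h3] at e
  have h4 : N' c ⊓ ((⨆ d : {d // d ≠ c}, N' d) ⊔ R₀') = ⊥ := h₂.ind c
  apply h₂.ne c
  rw [eq_bot_iff, ← h4]
  refine le_inf le_rfl ?_
  rw [← e]
  exact (hN' b').trans le_sup_right

theorem not_conj' {g : G} (hg : g ∈ L) {b : ι} {c : κ} : MulAut.conj g • N' c ≠ N b := by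
  intro e
  obtain ⟨c', h3, -⟩ := h₂.perm g hg c
  rw [h3] at e
  have h4 : N b ⊓ ((⨆ d : {d // d ≠ b}, N d) ⊔ R₀) = ⊥ := h₁.ind b
  apply h₁.ne b
  rw [eq_bot_iff, ← h4]
  refine le_inf le_rfl ?_
  rw [← e]
  exact (hN c').trans le_sup_right

/-- **Orbits for the merged blocks.** -/
theorem Orbs.merge {O : ι → Set G} {O' : κ → Set G} (o₁ : Orbs L N E O) (o₂ : Orbs L N' E' O') :
    Orbs L (Sum.elim N N') (Sum.elim E E') (Sum.elim O O') where
  sub := by
    rintro (b | c)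
    · exact o₁.sub b
    · exact o₂.sub c
  one := by
    rintro (b | c)
    · exact o₁.one b
    · exact o₂.one c
  odd := by
    rintro (b | c)
    · exact o₁.odd b
    · exact o₂.odd c
  tr := by
    rintro (b | c)
    · exact o₁.tr b
    · exact o₂.tr c
  inv := by
    rintro g hg (b | c) (b' | c') he x hx
    · exact o₁.inv g hg b b' he x hx
    · exact absurd he (not_conj h₁ h₂ hN hN' hE hE' hg)
    · exact absurd he (not_conj' h₁ h₂ hN hN' hE hE' hg)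
    · exact o₂.inv g hg c c' he x hx

end merge

section tv

/-- `t` moves `N b` to another block: `|N b| ≤ |N b : C|`, i.e. the `[x, t]`, `x ∈ N b`, are different modulo .. -/
theorem Dec.norm_of_tv (h : Dec S L U N E R₀) {t : G} (ht : t ∈ L) {D : Subgroup G}
    (hDt : ∀ x ∈ D, t * x * t⁻¹ = x) (h2 : D.relIndex U ≤ 2) (h0 : D.relIndex U ≠ 0) {b : ι} (hb : 2 < Nat.card (N b)) :
    MulAut.conj t • N b = N b := by
  by_contra hne
  obtain ⟨c, hc, -⟩ := h.perm t ht b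
  have hcb : c ≠ b := fun e => hne (by rw [hc, e])
  -- `D ⊓ N b = 1`
  have h3 : D ⊓ N b = ⊥ := by
    rw [eq_bot_iff]
    rintro x ⟨hxD, hxb⟩
    have h4 : x ∈ N c := by
      have := (conj_smul hc (x := x)).1 hxb
      rwa [hDt x hxD] at this
    have h5 : x ∈ N b ⊓ ((⨆ d : {d // d ≠ b}, N d) ⊔ R₀) := ⟨hxb, (h.N_le_Co hcb) h4⟩
    rwa [h.ind b] at h5
  have h6 : D.relIndex (N b) ≤ D.relIndex U := relIndex_le_of_le_right (h.NU b) h0
  have h7 : D.relIndex (N b) = Nat.card (N b) := by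
    rw [← inf_relIndex_right, h3, relIndex_bot_left]
  omega

/-- **a transvection centralises the blocks without transvections** -/
theorem Dec.tv_cent (h : Dec S L U N E R₀) {t : G} (ht : t ∈ L) {D : Subgroup G}
    (hDt : ∀ x ∈ D, t * x * t⁻¹ = x) (h2 : D.relIndex U ≤ 2) (h0 : D.relIndex U ≠ 0) {b : ι} (hb : 2 < Nat.card (N b))
    (hno : ∀ g ∈ L, g ∈ normalizer (N b : Set G) → ∀ W : Subgroup G, W ≤ N b → W.relIndex (N b) ≤ 2 →
      (∀ x ∈ W, g * x * g⁻¹ = x) → g ∈ centralizer (N b : Set G)) :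
    t ∈ centralizer (N b : Set G) := by
  have h1 := h.norm_of_tv ht hDt h2 h0 hb
  refine hno t ht ?_ (D ⊓ N b) inf_le_right ?_ fun x hx => hDt x hx.1
  · rw [mem_normalizer_iff]
    intro x
    exact conj_smul h1
  · rw [inf_relIndex_right]
    exact (relIndex_le_of_le_right (h.NU b) h0).trans h2

end tv

end Cfsg.Agent.Omega.NOThreeL.RRed.Blk

end
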