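import Cfsg.Agent.Mrg.Omega.EK3.Rank
import Cfsg.Agent.Mrg.Omega.ML.LieTwF4


/-!
# [R-z] (helper855 #24885, helper133 #25243): the two sides, without `N_B`

Pure group theory, as `Side.lean`, but `(NO)` only for the members of `AA(O)` (`NoA`), and on side 1 the exit is a member
`F` of `AA(C_O(W₂))` which lies in `QB` (`= O₂(C_G(B))`; `QB` contains `C_O(U₁) ∩ C_O(W₂)` and is normalised by `E₂`).

* `NoA`, `exch`, `mem_AA_of_inf`, `mem_inf_of_mem_AA`, `exch_inf`, `le_of_mem_inf`;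
* `noA_hul` : `NoA O ⟨V^K⟩`, if every member of `AA(C_O(U))`, `U = ⟨Z^K⟩`, centralises `V`;
* `TwoP` : the situation; **`TwoP.main`**.
-/

set_option autoImplicit false
set_option linter.unusedSectionVars false

namespace Cfsg.Agent.Omega.NOThreeL.RZ.TwoC.SideP

open Subgroup Cfsg Cfsg.Agent.ZN Cfsg.Agent.Omega.MinPar
open Cfsg.Agent.Omega.NO3S.EThree Cfsg.Agent.Omega.NO3S.EThree.ExactA
open Cfsg.Agent.ZN.ChoiceBase (AA mm mm_eq mm_mono mem_AA_iff AA_nonempty card_le_mm cj mem_cj cj_mem_AA cj_inf cj_mono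
  cj_centralizer cj_eq_of_mem_normalizer mem_normalizer_of_cj_le card_cj)
open Cfsg.Agent.Omega.NoFF.Basic (comm_symm comm_mono)
open Cfsg.Agent.Omega.GI (Inv cj_sup' relIndex_sup_of_comm relIndex_congr)
open Cfsg.Agent.Omega.ML.GMod (hul hul_le hul_le_of le_hul cj_le_hul le_normalizer_hul ri_mono)

universe u

variable {G : Type u} [Group G]

/-- `(NO)` on `N` for the members of `AA(O)` -/
def NoA (O N : Subgroup G) : Prop :=
  ∀ A ∈ AA O, (centralizer (N : Set G)).relIndex A ≤ (centralizer (A : Set G)).relIndex N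

variable [Finite G]

section one

variable {O N : Subgroup G} (hN : IsElementaryAbelian 2 N) (hNO : N ≤ O) (h : NoA O N)
include hN hNO h

theorem exch {A : Subgroup G} (hA : A ∈ AA O) :
    (centralizer (N : Set G)).relIndex A = (centralizer (A : Set G)).relIndex N ∧
      N ⊓ centralizer (A : Set G) ≤ A ∧ (A ⊓ centralizer (N : Set G)) ⊔ N ∈ AA O :=
  swp hN hNO hA (h A hA)

theorem sup_le_inf {A : Subgroup G} (hA : A ≤ O) :
    (A ⊓ centralizer (N : Set G)) ⊔ N ≤ O ⊓ centralizer (N : Set G) :=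
  le_inf (sup_le (inf_le_left.trans hA) hNO) (sup_le inf_le_right (eab_iff.1 hN).1)

theorem mm_inf : mm (O ⊓ centralizer (N : Set G)) = mm O := by
  refine le_antisymm (mm_mono inf_le_left) ?_
  obtain ⟨A, hA⟩ := AA_nonempty O
  have h1 := (exch hN hNO h hA).2.2
  rw [mm_eq h1]
  exact card_le_mm h1.1 (sup_le_inf hN hNO h hA.2.1)

theorem mem_AA_of_inf {A : Subgroup G} (hA : A ∈ AA (O ⊓ centralizer (N : Set G))) : A ∈ AA O := by
  rw [mem_AA_iff] at *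
  exact ⟨hA.1, hA.2.1.trans inf_le_left, (mm_inf hN hNO h).ge.trans hA.2.2⟩

theorem mem_inf_of_mem_AA {A : Subgroup G} (hA : A ∈ AA O) (hc : A ≤ centralizer (N : Set G)) :
    A ∈ AA (O ⊓ centralizer (N : Set G)) := by
  rw [mem_AA_iff] at *
  exact ⟨hA.1, le_inf hA.2.1 hc, (mm_inf hN hNO h).le.trans hA.2.2⟩

theorem exch_inf {A : Subgroup G} (hA : A ∈ AA O) :
    (A ⊓ centralizer (N : Set G)) ⊔ N ∈ AA (O ⊓ centralizer (N : Set G)) :=
  mem_inf_of_mem_AA hN hNO h (exch hN hNO h hA).2.2 (sup_le inf_le_right (eab_iff.1 hN).1)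

theorem le_of_mem_inf {A : Subgroup G} (hA : A ∈ AA (O ⊓ centralizer (N : Set G))) : N ≤ A := by
  have h1 := (exch hN hNO h (mem_AA_of_inf hN hNO h hA)).2.1
  have h2 : N ≤ centralizer (A : Set G) := comm_symm (hA.2.1.trans inf_le_right)
  exact (le_inf le_rfl h2).trans h1

/-- `C_A(U)` is exact on `N` -/
theorem exact_cu {U A : Subgroup G} (hU : U ≤ N) (hA : A ∈ AA O)
    (hnoU : (centralizer (U : Set G)).relIndex A ≤ (centralizer (A : Set G)).relIndex U) :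
    (A ⊓ centralizer (U : Set G)) ⊔ U ∈ AA O ∧
      (centralizer (N : Set G)).relIndex (A ⊓ centralizer (U : Set G) : Subgroup G) =
        (centralizer ((A ⊓ centralizer (U : Set G) : Subgroup G) : Set G)).relIndex N := by
  have h1 := (swp (eab_mono hN hU) (hU.trans hNO) hA hnoU).2.2
  refine ⟨h1, ?_⟩
  have h2 := (exch hN hNO h h1).1
  rw [relIndex_sup_of_comm (hU.trans (eab_iff.1 hN).1) inf_le_right] at h2
  rw [h2]
  refine relIndex_congr (le_antisymm (inf_le_inf_left _ (centralizer_le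
    (SetLike.coe_subset_coe.2 le_sup_left))) (le_inf inf_le_left ?_))
  refine comm_symm (sup_le (comm_symm inf_le_right) ?_)
  exact hU.trans (comm_symm (inf_le_left.trans (eab_iff.1 hN).1))

end one

/-- an elementary abelian `V ≤ O` centralised by `A ∈ AA(O)` lies in `A` -/
theorem le_of_cent {O V A : Subgroup G} (hV : IsElementaryAbelian 2 V) (hVO : V ≤ O) (hA : A ∈ AA O)
    (hc : A ≤ centralizer (V : Set G)) : V ≤ A := by
  have h1 : (centralizer (V : Set G)).relIndex A ≤ (centralizer (A : Set G)).relIndex V := by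
    rw [relIndex_eq_one.2 hc]
    exact Nat.one_le_iff_ne_zero.2 (ML.GMod.ri_ne _ _)
  exact (le_inf le_rfl (comm_symm hc)).trans (swp hV hVO hA h1).2.1

/-- **`NoA O ⟨V^K⟩`** -/
theorem noA_hul {O K U V : Subgroup G} (hU : IsElementaryAbelian 2 U) (hUO : U ≤ O) (hno : NoA O U)
    (hq : K ≤ normalizer ((O ⊓ centralizer (U : Set G) : Subgroup G) : Set G))
    (hV : IsElementaryAbelian 2 V) (hVO : V ≤ O) (hUV : U ≤ hul V K)
    (hc : ∀ A ∈ AA (O ⊓ centralizer (U : Set G)), A ≤ centralizer (V : Set G)) :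
    (∀ A ∈ AA (O ⊓ centralizer (U : Set G)), hul V K ≤ A) ∧ IsElementaryAbelian 2 (hul V K) ∧ hul V K ≤ O ∧
      NoA O (hul V K) := by
  have h1 : ∀ A ∈ AA (O ⊓ centralizer (U : Set G)), hul V K ≤ A := by
    intro A hA
    refine hul_le fun k hk => ?_
    rw [ChoiceBase.cj_le_iff]
    have h2 := cj_mem_AA k⁻¹ hA
    rw [cj_eq_of_mem_normalizer (hq (K.inv_mem hk))] at h2
    exact le_of_cent hV hVO (mem_AA_of_inf hU hUO hno h2) (hc _ h2)
  obtain ⟨A₀, hA₀⟩ := AA_nonempty (O ⊓ centralizer (U : Set G))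
  refine ⟨h1, eab_mono hA₀.1 (h1 A₀ hA₀), (h1 A₀ hA₀).trans (hA₀.2.1.trans inf_le_left), fun A hA => ?_⟩
  have h2 := exch_inf hU hUO hno hA
  have h3 := h1 _ h2
  have h4 : A ⊓ centralizer (U : Set G) ≤ centralizer (hul V K : Set G) :=
    le_sup_left.trans (((eab_iff.1 h2.1).1).trans (centralizer_le h3))
  have e : (centralizer (hul V K : Set G)).relIndex A = (centralizer (U : Set G)).relIndex A := by
    refine relIndex_congr (le_antisymm (inf_le_inf_left _ (centralizer_le hUV)) (le_inf inf_le_left h4))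
  rw [e]
  exact (hno A hA).trans (ri_mono _ hUV)

/-! ### The two sides -/

/-- **The data of the two sides.** -/
structure TwoP (O D K₁ K₂ E₁ E₂ U₁ W₂ NR QB : Subgroup G) : Prop where
  D1 : D ≤ K₁
  D2 : D ≤ K₂
  e1 : E₁ ≤ K₁
  g1 : K₁ ≤ D ⊔ E₁
  e2 : E₂ ≤ K₂
  el1 : IsElementaryAbelian 2 U₁
  el2 : IsElementaryAbelian 2 W₂
  UO : U₁ ≤ O
  WO : W₂ ≤ O
  KU : K₁ ≤ normalizer (U₁ : Set G)
  KW : K₂ ≤ normalizer (W₂ : Set G)
  q1 : K₁ ≤ normalizer ((O ⊓ centralizer (U₁ : Set G) : Subgroup G) : Set G)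
  q2 : K₂ ≤ normalizer ((O ⊓ centralizer (W₂ : Set G) : Subgroup G) : Set G)
  core1 : ∀ R : Subgroup G, R ≤ O → K₁ ≤ normalizer (R : Set G) → R ≤ centralizer (U₁ : Set G)
  no1 : NoA O U₁
  no2 : NoA O W₂
  RW : NR ≤ W₂
  ER : E₁ ≤ normalizer (NR : Set G)
  noR : ∀ A ∈ AA (O ⊓ centralizer (U₁ : Set G)),
    (centralizer (NR : Set G)).relIndex A ≤ (centralizer (A : Set G)).relIndex NR
  qB : O ⊓ centralizer (U₁ : Set G) ⊓ centralizer (W₂ : Set G) ≤ QB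
  EQ : E₂ ≤ normalizer (QB : Set G)
  nonloc : ∀ R : Subgroup G, R ≤ O → K₁ ≤ normalizer (R : Set G) → E₂ ≤ normalizer (R : Set G) → R = ⊥
  ne : U₁ ≠ ⊥

namespace TwoP

variable {O D K₁ K₂ E₁ E₂ U₁ W₂ NR QB : Subgroup G} (h : TwoP O D K₁ K₂ E₁ E₂ U₁ W₂ NR QB)

/-- `SS = {C_A(W₂) W₂ : A ∈ AA(C_O(U₁))}` -/
def SS (O U₁ W₂ : Subgroup G) : Set (Subgroup G) :=
  {X | ∃ A ∈ AA (O ⊓ centralizer (U₁ : Set G)), X = (A ⊓ centralizer (W₂ : Set G)) ⊔ W₂}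

include h

theorem aa_cj1 {g : G} (hg : g ∈ K₁) {A : Subgroup G} (hA : A ∈ AA (O ⊓ centralizer (U₁ : Set G))) :
    cj g A ∈ AA (O ⊓ centralizer (U₁ : Set G)) := by
  have h1 := cj_mem_AA g hA
  rwa [cj_eq_of_mem_normalizer (h.q1 hg)] at h1

theorem aa_cj2 {g : G} (hg : g ∈ K₂) {A : Subgroup G} (hA : A ∈ AA (O ⊓ centralizer (W₂ : Set G))) :
    cj g A ∈ AA (O ⊓ centralizer (W₂ : Set G)) := by
  have h1 := cj_mem_AA g hA
  rwa [cj_eq_of_mem_normalizer (h.q2 hg)] at h1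

theorem mem_O1 {A : Subgroup G} (hA : A ∈ AA (O ⊓ centralizer (U₁ : Set G))) : A ∈ AA O :=
  mem_AA_of_inf h.el1 h.UO h.no1 hA

theorem mem_O2 {A : Subgroup G} (hA : A ∈ AA (O ⊓ centralizer (W₂ : Set G))) : A ∈ AA O :=
  mem_AA_of_inf h.el2 h.WO h.no2 hA

theorem U_le {A : Subgroup G} (hA : A ∈ AA (O ⊓ centralizer (U₁ : Set G))) : U₁ ≤ A :=
  le_of_mem_inf h.el1 h.UO h.no1 hA

theorem W_le {A : Subgroup G} (hA : A ∈ AA (O ⊓ centralizer (W₂ : Set G))) : W₂ ≤ A :=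
  le_of_mem_inf h.el2 h.WO h.no2 hA

theorem ss_mem {X : Subgroup G} (hX : X ∈ SS O U₁ W₂) : X ∈ AA (O ⊓ centralizer (W₂ : Set G)) := by
  obtain ⟨A, hA, rfl⟩ := hX
  exact exch_inf h.el2 h.WO h.no2 (h.mem_O1 hA)

theorem ss_cent (hg : Inv K₁ (SS O U₁ W₂)) {X : Subgroup G} (hX : X ∈ SS O U₁ W₂) :
    X ≤ centralizer (U₁ : Set G) := by
  have h1 : sSup (SS O U₁ W₂) ≤ O := sSup_le fun Z hZ => (h.ss_mem hZ).2.1.trans inf_le_left
  exact (le_sSup hX).trans (h.core1 _ h1 (Inv.le_normalizer hg))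

/-- `[U₁, W₂] = 1` -/
theorem comm (hg : Inv K₁ (SS O U₁ W₂)) : W₂ ≤ centralizer (U₁ : Set G) := by
  obtain ⟨A, hA⟩ := AA_nonempty (O ⊓ centralizer (U₁ : Set G))
  exact le_trans le_sup_right (h.ss_cent hg ⟨A, hA, rfl⟩)

/-- `SS = AA(C_O(U₁)) ∩ AA(C_O(W₂))` -/
theorem ss_eq (hg : Inv K₁ (SS O U₁ W₂)) :
    SS O U₁ W₂ = AA (O ⊓ centralizer (U₁ : Set G)) ∩ AA (O ⊓ centralizer (W₂ : Set G)) := by
  ext X
  constructor
  · intro hX
    have h1 := h.ss_mem hX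
    exact ⟨mem_inf_of_mem_AA h.el1 h.UO h.no1 (h.mem_O2 h1) (h.ss_cent hg hX), h1⟩
  · rintro ⟨hX, hX'⟩
    refine ⟨X, hX, ?_⟩
    rw [inf_eq_left.2 (hX'.2.1.trans inf_le_right)]
    exact (sup_eq_left.2 (h.W_le hX')).symm

/-- if no `C_A(NR)`, `A ∈ AA(C_O(U₁))`, moves `W₂`, then `SS` is `K₁`-invariant -/
theorem fail₁ (hf : ∀ A ∈ AA (O ⊓ centralizer (U₁ : Set G)),
    A ⊓ centralizer (NR : Set G) ≤ centralizer (W₂ : Set G)) : Inv K₁ (SS O U₁ W₂) := by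
  have key : ∀ A ∈ AA (O ⊓ centralizer (U₁ : Set G)),
      (A ⊓ centralizer (W₂ : Set G)) ⊔ W₂ = (A ⊓ centralizer (NR : Set G)) ⊔ NR := by
    intro A hA
    have e : A ⊓ centralizer (NR : Set G) = A ⊓ centralizer (W₂ : Set G) :=
      le_antisymm (le_inf inf_le_left (hf A hA)) (inf_le_inf_left _ (centralizer_le h.RW))
    have h1 := (exact_cu h.el2 h.WO h.no2 h.RW (h.mem_O1 hA) (h.noR A hA)).1
    have h2 := (exch h.el2 h.WO h.no2 (h.mem_O1 hA)).2.2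
    rw [e] at h1 ⊢
    refine (Subgroup.eq_of_le_of_card_ge (sup_le_sup_left h.RW _) ?_).symm
    rw [← mm_eq h1, ← mm_eq h2]
  have hD : Inv D (SS O U₁ W₂) := by
    rintro g hg _ ⟨A, hA, rfl⟩
    refine ⟨cj g A, h.aa_cj1 (h.D1 hg) hA, ?_⟩
    rw [cj_sup', cj_inf, cj_centralizer, cj_eq_of_mem_normalizer (h.KW (h.D2 hg))]
  have hE : Inv E₁ (SS O U₁ W₂) := by
    rintro g hg _ ⟨A, hA, rfl⟩
    have hA' := h.aa_cj1 (h.e1 hg) hA
    refine ⟨cj g A, hA', ?_⟩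
    rw [key A hA, key _ hA', cj_sup', cj_inf, cj_centralizer, cj_eq_of_mem_normalizer (h.ER hg)]
  exact (hD.sup hE).mono h.g1

/-- `A ∈ AA(C_O(W₂))`: `C_A(U₁) U₁ ∈ SS` contains all `K₁`-conjugates of `W₂` -/
theorem half (hg : Inv K₁ (SS O U₁ W₂)) {A : Subgroup G} (hA : A ∈ AA (O ⊓ centralizer (W₂ : Set G))) :
    (A ⊓ centralizer (U₁ : Set G)) ⊔ U₁ ∈ SS O U₁ W₂ ∧
      ∀ g ∈ K₁, cj g W₂ ≤ (A ⊓ centralizer (U₁ : Set G)) ⊔ U₁ := by
  have h1 : (A ⊓ centralizer (U₁ : Set G)) ⊔ U₁ ∈ AA (O ⊓ centralizer (U₁ : Set G)) :=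
    exch_inf h.el1 h.UO h.no1 (h.mem_O2 hA)
  have h2 : (A ⊓ centralizer (U₁ : Set G)) ⊔ U₁ ∈ AA (O ⊓ centralizer (W₂ : Set G)) := by
    refine mem_inf_of_mem_AA h.el2 h.WO h.no2 (h.mem_O1 h1) (sup_le ?_ (comm_symm (h.comm hg)))
    exact inf_le_left.trans (hA.2.1.trans inf_le_right)
  have h3 : (A ⊓ centralizer (U₁ : Set G)) ⊔ U₁ ∈ SS O U₁ W₂ := by
    rw [h.ss_eq hg]
    exact ⟨h1, h2⟩
  refine ⟨h3, fun g hgY => ?_⟩
  have h4 := hg g⁻¹ (K₁.inv_mem hgY) _ h3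
  rw [h.ss_eq hg] at h4
  rw [ChoiceBase.cj_le_iff]
  exact h.W_le h4.2

/-- `X₁ = ⟨W₂^K₁⟩ U₁` -/
theorem X_le (hg : Inv K₁ (SS O U₁ W₂)) {A : Subgroup G} (hA : A ∈ AA (O ⊓ centralizer (W₂ : Set G))) :
    (⨆ k : K₁, cj (k : G) W₂) ⊔ U₁ ≤ (A ⊓ centralizer (U₁ : Set G)) ⊔ U₁ :=
  sup_le (iSup_le fun k => (h.half hg hA).2 k k.2) le_sup_right

/-- some `E₂`-conjugate of a member of `SS` is not in `SS` -/
theorem exists_exit (hg : Inv K₁ (SS O U₁ W₂)) : ∃ F ∈ AA (O ⊓ centralizer (W₂ : Set G)), F ≤ QB ∧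
    ¬ F ≤ centralizer (U₁ : Set G) := by
  by_contra hcon
  push Not at hcon
  have hE : Inv E₂ (SS O U₁ W₂) := by
    intro p hp A hA
    have hA' := hA
    rw [h.ss_eq hg] at hA'
    have h1 := h.aa_cj2 (h.e2 hp) hA'.2
    have h2 : cj p A ≤ QB := by
      have h3 : A ≤ QB := (le_inf (le_inf (hA'.1.2.1.trans inf_le_left) (hA'.1.2.1.trans inf_le_right))
        (hA'.2.2.1.trans inf_le_right)).trans h.qB
      have h4 := cj_mono p h3
      rwa [cj_eq_of_mem_normalizer (h.EQ hp)] at h4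
    rw [h.ss_eq hg]
    exact ⟨mem_inf_of_mem_AA h.el1 h.UO h.no1 (h.mem_O2 h1) (hcon _ h1 h2), h1⟩
  have h0 : sSup (SS O U₁ W₂) = ⊥ :=
    h.nonloc _ (sSup_le fun Z hZ => (h.ss_mem hZ).2.1.trans inf_le_left) (Inv.le_normalizer hg) (Inv.le_normalizer hE)
  obtain ⟨A, hA⟩ := AA_nonempty (O ⊓ centralizer (U₁ : Set G))
  have h1 : (A ⊓ centralizer (W₂ : Set G)) ⊔ W₂ ∈ SS O U₁ W₂ := ⟨A, hA, rfl⟩
  have h2 := le_sSup h1
  rw [h.ss_eq hg] at h1
  rw [h0] at h2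
  exact h.ne (le_bot_iff.1 ((h.U_le h1.1).trans h2))

/-- **The two exits.** -/
theorem main :
    (∃ A ∈ AA (O ⊓ centralizer (U₁ : Set G)), A ∈ AA O ∧ U₁ ≤ A ∧
      ¬ A ⊓ centralizer (NR : Set G) ≤ centralizer (W₂ : Set G) ∧
      (centralizer (W₂ : Set G)).relIndex (A ⊓ centralizer (NR : Set G) : Subgroup G) =
        (centralizer ((A ⊓ centralizer (NR : Set G) : Subgroup G) : Set G)).relIndex W₂) ∨
    (∃ X₁ : Subgroup G, X₁ = (⨆ k : K₁, cj (k : G) W₂) ⊔ U₁ ∧ IsElementaryAbelian 2 X₁ ∧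
      K₁ ≤ normalizer (X₁ : Set G) ∧ W₂ ≤ X₁ ∧ U₁ ≤ X₁ ∧ X₁ ≤ O ∧ X₁ ≤ centralizer (U₁ : Set G) ∧
      X₁ ≤ centralizer (W₂ : Set G) ∧
      ∃ F ∈ AA (O ⊓ centralizer (W₂ : Set G)), F ∈ AA O ∧ W₂ ≤ F ∧ F ≤ QB ∧ ¬ F ≤ centralizer (U₁ : Set G) ∧
        F ⊓ centralizer (U₁ : Set G) ≤ centralizer (X₁ : Set G) ∧
        (centralizer (X₁ : Set G)).relIndex F = (centralizer (F : Set G)).relIndex X₁) := by
  by_cases hf : ∀ A ∈ AA (O ⊓ centralizer (U₁ : Set G)),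
      A ⊓ centralizer (NR : Set G) ≤ centralizer (W₂ : Set G)
  · right
    have hg := h.fail₁ hf
    obtain ⟨F, hF, hFQ, hmov⟩ := h.exists_exit hg
    have hFO := h.mem_O2 hF
    have hX := h.X_le hg hF
    have hel : IsElementaryAbelian 2 ((F ⊓ centralizer (U₁ : Set G)) ⊔ U₁ : Subgroup G) :=
      (exch h.el1 h.UO h.no1 hFO).2.2.1
    have hXel := eab_mono hel hX
    have hXab := (eab_iff.1 hel).1
    have hcen : F ⊓ centralizer (U₁ : Set G) ≤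
        centralizer (((⨆ k : K₁, cj (k : G) W₂) ⊔ U₁ : Subgroup G) : Set G) :=
      (le_sup_left.trans hXab).trans (centralizer_le hX)
    have hWX : W₂ ≤ (⨆ k : K₁, cj (k : G) W₂) ⊔ U₁ := by
      refine le_trans ?_ le_sup_left
      have h2 := le_iSup (fun k : K₁ => cj (k : G) W₂) ⟨1, K₁.one_mem⟩
      rwa [ChoiceBase.cj_one] at h2
    have hXO := hX.trans (exch h.el1 h.UO h.no1 hFO).2.2.2.1
    refine ⟨_, rfl, hXel, ?_, hWX, le_sup_right, hXO, ?_, ?_, F, hF, hFO, h.W_le hF, hFQ, hmov, hcen, ?_⟩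
    · intro g hgK
      refine mem_normalizer_of_cj_le ?_
      rw [cj_sup', cj_eq_of_mem_normalizer (h.KU hgK)]
      refine sup_le_sup_right ?_ _
      rw [ChoiceBase.cj_le_iff]
      refine iSup_le fun k => ?_
      rw [← ChoiceBase.cj_le_iff, ChoiceBase.cj_cj]
      exact le_iSup (fun k : K₁ => cj (k : G) W₂) ⟨g * k, K₁.mul_mem hgK k.2⟩
    · exact le_sup_right.trans hXab |>.trans (centralizer_le hX) |> comm_symm
    · exact comm_symm ((hWX.trans hX |>.trans hXab).trans (centralizer_le hX))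
    · have e1 : (centralizer (((⨆ k : K₁, cj (k : G) W₂) ⊔ U₁ : Subgroup G) : Set G)).relIndex F =
          (centralizer (U₁ : Set G)).relIndex F :=
        relIndex_congr (le_antisymm (inf_le_inf_left _ (centralizer_le (SetLike.coe_subset_coe.2 le_sup_right)))
          (le_inf inf_le_left hcen))
      refine le_antisymm ?_ (EK3.Rank.le_of_mem hXel hXO hFO)
      rw [e1, (exch h.el1 h.UO h.no1 hFO).1]
      exact ri_mono _ le_sup_right
  · left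
    push Not at hf
    obtain ⟨A, hA, hmov⟩ := hf
    exact ⟨A, hA, h.mem_O1 hA, h.U_le hA, hmov, (exact_cu h.el2 h.WO h.no2 h.RW (h.mem_O1 hA) (h.noR A hA)).2⟩

end TwoP

end Cfsg.Agent.Omega.NOThreeL.RZ.TwoC.SideP
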