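import Cfsg.Agent.Mrg.Omega.NOThreeL.RZ.TwoC.Ab
import Cfsg.Agent.Mrg.Omega.NOThreeL.RZ.TwoC.SideP
import Cfsg.Agent.Mrg.Omega.NOThreeL.RZ.LowR

section


/-!
# [R-z] (helper855 #24885, helper133 #25243, helper127 #25135): the two sides over the frame `FrE`

`S` a Sylow 2-subgroup, `Z = Ω₁(Z(S))`, `Y = ⟨P*(S)⟩`, `V* = ⟨Z^Y⟩ ≤ O = O₂(C_G(Z))`, `R, B ≤ V*` are normalised by `Y`,
`N_{K₁}(S)` and `N_{K₂}(S)`, every `A ∈ AA(O)` centralises `R`, `Z₀ = R ∩ Z ≠ 1`, `1 ≠ e ∈ Z ∩ B`, `Y = C_Y(R) C_Y(e)`: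
`FrP S R B e`; moreover `B ∩ R = 1` : `FrE S R B e`. `K₁ = C_G(e)`, `K₂ = C_G(Z₀)`, `U₁ = ⟨Z^{K₁}⟩`, `W₂ = ⟨V*^{K₂}⟩`,
`NR = ⟨Z^{Y C_G(R)}⟩`.

* `FrP.lK1`, `lK2`, `lX` : `K₁`, `K₂`, `Y C_G(R)` are local; `FrP.nl` : `⟨K₁, C_Y(R)⟩` is nonlocal;
* `FrP.QR_cent` : `O₂(C_G(R))` centralises `V*`; `FrP.W2` : `W₂ ≤ A` for `A ∈ AA(C_O(⟨Z^{K₂}⟩))`;
* `FrP.twoP` : `SideP.TwoP`;
* **`FrP.main`, `FrE.main`** : (alpha) or (beta).
-/

set_option autoImplicit false
set_option linter.unusedSectionVars false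

namespace Cfsg.Agent.Omega.NOThreeL.RZ.TwoC

open Subgroup Cfsg
open Cfsg.Agent.ZN (o2 zc zl jj)
open Cfsg.Agent.ZN.ChoiceBase hiding mem_zc
open Cfsg.Agent.Omega.ML.Final (MLK)
open Cfsg.Agent.Omega.ML.GMod (hul hul_le hul_le_of le_hul cj_le_hul le_normalizer_hul nc ri_mono
  normalizer_le_normalizer_o2)
open Cfsg.Agent.Omega.MinPar Cfsg.Agent.Omega.Frame Cfsg.Agent.Omega.FrameNOFF
open Cfsg.Agent.Omega.NO3b.Bang (le_normalizer_sup cent_symm)
open Cfsg.Agent.Omega.NOThreeL.Star (YS le_YS S_le_YS zl_mono)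
open Cfsg.Agent.Omega.NO3S.EThree.ExactA (eab_iff eab_mono)
open Cfsg.Agent.Omega.EK3.Rank (NoOn)
open Cfsg.Agent.Omega.NoFF.Basic (comm_symm)
open Cfsg.Agent.Omega.GI (relIndex_congr relIndex_sup_of_comm)
open Cfsg.Agent.MinSimple.VModule (zc_le_zl le_normalizer_zl zl_le zc_le zc_sq zc_comm mem_zc le_centralizer_zc
  le_normalizer_o2 o2_isPGroup o2_le le_o2 normalizer_le_normalizer_zc)
open Cfsg.Agent.Omega.NOThreeL.RZ.TwoC.Loc (gml o2C_le inf_cent_le norm_inf)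
open Cfsg.Agent.Omega.NOThreeL.RZ.TwoC.SideP (NoA TwoP)

universe u

variable {G : Type u} [Group G]

/-- **The frame**, without `B ∩ R = 1`. -/
structure FrP [Finite G] (S : Sylow 2 G) (R B : Subgroup G) (e : G) : Prop where
  ctx : Ctx G
  full : Full (S : Subgroup G)
  nR : YS (S : Subgroup G) ≤ normalizer (R : Set G)
  nB : YS (S : Subgroup G) ≤ normalizer (B : Set G)
  sE : centralizer ({e} : Set G) ⊓ normalizer ((S : Subgroup G) : Set G) ≤ normalizer (R : Set G) ⊓ normalizer (B : Set G)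
  sZ : centralizer ((R ⊓ zc (S : Subgroup G) : Subgroup G) : Set G) ⊓ normalizer ((S : Subgroup G) : Set G) ≤
    normalizer (R : Set G) ⊓ normalizer (B : Set G)
  RV : R ≤ zl (S : Subgroup G) (YS S)
  BV : B ≤ zl (S : Subgroup G) (YS S)
  ne : R ⊓ zc (S : Subgroup G) ≠ ⊥
  hA : ∀ A ∈ AA (o2 (CZ (S : Subgroup G))), A ≤ centralizer (R : Set G)
  low : zl (S : Subgroup G) (YS S) ≤ o2 (CZ (S : Subgroup G))
  vc : zl (S : Subgroup G) (YS S) ≤ centralizer (zl (S : Subgroup G) (YS S) : Set G)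
  vs : ∀ v ∈ zl (S : Subgroup G) (YS S), v ^ 2 = 1
  eZ : e ∈ zc (S : Subgroup G)
  eB : e ∈ B
  e1 : e ≠ 1
  tr : YS (S : Subgroup G) ≤ (YS (S : Subgroup G) ⊓ centralizer (R : Set G)) ⊔
    (YS (S : Subgroup G) ⊓ centralizer ({e} : Set G))

/-- **The frame.** -/
structure FrE [Finite G] (S : Sylow 2 G) (R B : Subgroup G) (e : G) : Prop extends FrP S R B e where
  spl : B ⊓ R = ⊥

/-- `N_G(S)` normalises `⟨P*(S)⟩`. -/
theorem nS_ys [Finite G] {S : Sylow 2 G} :
    normalizer ((S : Subgroup G) : Set G) ≤ normalizer (YS (S : Subgroup G) : Set G) := by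
  intro n hn
  refine mem_normalizer_of_cj_le ?_
  rw [cj, map_le_iff_le_comap]
  refine sSup_le fun P hP => ?_
  rw [← map_le_iff_le_comap]
  exact le_YS ((FrameNOFF.inv S).nF n hn P hP)

namespace FrP

variable [Finite G] {S : Sylow 2 G} {R B : Subgroup G} {e : G} (h : FrP S R B e)
include h

theorem S_le_ys : (S : Subgroup G) ≤ YS (S : Subgroup G) := S_le_YS h.ctx h.full

theorem vel : IsElementaryAbelian 2 (zl (S : Subgroup G) (YS S)) := eab_iff.2 ⟨h.vc, h.vs⟩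

theorem vS : zl (S : Subgroup G) (YS S) ≤ (S : Subgroup G) := h.low.trans o2C_le

theorem R2 : IsPGroup 2 R := S.isPGroup'.to_le (h.RV.trans h.vS)

theorem R1 : R ≠ ⊥ := fun e => h.ne (by rw [e, bot_inf_eq])

theorem zc_ne : zc (S : Subgroup G) ≠ ⊥ := MinSimple.Basic.zc_ne_bot S.isPGroup' (h.ctx.sylow_ne_bot S)

theorem kg {X : Subgroup G} (hL : IsLoc (S : Subgroup G) X) : IsKGroup X :=
  ML.GNN.kgroup_of_isLoc h.ctx h.ctx.not_isPGroup hL

/-! ### `K₁`, `K₂` -/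

theorem C1 : CZ (S : Subgroup G) ≤ centralizer ({e} : Set G) := centralizer_le (Set.singleton_subset_iff.2 h.eZ)

theorem C2 : CZ (S : Subgroup G) ≤ centralizer ((R ⊓ zc (S : Subgroup G) : Subgroup G) : Set G) :=
  centralizer_le inf_le_right

theorem lK1 : IsLoc (S : Subgroup G) (centralizer ({e} : Set G)) := RZ.LowR.isLoc_cent h.eZ h.e1

theorem lK2 : IsLoc (S : Subgroup G) (centralizer ((R ⊓ zc (S : Subgroup G) : Subgroup G) : Set G)) :=
  isLoc_of_le_normalizer S ((le_CZ S).trans h.C2) (h.R2.to_le inf_le_left) h.ne (centralizer_le_normalizer _)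

theorem RK : centralizer (R : Set G) ≤ centralizer ((R ⊓ zc (S : Subgroup G) : Subgroup G) : Set G) :=
  centralizer_le inf_le_left

/-- `Y C_G(R)` is local -/
theorem lX : IsLoc (S : Subgroup G) (YS (S : Subgroup G) ⊔ centralizer (R : Set G)) :=
  isLoc_of_le_normalizer S (h.S_le_ys.trans le_sup_left) h.R2 h.R1 (sup_le h.nR (centralizer_le_normalizer _))

/-- **`⟨K₁, C_Y(R)⟩` is nonlocal** -/
theorem nl {U : Subgroup G} (hU : IsPGroup 2 U) (h1 : centralizer ({e} : Set G) ≤ normalizer (U : Set G))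
    (h2 : YS (S : Subgroup G) ⊓ centralizer (R : Set G) ≤ normalizer (U : Set G)) : U = ⊥ := by
  refine eq_bot_of_norm h.ctx S h.full hU (fun P hP => ?_) (h.C1.trans h1)
  exact (le_YS hP).trans (h.tr.trans (sup_le h2 (inf_le_right.trans h1)))

/-- `⟨K₁, K₂⟩` is nonlocal -/
theorem nonLoc : NonLoc (centralizer ({e} : Set G)) (centralizer ((R ⊓ zc (S : Subgroup G) : Subgroup G) : Set G)) :=
  fun _ hU h1 h2 => h.nl hU h1 ((inf_le_right.trans h.RK).trans h2)

/-- `P ∈ P(S)`, `P ≤ K` is in `C` or in `Y` -/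
theorem le_of_par {P : Subgroup G} (hP : IsPar (S : Subgroup G) P) : P ≤ CZ (S : Subgroup G) ∨
    (IsParS (S : Subgroup G) P ∧ P ≤ YS (S : Subgroup G)) := by
  by_cases hz : P ≤ normalizer (zc (S : Subgroup G) : Set G)
  · exact Or.inl (Nz.le_centralizer_of hP hz)
  · exact Or.inr ⟨⟨hP, hz⟩, le_YS ⟨hP, hz⟩⟩

/-! ### `V* ≤ A` -/

/-- **`O₂(C_G(R))` centralises `V*`** -/
theorem QR_cent : o2 (centralizer (R : Set G)) ≤ centralizer (zl (S : Subgroup G) (YS S) : Set G) := by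
  have hn : YS (S : Subgroup G) ≤ normalizer (o2 (centralizer (R : Set G)) : Set G) :=
    (h.nR.trans (nc _)).trans (normalizer_le_normalizer_o2 _)
  have hS : o2 (centralizer (R : Set G)) ≤ (S : Subgroup G) :=
    le_of_le_normalizer S (o2_isPGroup _) (h.S_le_ys.trans hn)
  refine comm_symm (zl_le (comm_symm (hS.trans (le_CZ S))) ?_)
  exact hn.trans (nc _)

/-- `O₂(K) ∩ C_G(R) ≤ O₂(C_G(R))` for `K ≥ C_G(R)` -/
theorem inf_le_QR {K : Subgroup G} (hK : centralizer (R : Set G) ≤ K) :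
    o2 K ⊓ centralizer (R : Set G) ≤ o2 (centralizer (R : Set G)) :=
  le_o2 inf_le_right ((o2_isPGroup _).to_le inf_le_left)
    (le_trans (le_inf (hK.trans (le_normalizer_o2 _)) Subgroup.le_normalizer) inf_normalizer_le_normalizer_inf)

theorem inf_le_QB {K : Subgroup G} (hK : centralizer (B : Set G) ≤ K) :
    o2 K ⊓ centralizer (B : Set G) ≤ o2 (centralizer (B : Set G)) :=
  le_o2 inf_le_right ((o2_isPGroup _).to_le inf_le_left)
    (le_trans (le_inf (hK.trans (le_normalizer_o2 _)) Subgroup.le_normalizer) inf_normalizer_le_normalizer_inf)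

theorem BK : centralizer (B : Set G) ≤ centralizer ({e} : Set G) :=
  centralizer_le (Set.singleton_subset_iff.2 h.eB)

/-- `NR = ⟨Z^{Y C_G(R)}⟩ ≤ W₂` -/
theorem NR_le : zl (S : Subgroup G) (YS (S : Subgroup G) ⊔ centralizer (R : Set G)) ≤
    hul (zl (S : Subgroup G) (YS S)) (centralizer ((R ⊓ zc (S : Subgroup G) : Subgroup G) : Set G)) := by
  refine le_trans (zl_le ((zc_le_zl _ _).trans (le_hul (zl (S : Subgroup G) (YS S)) (centralizer (R : Set G)))) ?_)
    (hul_mono h.RK)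
  exact sup_le (norm_hul (le_normalizer_zl _ _) (h.nR.trans (nc _))) (le_normalizer_hul _ _)

variable (hM : MLK.{u, u})
include hM

/-- every `A ∈ AA(C_O(⟨Z^{K₂}⟩))` centralises `V*` -/
theorem cent_V {A : Subgroup G} (hA : A ∈ AA (o2 (CZ (S : Subgroup G)) ⊓
    centralizer (zl (S : Subgroup G) (centralizer ((R ⊓ zc (S : Subgroup G) : Subgroup G) : Set G)) : Set G))) :
    A ≤ centralizer (zl (S : Subgroup G) (YS S) : Set G) := by
  have hU := h.lK2.zl_le S h.ctx.char2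
  have hO2 : o2 (centralizer ((R ⊓ zc (S : Subgroup G) : Subgroup G) : Set G)) ≤ o2 (CZ (S : Subgroup G)) :=
    o2_le_o2 S (le_CZ S) h.C2
  have hel : IsElementaryAbelian 2 (zl (S : Subgroup G) (centralizer ((R ⊓ zc (S : Subgroup G) : Subgroup G) : Set G))) :=
    eab_iff.2 ⟨fun x hx => mem_centralizer_iff.2 fun y hy => zc_comm _ _ (hU hy) _ (hU hx), fun x hx => zc_sq _ _ (hU hx)⟩
  have h1 : A ∈ AA (o2 (CZ (S : Subgroup G))) :=
    EK3.Rank.mem_AA_of_inf hel ((hU.trans (zc_le _)).trans hO2)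
      (fun A' hel' hA' => gml hM h.ctx h.lK2 (h.kg h.lK2) hA' (eab_iff.1 hel').2) hA
  have h2 : A ≤ o2 (centralizer ((R ⊓ zc (S : Subgroup G) : Subgroup G) : Set G)) :=
    hA.2.1.trans (inf_cent_le h.lK2.le (zc_le_zl _ _) (le_normalizer_zl _ _))
  exact ((le_inf h2 (h.hA A h1)).trans (h.inf_le_QR h.RK)).trans h.QR_cent

/-- `W₂`: contained in every `A ∈ AA(C_O(⟨Z^{K₂}⟩))`, elementary abelian, `≤ O`, `(NO)` -/
theorem W2 :
    (∀ A ∈ AA (o2 (CZ (S : Subgroup G)) ⊓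
      centralizer (zl (S : Subgroup G) (centralizer ((R ⊓ zc (S : Subgroup G) : Subgroup G) : Set G)) : Set G)),
      hul (zl (S : Subgroup G) (YS S)) (centralizer ((R ⊓ zc (S : Subgroup G) : Subgroup G) : Set G)) ≤ A) ∧
    IsElementaryAbelian 2
      (hul (zl (S : Subgroup G) (YS S)) (centralizer ((R ⊓ zc (S : Subgroup G) : Subgroup G) : Set G))) ∧
    hul (zl (S : Subgroup G) (YS S)) (centralizer ((R ⊓ zc (S : Subgroup G) : Subgroup G) : Set G)) ≤
      o2 (CZ (S : Subgroup G)) ∧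
    NoA (o2 (CZ (S : Subgroup G)))
      (hul (zl (S : Subgroup G) (YS S)) (centralizer ((R ⊓ zc (S : Subgroup G) : Subgroup G) : Set G))) := by
  have hU := h.lK2.zl_le S h.ctx.char2
  have hO2 : o2 (centralizer ((R ⊓ zc (S : Subgroup G) : Subgroup G) : Set G)) ≤ o2 (CZ (S : Subgroup G)) :=
    o2_le_o2 S (le_CZ S) h.C2
  refine SideP.noA_hul (U := zl (S : Subgroup G) (centralizer ((R ⊓ zc (S : Subgroup G) : Subgroup G) : Set G)))
    (eab_iff.2 ⟨fun x hx => mem_centralizer_iff.2 fun y hy => zc_comm _ _ (hU hy) _ (hU hx),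
      fun x hx => zc_sq _ _ (hU hx)⟩) ((hU.trans (zc_le _)).trans hO2)
    (fun A hA => gml hM h.ctx h.lK2 (h.kg h.lK2) hA.2.1 (eab_iff.1 hA.1).2)
    (norm_inf h.C2 (zc_le_zl _ _) (le_normalizer_zl _ _)) h.vel h.low ?_ fun A hA => h.cent_V hM hA
  exact zl_le ((zc_le_zl _ _).trans (le_hul _ _)) (le_normalizer_hul _ _)

/-- **The two sides.** -/
theorem twoP :
    TwoP (o2 (CZ (S : Subgroup G))) (CZ (S : Subgroup G)) (centralizer ({e} : Set G))
      (centralizer ((R ⊓ zc (S : Subgroup G) : Subgroup G) : Set G))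
      ((centralizer ({e} : Set G) ⊓ YS (S : Subgroup G)) ⊔
        (centralizer ({e} : Set G) ⊓ normalizer ((S : Subgroup G) : Set G)))
      (YS (S : Subgroup G) ⊓ centralizer (R : Set G))
      (zl (S : Subgroup G) (centralizer ({e} : Set G)))
      (hul (zl (S : Subgroup G) (YS S)) (centralizer ((R ⊓ zc (S : Subgroup G) : Subgroup G) : Set G)))
      (zl (S : Subgroup G) (YS (S : Subgroup G) ⊔ centralizer (R : Set G)))
      (o2 (centralizer (B : Set G))) := by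
  have hO1 : o2 (centralizer ({e} : Set G)) ≤ o2 (CZ (S : Subgroup G)) := o2_le_o2 S (le_CZ S) h.C1
  have hz1 := h.lK1.zl_le S h.ctx.char2
  have hVW : zl (S : Subgroup G) (YS S) ≤
      hul (zl (S : Subgroup G) (YS S)) (centralizer ((R ⊓ zc (S : Subgroup G) : Subgroup G) : Set G)) := le_hul _ _
  obtain ⟨_, w1, w2, w3⟩ := h.W2 hM
  exact
  { D1 := h.C1
    D2 := h.C2
    e1 := sup_le inf_le_left inf_le_left
    g1 := by
      refine h.lK1.le_of_forall S (le_sup_right.trans le_sup_right) fun P hP hPK => ?_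
      rcases h.le_of_par hP with h1 | h1
      · exact h1.trans le_sup_left
      · exact ((le_inf hPK h1.2).trans le_sup_left).trans le_sup_right
    e2 := inf_le_right.trans h.RK
    el1 := eab_iff.2 ⟨fun x hx => mem_centralizer_iff.2 fun y hy => zc_comm _ _ (hz1 hy) _ (hz1 hx),
      fun x hx => zc_sq _ _ (hz1 hx)⟩
    el2 := w1
    UO := (hz1.trans (zc_le _)).trans hO1
    WO := w2
    KU := le_normalizer_zl _ _
    KW := le_normalizer_hul _ _
    q1 := norm_inf h.C1 (zc_le_zl _ _) (le_normalizer_zl _ _)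
    q2 := norm_inf h.C2 ((zc_le_zl _ _).trans hVW) (le_normalizer_hul _ _)
    core1 := by
      intro X hX hn
      have h1 : X ≤ o2 (centralizer ({e} : Set G)) := le_o2 (hX.trans ((o2_le _).trans h.C1)) ((o2_isPGroup _).to_le hX) hn
      intro x hx
      rw [mem_centralizer_iff]
      intro y hy
      exact ((mem_zc.1 (hz1 hy)).2.1 _ (h1 hx)).symm
    no1 := fun A hA => gml hM h.ctx h.lK1 (h.kg h.lK1) hA.2.1 (eab_iff.1 hA.1).2
    no2 := w3
    RW := h.NR_le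
    ER := by
      refine sup_le (inf_le_right.trans (le_sup_left.trans (le_normalizer_zl _ _))) ?_
      intro n hn'
      have hn := hn'.2
      have hnR := (h.sE hn').1
      have h1 : cj n (zl (S : Subgroup G) (YS (S : Subgroup G) ⊔ centralizer (R : Set G))) =
          zl (cj n (S : Subgroup G)) (cj n (YS (S : Subgroup G) ⊔ centralizer (R : Set G))) :=
        (MinSimple.CosetFam.zl_conj n _ _).symm
      rw [mem_normalizer_iff_cj, h1, cj_eq_of_mem_normalizer hn,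
        cj_eq_of_mem_normalizer (le_normalizer_sup (A := zpowers n) (by rw [zpowers_le]; exact nS_ys hn)
          (by rw [zpowers_le]; exact nc _ hnR) (mem_zpowers n))]
    noR := fun A hA => gml hM h.ctx h.lX (h.kg h.lX) (hA.2.1.trans inf_le_left) (eab_iff.1 hA.1).2
    qB := by
      refine le_trans (le_inf ?_ ?_) (h.inf_le_QB h.BK)
      · exact inf_le_left.trans (inf_cent_le h.lK1.le (zc_le_zl _ _) (le_normalizer_zl _ _))
      · exact inf_le_right.trans (centralizer_le (h.BV.trans hVW))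
    EQ := (inf_le_left.trans h.nB).trans ((nc _).trans (normalizer_le_normalizer_o2 _))
    nonloc := fun X hX h1 h2 => h.nl ((o2_isPGroup _).to_le hX) h1 h2
    ne := fun e => h.zc_ne (le_bot_iff.1 (e ▸ zc_le_zl _ _)) }

/-- **(alpha) or (beta).** -/
theorem main :
    (∃ A ∈ AA (o2 (CZ (S : Subgroup G))), zl (S : Subgroup G) (centralizer ({e} : Set G)) ≤ A ∧
      A ≤ o2 (centralizer ({e} : Set G)) ∧ ∃ F : Subgroup G, F ≤ A ∧ F ≤ o2 (centralizer (R : Set G)) ∧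
      ¬ F ≤ centralizer
        (hul (zl (S : Subgroup G) (YS S)) (centralizer ((R ⊓ zc (S : Subgroup G) : Subgroup G) : Set G)) : Set G) ∧
      (centralizer (hul (zl (S : Subgroup G) (YS S))
        (centralizer ((R ⊓ zc (S : Subgroup G) : Subgroup G) : Set G)) : Set G)).relIndex F =
        (centralizer (F : Set G)).relIndex
          (hul (zl (S : Subgroup G) (YS S)) (centralizer ((R ⊓ zc (S : Subgroup G) : Subgroup G) : Set G)))) ∨
    (∃ X₁ : Subgroup G, IsElementaryAbelian 2 X₁ ∧ centralizer ({e} : Set G) ≤ normalizer (X₁ : Set G) ∧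
      zl (S : Subgroup G) (YS S) ≤ X₁ ∧ zl (S : Subgroup G) (centralizer ({e} : Set G)) ≤ X₁ ∧
      X₁ ≤ o2 (CZ (S : Subgroup G)) ∧
      ∃ F ∈ AA (o2 (CZ (S : Subgroup G))), zl (S : Subgroup G) (YS S) ≤ F ∧
        F ≤ o2 (centralizer ((R ⊓ zc (S : Subgroup G) : Subgroup G) : Set G)) ∧
        F ≤ o2 (centralizer (B : Set G)) ∧
        ¬ F ≤ centralizer (zl (S : Subgroup G) (centralizer ({e} : Set G)) : Set G) ∧
        ¬ F ≤ o2 (centralizer ({e} : Set G)) ∧
        F ⊓ centralizer (zl (S : Subgroup G) (centralizer ({e} : Set G)) : Set G) ≤ centralizer (X₁ : Set G) ∧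
        (centralizer (X₁ : Set G)).relIndex F = (centralizer (F : Set G)).relIndex X₁) := by
  have D := h.twoP hM
  have hVW : zl (S : Subgroup G) (YS S) ≤
      hul (zl (S : Subgroup G) (YS S)) (centralizer ((R ⊓ zc (S : Subgroup G) : Subgroup G) : Set G)) := le_hul _ _
  rcases D.main with ⟨A, hA, hAO, hU, hm, he⟩ | ⟨X₁, _, hel, hn, hW, hU, hO, _, _, F, hF, hFO, hWF, hQ, hm, hc, he⟩
  · refine Or.inl ⟨A, hAO, hU, hA.2.1.trans (inf_cent_le h.lK1.le (zc_le_zl _ _) (le_normalizer_zl _ _)), _,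
      inf_le_left, ?_, hm, he⟩
    have h1 : A ⊓ centralizer (zl (S : Subgroup G) (YS (S : Subgroup G) ⊔ centralizer (R : Set G)) : Set G) ≤
        o2 (YS (S : Subgroup G) ⊔ centralizer (R : Set G)) :=
      (inf_le_inf_right _ hAO.2.1).trans (inf_cent_le h.lX.le (zc_le_zl _ _) (le_normalizer_zl _ _))
    exact (le_inf h1 (inf_le_left.trans (h.hA A hAO))).trans (h.inf_le_QR le_sup_right)
  · refine Or.inr ⟨X₁, hel, hn, hVW.trans hW, hU, hO, F, hFO, hVW.trans hWF, ?_, hQ, hm, ?_, hc, he⟩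
    · exact hF.2.1.trans (inf_cent_le h.lK2.le ((zc_le_zl _ _).trans hVW) (le_normalizer_hul _ _))
    · intro hcon
      apply hm
      have hz1 := h.lK1.zl_le S h.ctx.char2
      intro x hx
      rw [mem_centralizer_iff]
      intro y hy
      exact ((mem_zc.1 (hz1 hy)).2.1 _ (hcon hx)).symm

end FrP

/-- **(alpha) or (beta).** -/
theorem FrE.main [Finite G] {S : Sylow 2 G} {R B : Subgroup G} {e : G} (h : FrE S R B e) (hM : MLK.{u, u}) :
    (∃ A ∈ AA (o2 (CZ (S : Subgroup G))), zl (S : Subgroup G) (centralizer ({e} : Set G)) ≤ A ∧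
      A ≤ o2 (centralizer ({e} : Set G)) ∧ ∃ F : Subgroup G, F ≤ A ∧ F ≤ o2 (centralizer (R : Set G)) ∧
      ¬ F ≤ centralizer
        (hul (zl (S : Subgroup G) (YS S)) (centralizer ((R ⊓ zc (S : Subgroup G) : Subgroup G) : Set G)) : Set G) ∧
      (centralizer (hul (zl (S : Subgroup G) (YS S))
        (centralizer ((R ⊓ zc (S : Subgroup G) : Subgroup G) : Set G)) : Set G)).relIndex F =
        (centralizer (F : Set G)).relIndex
          (hul (zl (S : Subgroup G) (YS S)) (centralizer ((R ⊓ zc (S : Subgroup G) : Subgroup G) : Set G)))) ∨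
    (∃ X₁ : Subgroup G, IsElementaryAbelian 2 X₁ ∧ centralizer ({e} : Set G) ≤ normalizer (X₁ : Set G) ∧
      zl (S : Subgroup G) (YS S) ≤ X₁ ∧ zl (S : Subgroup G) (centralizer ({e} : Set G)) ≤ X₁ ∧
      X₁ ≤ o2 (CZ (S : Subgroup G)) ∧
      ∃ F ∈ AA (o2 (CZ (S : Subgroup G))), zl (S : Subgroup G) (YS S) ≤ F ∧
        F ≤ o2 (centralizer ((R ⊓ zc (S : Subgroup G) : Subgroup G) : Set G)) ∧
        F ≤ o2 (centralizer (B : Set G)) ∧
        ¬ F ≤ centralizer (zl (S : Subgroup G) (centralizer ({e} : Set G)) : Set G) ∧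
        ¬ F ≤ o2 (centralizer ({e} : Set G)) ∧
        F ⊓ centralizer (zl (S : Subgroup G) (centralizer ({e} : Set G)) : Set G) ≤ centralizer (X₁ : Set G) ∧
        (centralizer (X₁ : Set G)).relIndex F = (centralizer (F : Set G)).relIndex X₁) :=
  h.toFrP.main hM

/-- `N_G(S)` normalises `R` and `B`. -/
theorem FrE.of_norm [Finite G] {S : Sylow 2 G} {R B : Subgroup G} {e : G} (ctx : Ctx G) (full : Full (S : Subgroup G))
    (nR : YS (S : Subgroup G) ≤ normalizer (R : Set G)) (nB : YS (S : Subgroup G) ≤ normalizer (B : Set G))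
    (sR : normalizer ((S : Subgroup G) : Set G) ≤ normalizer (R : Set G))
    (sB : normalizer ((S : Subgroup G) : Set G) ≤ normalizer (B : Set G))
    (RV : R ≤ zl (S : Subgroup G) (YS S)) (BV : B ≤ zl (S : Subgroup G) (YS S)) (ne : R ⊓ zc (S : Subgroup G) ≠ ⊥)
    (hA : ∀ A ∈ AA (o2 (CZ (S : Subgroup G))), A ≤ centralizer (R : Set G))
    (low : zl (S : Subgroup G) (YS S) ≤ o2 (CZ (S : Subgroup G)))
    (vc : zl (S : Subgroup G) (YS S) ≤ centralizer (zl (S : Subgroup G) (YS S) : Set G))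
    (vs : ∀ v ∈ zl (S : Subgroup G) (YS S), v ^ 2 = 1) (spl : B ⊓ R = ⊥) (eZ : e ∈ zc (S : Subgroup G)) (eB : e ∈ B)
    (e1 : e ≠ 1) (tr : YS (S : Subgroup G) ≤ (YS (S : Subgroup G) ⊓ centralizer (R : Set G)) ⊔
      (YS (S : Subgroup G) ⊓ centralizer ({e} : Set G))) : FrE S R B e :=
  { ctx := ctx, full := full, nR := nR, nB := nB
    sE := le_inf (inf_le_right.trans sR) (inf_le_right.trans sB)
    sZ := le_inf (inf_le_right.trans sR) (inf_le_right.trans sB)
    RV := RV, BV := BV, ne := ne, hA := hA, low := low, vc := vc, vs := vs, eZ := eZ, eB := eB, e1 := e1, tr := tr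
    spl := spl }

end Cfsg.Agent.Omega.NOThreeL.RZ.TwoC

end

section


/-!
# [K], [H], [I3], [R-z] (bb #25243, #25865, #25809, #26172): the frame with a variable centre `Z₀`

As `AbP.lean` (helper652), but `Z₀ ≤ R ∩ Z` is a variable: `K₁ = C_G(e)`, `K₂ = C_G(Z₀)`, and only the members of
`AA(O)` which lie in `O₂(K₂)` are assumed to centralise `R`.

* `FrV S R B Z₀ e` : the frame;  **`FrV.main`** : (alpha) or (beta);
* `FrV.altR`, `altB` : `P ∈ P*(S)`: `C_S(R) ≤ O₂(P)` or `P = C_P(R) S` (and the same for `B`);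
* `FrV.le_o2_one`, `le_o2_two`, `sep`.
-/

set_option autoImplicit false
set_option linter.unusedSectionVars false

namespace Cfsg.Agent.Omega.NOThreeL.RZ.TwoC

open Subgroup Cfsg
open Cfsg.Agent.ZN (o2 zc zl jj)
open Cfsg.Agent.ZN.ChoiceBase hiding mem_zc
open Cfsg.Agent.Omega.ML.Final (MLK)
open Cfsg.Agent.Omega.ML.GMod (hul hul_le hul_le_of le_hul cj_le_hul le_normalizer_hul nc ri_mono
  normalizer_le_normalizer_o2)
open Cfsg.Agent.Omega.MinPar Cfsg.Agent.Omega.Frame Cfsg.Agent.Omega.FrameNOFF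
open Cfsg.Agent.Omega.NO3b.Bang (le_normalizer_sup cent_symm)
open Cfsg.Agent.Omega.NOThreeL.Star (YS le_YS S_le_YS zl_mono)
open Cfsg.Agent.Omega.NO3S.EThree.ExactA (eab_iff eab_mono)
open Cfsg.Agent.Omega.EK3.Rank (NoOn)
open Cfsg.Agent.Omega.NoFF.Basic (comm_symm)
open Cfsg.Agent.Omega.GI (relIndex_congr relIndex_sup_of_comm)
open Cfsg.Agent.MinSimple.VModule (zc_le_zl le_normalizer_zl zl_le zc_le zc_sq zc_comm mem_zc le_centralizer_zc
  le_normalizer_o2 o2_isPGroup o2_le le_o2 normalizer_le_normalizer_zc)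
open Cfsg.Agent.Omega.NOThreeL.RZ.TwoC.Loc (gml o2C_le inf_cent_le norm_inf)
open Cfsg.Agent.Omega.NOThreeL.RZ.TwoC.SideP (NoA TwoP)

universe u

variable {G : Type u} [Group G]

/-- **The frame.** -/
structure FrV [Finite G] (S : Sylow 2 G) (R B Z₀ : Subgroup G) (e : G) : Prop where
  ctx : Ctx G
  full : Full (S : Subgroup G)
  nR : YS (S : Subgroup G) ≤ normalizer (R : Set G)
  nB : YS (S : Subgroup G) ≤ normalizer (B : Set G)
  sE : centralizer ({e} : Set G) ⊓ normalizer ((S : Subgroup G) : Set G) ≤ normalizer (R : Set G) ⊓ normalizer (B : Set G)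
  sZ : centralizer (Z₀ : Set G) ⊓ normalizer ((S : Subgroup G) : Set G) ≤
    normalizer (R : Set G) ⊓ normalizer (B : Set G)
  RV : R ≤ zl (S : Subgroup G) (YS S)
  BV : B ≤ zl (S : Subgroup G) (YS S)
  Z0R : Z₀ ≤ R ⊓ zc (S : Subgroup G)
  ne : Z₀ ≠ ⊥
  hA : ∀ A ∈ AA (o2 (CZ (S : Subgroup G))), A ≤ o2 (centralizer (Z₀ : Set G)) → A ≤ centralizer (R : Set G)
  low : zl (S : Subgroup G) (YS S) ≤ o2 (CZ (S : Subgroup G))
  vc : zl (S : Subgroup G) (YS S) ≤ centralizer (zl (S : Subgroup G) (YS S) : Set G)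
  vs : ∀ v ∈ zl (S : Subgroup G) (YS S), v ^ 2 = 1
  eZ : e ∈ zc (S : Subgroup G)
  eB : e ∈ B
  e1 : e ≠ 1
  tr : YS (S : Subgroup G) ≤ (YS (S : Subgroup G) ⊓ centralizer (R : Set G)) ⊔
    (YS (S : Subgroup G) ⊓ centralizer ({e} : Set G))
  spl : B ⊓ R = ⊥

namespace FrV

variable [Finite G] {S : Sylow 2 G} {R B Z₀ : Subgroup G} {e : G} (h : FrV S R B Z₀ e)
include h

theorem S_le_ys : (S : Subgroup G) ≤ YS (S : Subgroup G) := S_le_YS h.ctx h.full

theorem vel : IsElementaryAbelian 2 (zl (S : Subgroup G) (YS S)) := eab_iff.2 ⟨h.vc, h.vs⟩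

theorem vS : zl (S : Subgroup G) (YS S) ≤ (S : Subgroup G) := h.low.trans o2C_le

theorem R2 : IsPGroup 2 R := S.isPGroup'.to_le (h.RV.trans h.vS)

theorem R1 : R ≠ ⊥ := fun e => h.ne (le_bot_iff.1 (e ▸ h.Z0R.trans inf_le_left))

theorem zc_ne : zc (S : Subgroup G) ≠ ⊥ := MinSimple.Basic.zc_ne_bot S.isPGroup' (h.ctx.sylow_ne_bot S)

theorem kg {X : Subgroup G} (hL : IsLoc (S : Subgroup G) X) : IsKGroup X :=
  ML.GNN.kgroup_of_isLoc h.ctx h.ctx.not_isPGroup hL

/-! ### `K₁`, `K₂` -/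

theorem C1 : CZ (S : Subgroup G) ≤ centralizer ({e} : Set G) := centralizer_le (Set.singleton_subset_iff.2 h.eZ)

theorem C2 : CZ (S : Subgroup G) ≤ centralizer (Z₀ : Set G) :=
  centralizer_le (h.Z0R.trans inf_le_right)

theorem lK1 : IsLoc (S : Subgroup G) (centralizer ({e} : Set G)) := RZ.LowR.isLoc_cent h.eZ h.e1

theorem lK2 : IsLoc (S : Subgroup G) (centralizer (Z₀ : Set G)) :=
  isLoc_of_le_normalizer S ((le_CZ S).trans h.C2) (h.R2.to_le (h.Z0R.trans inf_le_left)) h.ne (centralizer_le_normalizer _)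

theorem RK : centralizer (R : Set G) ≤ centralizer (Z₀ : Set G) :=
  centralizer_le (h.Z0R.trans inf_le_left)

/-- `Y C_G(R)` is local -/
theorem lX : IsLoc (S : Subgroup G) (YS (S : Subgroup G) ⊔ centralizer (R : Set G)) :=
  isLoc_of_le_normalizer S (h.S_le_ys.trans le_sup_left) h.R2 h.R1 (sup_le h.nR (centralizer_le_normalizer _))

/-- **`⟨K₁, C_Y(R)⟩` is nonlocal** -/
theorem nl {U : Subgroup G} (hU : IsPGroup 2 U) (h1 : centralizer ({e} : Set G) ≤ normalizer (U : Set G))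
    (h2 : YS (S : Subgroup G) ⊓ centralizer (R : Set G) ≤ normalizer (U : Set G)) : U = ⊥ := by
  refine eq_bot_of_norm h.ctx S h.full hU (fun P hP => ?_) (h.C1.trans h1)
  exact (le_YS hP).trans (h.tr.trans (sup_le h2 (inf_le_right.trans h1)))

/-- `⟨K₁, K₂⟩` is nonlocal -/
theorem nonLoc : NonLoc (centralizer ({e} : Set G)) (centralizer (Z₀ : Set G)) :=
  fun _ hU h1 h2 => h.nl hU h1 ((inf_le_right.trans h.RK).trans h2)

/-- `P ∈ P(S)`, `P ≤ K` is in `C` or in `Y` -/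
theorem le_of_par {P : Subgroup G} (hP : IsPar (S : Subgroup G) P) : P ≤ CZ (S : Subgroup G) ∨
    (IsParS (S : Subgroup G) P ∧ P ≤ YS (S : Subgroup G)) := by
  by_cases hz : P ≤ normalizer (zc (S : Subgroup G) : Set G)
  · exact Or.inl (Nz.le_centralizer_of hP hz)
  · exact Or.inr ⟨⟨hP, hz⟩, le_YS ⟨hP, hz⟩⟩

/-! ### `V* ≤ A` -/

/-- **`O₂(C_G(R))` centralises `V*`** -/
theorem QR_cent : o2 (centralizer (R : Set G)) ≤ centralizer (zl (S : Subgroup G) (YS S) : Set G) := by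
  have hn : YS (S : Subgroup G) ≤ normalizer (o2 (centralizer (R : Set G)) : Set G) :=
    (h.nR.trans (nc _)).trans (normalizer_le_normalizer_o2 _)
  have hS : o2 (centralizer (R : Set G)) ≤ (S : Subgroup G) :=
    le_of_le_normalizer S (o2_isPGroup _) (h.S_le_ys.trans hn)
  refine comm_symm (zl_le (comm_symm (hS.trans (le_CZ S))) ?_)
  exact hn.trans (nc _)

/-- `O₂(K) ∩ C_G(R) ≤ O₂(C_G(R))` for `K ≥ C_G(R)` -/
theorem inf_le_QR {K : Subgroup G} (hK : centralizer (R : Set G) ≤ K) :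
    o2 K ⊓ centralizer (R : Set G) ≤ o2 (centralizer (R : Set G)) :=
  le_o2 inf_le_right ((o2_isPGroup _).to_le inf_le_left)
    (le_trans (le_inf (hK.trans (le_normalizer_o2 _)) Subgroup.le_normalizer) inf_normalizer_le_normalizer_inf)

theorem inf_le_QB {K : Subgroup G} (hK : centralizer (B : Set G) ≤ K) :
    o2 K ⊓ centralizer (B : Set G) ≤ o2 (centralizer (B : Set G)) :=
  le_o2 inf_le_right ((o2_isPGroup _).to_le inf_le_left)
    (le_trans (le_inf (hK.trans (le_normalizer_o2 _)) Subgroup.le_normalizer) inf_normalizer_le_normalizer_inf)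

theorem BK : centralizer (B : Set G) ≤ centralizer ({e} : Set G) :=
  centralizer_le (Set.singleton_subset_iff.2 h.eB)

/-- `NR = ⟨Z^{Y C_G(R)}⟩ ≤ W₂` -/
theorem NR_le : zl (S : Subgroup G) (YS (S : Subgroup G) ⊔ centralizer (R : Set G)) ≤
    hul (zl (S : Subgroup G) (YS S)) (centralizer (Z₀ : Set G)) := by
  refine le_trans (zl_le ((zc_le_zl _ _).trans (le_hul (zl (S : Subgroup G) (YS S)) (centralizer (R : Set G)))) ?_)
    (hul_mono h.RK)
  exact sup_le (norm_hul (le_normalizer_zl _ _) (h.nR.trans (nc _))) (le_normalizer_hul _ _)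

variable (hM : MLK.{u, u})
include hM

/-- every `A ∈ AA(C_O(⟨Z^{K₂}⟩))` centralises `V*` -/
theorem cent_V {A : Subgroup G} (hA : A ∈ AA (o2 (CZ (S : Subgroup G)) ⊓
    centralizer (zl (S : Subgroup G) (centralizer (Z₀ : Set G)) : Set G))) :
    A ≤ centralizer (zl (S : Subgroup G) (YS S) : Set G) := by
  have hU := h.lK2.zl_le S h.ctx.char2
  have hO2 : o2 (centralizer (Z₀ : Set G)) ≤ o2 (CZ (S : Subgroup G)) :=
    o2_le_o2 S (le_CZ S) h.C2
  have hel : IsElementaryAbelian 2 (zl (S : Subgroup G) (centralizer (Z₀ : Set G))) :=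
    eab_iff.2 ⟨fun x hx => mem_centralizer_iff.2 fun y hy => zc_comm _ _ (hU hy) _ (hU hx), fun x hx => zc_sq _ _ (hU hx)⟩
  have h1 : A ∈ AA (o2 (CZ (S : Subgroup G))) :=
    EK3.Rank.mem_AA_of_inf hel ((hU.trans (zc_le _)).trans hO2)
      (fun A' hel' hA' => gml hM h.ctx h.lK2 (h.kg h.lK2) hA' (eab_iff.1 hel').2) hA
  have h2 : A ≤ o2 (centralizer (Z₀ : Set G)) :=
    hA.2.1.trans (inf_cent_le h.lK2.le (zc_le_zl _ _) (le_normalizer_zl _ _))
  exact ((le_inf h2 (h.hA A h1 h2)).trans (h.inf_le_QR h.RK)).trans h.QR_cent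

/-- `W₂`: contained in every `A ∈ AA(C_O(⟨Z^{K₂}⟩))`, elementary abelian, `≤ O`, `(NO)` -/
theorem W2 :
    (∀ A ∈ AA (o2 (CZ (S : Subgroup G)) ⊓
      centralizer (zl (S : Subgroup G) (centralizer (Z₀ : Set G)) : Set G)),
      hul (zl (S : Subgroup G) (YS S)) (centralizer (Z₀ : Set G)) ≤ A) ∧
    IsElementaryAbelian 2
      (hul (zl (S : Subgroup G) (YS S)) (centralizer (Z₀ : Set G))) ∧
    hul (zl (S : Subgroup G) (YS S)) (centralizer (Z₀ : Set G)) ≤
      o2 (CZ (S : Subgroup G)) ∧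
    NoA (o2 (CZ (S : Subgroup G)))
      (hul (zl (S : Subgroup G) (YS S)) (centralizer (Z₀ : Set G))) := by
  have hU := h.lK2.zl_le S h.ctx.char2
  have hO2 : o2 (centralizer (Z₀ : Set G)) ≤ o2 (CZ (S : Subgroup G)) :=
    o2_le_o2 S (le_CZ S) h.C2
  refine SideP.noA_hul (U := zl (S : Subgroup G) (centralizer (Z₀ : Set G)))
    (eab_iff.2 ⟨fun x hx => mem_centralizer_iff.2 fun y hy => zc_comm _ _ (hU hy) _ (hU hx),
      fun x hx => zc_sq _ _ (hU hx)⟩) ((hU.trans (zc_le _)).trans hO2)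
    (fun A hA => gml hM h.ctx h.lK2 (h.kg h.lK2) hA.2.1 (eab_iff.1 hA.1).2)
    (norm_inf h.C2 (zc_le_zl _ _) (le_normalizer_zl _ _)) h.vel h.low ?_ fun A hA => h.cent_V hM hA
  exact zl_le ((zc_le_zl _ _).trans (le_hul _ _)) (le_normalizer_hul _ _)

/-- **The two sides.** -/
theorem twoP :
    TwoP (o2 (CZ (S : Subgroup G))) (CZ (S : Subgroup G)) (centralizer ({e} : Set G))
      (centralizer (Z₀ : Set G))
      ((centralizer ({e} : Set G) ⊓ YS (S : Subgroup G)) ⊔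
        (centralizer ({e} : Set G) ⊓ normalizer ((S : Subgroup G) : Set G)))
      (YS (S : Subgroup G) ⊓ centralizer (R : Set G))
      (zl (S : Subgroup G) (centralizer ({e} : Set G)))
      (hul (zl (S : Subgroup G) (YS S)) (centralizer (Z₀ : Set G)))
      (zl (S : Subgroup G) (YS (S : Subgroup G) ⊔ centralizer (R : Set G)))
      (o2 (centralizer (B : Set G))) := by
  have hO1 : o2 (centralizer ({e} : Set G)) ≤ o2 (CZ (S : Subgroup G)) := o2_le_o2 S (le_CZ S) h.C1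
  have hz1 := h.lK1.zl_le S h.ctx.char2
  have hVW : zl (S : Subgroup G) (YS S) ≤
      hul (zl (S : Subgroup G) (YS S)) (centralizer (Z₀ : Set G)) := le_hul _ _
  obtain ⟨_, w1, w2, w3⟩ := h.W2 hM
  exact
  { D1 := h.C1
    D2 := h.C2
    e1 := sup_le inf_le_left inf_le_left
    g1 := by
      refine h.lK1.le_of_forall S (le_sup_right.trans le_sup_right) fun P hP hPK => ?_
      rcases h.le_of_par hP with h1 | h1
      · exact h1.trans le_sup_left
      · exact ((le_inf hPK h1.2).trans le_sup_left).trans le_sup_right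
    e2 := inf_le_right.trans h.RK
    el1 := eab_iff.2 ⟨fun x hx => mem_centralizer_iff.2 fun y hy => zc_comm _ _ (hz1 hy) _ (hz1 hx),
      fun x hx => zc_sq _ _ (hz1 hx)⟩
    el2 := w1
    UO := (hz1.trans (zc_le _)).trans hO1
    WO := w2
    KU := le_normalizer_zl _ _
    KW := le_normalizer_hul _ _
    q1 := norm_inf h.C1 (zc_le_zl _ _) (le_normalizer_zl _ _)
    q2 := norm_inf h.C2 ((zc_le_zl _ _).trans hVW) (le_normalizer_hul _ _)
    core1 := by
      intro X hX hn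
      have h1 : X ≤ o2 (centralizer ({e} : Set G)) := le_o2 (hX.trans ((o2_le _).trans h.C1)) ((o2_isPGroup _).to_le hX) hn
      intro x hx
      rw [mem_centralizer_iff]
      intro y hy
      exact ((mem_zc.1 (hz1 hy)).2.1 _ (h1 hx)).symm
    no1 := fun A hA => gml hM h.ctx h.lK1 (h.kg h.lK1) hA.2.1 (eab_iff.1 hA.1).2
    no2 := w3
    RW := h.NR_le
    ER := by
      refine sup_le (inf_le_right.trans (le_sup_left.trans (le_normalizer_zl _ _))) ?_
      intro n hn'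
      have hn := hn'.2
      have hnR := (h.sE hn').1
      have h1 : cj n (zl (S : Subgroup G) (YS (S : Subgroup G) ⊔ centralizer (R : Set G))) =
          zl (cj n (S : Subgroup G)) (cj n (YS (S : Subgroup G) ⊔ centralizer (R : Set G))) :=
        (MinSimple.CosetFam.zl_conj n _ _).symm
      rw [mem_normalizer_iff_cj, h1, cj_eq_of_mem_normalizer hn,
        cj_eq_of_mem_normalizer (le_normalizer_sup (A := zpowers n) (by rw [zpowers_le]; exact nS_ys hn)
          (by rw [zpowers_le]; exact nc _ hnR) (mem_zpowers n))]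
    noR := fun A hA => gml hM h.ctx h.lX (h.kg h.lX) (hA.2.1.trans inf_le_left) (eab_iff.1 hA.1).2
    qB := by
      refine le_trans (le_inf ?_ ?_) (h.inf_le_QB h.BK)
      · exact inf_le_left.trans (inf_cent_le h.lK1.le (zc_le_zl _ _) (le_normalizer_zl _ _))
      · exact inf_le_right.trans (centralizer_le (h.BV.trans hVW))
    EQ := (inf_le_left.trans h.nB).trans ((nc _).trans (normalizer_le_normalizer_o2 _))
    nonloc := fun X hX h1 h2 => h.nl ((o2_isPGroup _).to_le hX) h1 h2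
    ne := fun e => h.zc_ne (le_bot_iff.1 (e ▸ zc_le_zl _ _)) }

/-- **(alpha) or (beta).** -/
theorem main :
    (∃ A ∈ AA (o2 (CZ (S : Subgroup G))), zl (S : Subgroup G) (centralizer ({e} : Set G)) ≤ A ∧
      A ≤ o2 (centralizer ({e} : Set G)) ∧ ∃ F : Subgroup G, F ≤ A ∧ F ≤ o2 (centralizer (R : Set G)) ∧
      ¬ F ≤ centralizer
        (hul (zl (S : Subgroup G) (YS S)) (centralizer (Z₀ : Set G)) : Set G) ∧
      (centralizer (hul (zl (S : Subgroup G) (YS S))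
        (centralizer (Z₀ : Set G)) : Set G)).relIndex F =
        (centralizer (F : Set G)).relIndex
          (hul (zl (S : Subgroup G) (YS S)) (centralizer (Z₀ : Set G)))) ∨
    (∃ X₁ : Subgroup G, IsElementaryAbelian 2 X₁ ∧ centralizer ({e} : Set G) ≤ normalizer (X₁ : Set G) ∧
      zl (S : Subgroup G) (YS S) ≤ X₁ ∧ zl (S : Subgroup G) (centralizer ({e} : Set G)) ≤ X₁ ∧
      X₁ ≤ o2 (CZ (S : Subgroup G)) ∧
      ∃ F ∈ AA (o2 (CZ (S : Subgroup G))), zl (S : Subgroup G) (YS S) ≤ F ∧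
        F ≤ o2 (centralizer (Z₀ : Set G)) ∧
        F ≤ o2 (centralizer (B : Set G)) ∧
        ¬ F ≤ centralizer (zl (S : Subgroup G) (centralizer ({e} : Set G)) : Set G) ∧
        ¬ F ≤ o2 (centralizer ({e} : Set G)) ∧
        F ⊓ centralizer (zl (S : Subgroup G) (centralizer ({e} : Set G)) : Set G) ≤ centralizer (X₁ : Set G) ∧
        (centralizer (X₁ : Set G)).relIndex F = (centralizer (F : Set G)).relIndex X₁) := by
  have D := h.twoP hM
  have hVW : zl (S : Subgroup G) (YS S) ≤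
      hul (zl (S : Subgroup G) (YS S)) (centralizer (Z₀ : Set G)) := le_hul _ _
  rcases D.main with ⟨A, hA, hAO, hU, hm, he⟩ | ⟨X₁, _, hel, hn, hW, hU, hO, _, _, F, hF, hFO, hWF, hQ, hm, hc, he⟩
  · refine Or.inl ⟨A, hAO, hU, hA.2.1.trans (inf_cent_le h.lK1.le (zc_le_zl _ _) (le_normalizer_zl _ _)), _,
      inf_le_left, ?_, hm, he⟩
    have h1 : A ⊓ centralizer (zl (S : Subgroup G) (YS (S : Subgroup G) ⊔ centralizer (R : Set G)) : Set G) ≤
        o2 (YS (S : Subgroup G) ⊔ centralizer (R : Set G)) :=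
      (inf_le_inf_right _ hAO.2.1).trans (inf_cent_le h.lX.le (zc_le_zl _ _) (le_normalizer_zl _ _))
    exact (le_inf h1 (inf_le_right.trans (centralizer_le (h.RV.trans (zl_mono le_sup_left))))).trans
      (h.inf_le_QR le_sup_right)
  · refine Or.inr ⟨X₁, hel, hn, hVW.trans hW, hU, hO, F, hFO, hVW.trans hWF, ?_, hQ, hm, ?_, hc, he⟩
    · exact hF.2.1.trans (inf_cent_le h.lK2.le ((zc_le_zl _ _).trans hVW) (le_normalizer_hul _ _))
    · intro hcon
      apply hm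
      have hz1 := h.lK1.zl_le S h.ctx.char2
      intro x hx
      rw [mem_centralizer_iff]
      intro y hy
      exact ((mem_zc.1 (hz1 hy)).2.1 _ (hcon hx)).symm

omit hM

/-! ### The minimal parabolics -/

/-- `P ∈ P*(S)`, `X = R` or `B`: `C_S(X) ≤ O₂(P)` or `P = C_P(X) S` -/
theorem altX {X P : Subgroup G} (nX : YS (S : Subgroup G) ≤ normalizer (X : Set G)) (hP : IsParS (S : Subgroup G) P) :
    (S : Subgroup G) ⊓ centralizer (X : Set G) ≤ o2 P ∨ (P ⊓ centralizer (X : Set G)) ⊔ (S : Subgroup G) = P := by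
  have hPR : P ≤ normalizer (X : Set G) := (le_YS hP).trans nX
  have hn : P ≤ normalizer ((P ⊓ centralizer (X : Set G) : Subgroup G) : Set G) := by
    intro p hp
    rw [mem_normalizer_iff_cj, cj_inf, cj_centralizer, cj_eq_of_mem_normalizer (le_normalizer hp),
      cj_eq_of_mem_normalizer (hPR hp)]
  rcases hP.toIsPar.sup_eq_or_inf_le S inf_le_left hn with h1 | h1
  · exact Or.inr h1
  · exact Or.inl ((le_inf inf_le_left (le_inf (inf_le_left.trans hP.le) inf_le_right)).trans h1)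

/-- then `P` centralises `X ∩ Z` -/
theorem le_of_alt {X P : Subgroup G} (h1 : (P ⊓ centralizer (X : Set G)) ⊔ (S : Subgroup G) = P) :
    P ≤ centralizer ((X ⊓ zc (S : Subgroup G) : Subgroup G) : Set G) := by
  rw [← h1]
  exact sup_le (inf_le_right.trans (centralizer_le inf_le_left))
    ((le_CZ S).trans (centralizer_le inf_le_right))

/-- `P ∈ P*(S)` with `C_S(X) ≤ O₂(P)` normalises `C_S(X)` -/
theorem nJ {X P : Subgroup G} (nX : YS (S : Subgroup G) ≤ normalizer (X : Set G)) (hP : IsParS (S : Subgroup G) P)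
    (h1 : (S : Subgroup G) ⊓ centralizer (X : Set G) ≤ o2 P) :
    P ≤ normalizer (((S : Subgroup G) ⊓ centralizer (X : Set G) : Subgroup G) : Set G) := by
  have e : (S : Subgroup G) ⊓ centralizer (X : Set G) = o2 P ⊓ centralizer (X : Set G) :=
    le_antisymm (le_inf h1 inf_le_right) (inf_le_inf_right _ (hP.isLoc.o2_le S))
  rw [e]
  intro p hp
  rw [mem_normalizer_iff_cj, cj_inf, cj_centralizer, cj_eq_of_mem_normalizer (le_normalizer_o2 P hp),
    cj_eq_of_mem_normalizer (nX (le_YS hP hp))]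

/-- **side 1**: `F ≤ O₂(P)` for all `P ∈ P(S)` -/
theorem le_o2_one {F : Subgroup G} (hFO : F ≤ o2 (CZ (S : Subgroup G))) (hFR : F ≤ centralizer (R : Set G))
    (hF2 : F ≤ o2 (centralizer (Z₀ : Set G))) {P : Subgroup G} (hP : IsPar (S : Subgroup G) P) : F ≤ o2 P := by
  rcases h.le_of_par hP with h1 | ⟨h1, _⟩
  · exact hFO.trans (o2_le_o2 S hP.le h1)
  · rcases h.altX h.nR h1 with h2 | h2
    · exact (le_inf (hFO.trans Loc.o2C_le) hFR).trans h2
    · exact hF2.trans (o2_le_o2 S hP.le ((h.le_of_alt h2).trans (centralizer_le h.Z0R)))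

theorem nQR : (S : Subgroup G) ≤ normalizer (o2 (centralizer (R : Set G)) : Set G) :=
  ((h.S_le_ys.trans h.nR).trans (nc _)).trans (normalizer_le_normalizer_o2 _)

theorem QR_le : o2 (centralizer (R : Set G)) ≤ (S : Subgroup G) :=
  le_of_le_normalizer S (o2_isPGroup _) h.nQR

/-- **side 2**: `F ≤ O₂(P)` for all `P ∈ P(S)` -/
theorem le_o2_two {F : Subgroup G} (hFO : F ≤ o2 (CZ (S : Subgroup G)))
    (hFQ : F ≤ o2 (centralizer (R : Set G))) {P : Subgroup G}
    (hP : IsPar (S : Subgroup G) P) : F ≤ o2 P := by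
  rcases h.le_of_par hP with h1 | ⟨h1, _⟩
  · exact hFO.trans (o2_le_o2 S hP.le h1)
  · rcases h.altX h.nR h1 with h2 | h2
    · exact (le_inf (hFO.trans Loc.o2C_le) (hFQ.trans (o2_le _))).trans h2
    · refine hFQ.trans (le_o2 (h.QR_le.trans hP.le) (o2_isPGroup _) ?_)
      rw [← h2]
      exact sup_le (inf_le_right.trans (le_normalizer_o2 _)) h.nQR

/-- `C_{V*}(S) ≤ Z` -/
theorem fixV {v : G} (hv : v ∈ zl (S : Subgroup G) (YS S)) (hs : ∀ s ∈ (S : Subgroup G), s * v = v * s) :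
    v ∈ zc (S : Subgroup G) := mem_zc.2 ⟨h.vS hv, hs, h.vs v hv⟩

/-- **`g ∈ N(R) ∩ N(B)` which centralises `z y` centralises `z` and `y`** -/
theorem sep {g z y : G} (hgR : g ∈ normalizer (R : Set G)) (hgB : g ∈ normalizer (B : Set G)) (hz : z ∈ R) (hy : y ∈ B)
    (hc : g * (z * y) = z * y * g) : g * z = z * g ∧ g * y = y * g := by
  have h1 : g * z * g⁻¹ ∈ R := (mem_normalizer_iff.1 hgR z).1 hz
  have h2 : g * y * g⁻¹ ∈ B := (mem_normalizer_iff.1 hgB y).1 hy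
  have e1 : z⁻¹ * (g * z * g⁻¹) = y * (g * y * g⁻¹)⁻¹ := by
    have e2 : g * z * g⁻¹ * (g * y * g⁻¹) = z * y := by
      calc g * z * g⁻¹ * (g * y * g⁻¹) = g * (z * y) * g⁻¹ := by group
        _ = z * y * g * g⁻¹ := by rw [hc]
        _ = z * y := by group
    calc z⁻¹ * (g * z * g⁻¹) = z⁻¹ * (g * z * g⁻¹ * (g * y * g⁻¹)) * (g * y * g⁻¹)⁻¹ := by group
      _ = z⁻¹ * (z * y) * (g * y * g⁻¹)⁻¹ := by rw [e2]
      _ = y * (g * y * g⁻¹)⁻¹ := by group
  have h3 : z⁻¹ * (g * z * g⁻¹) ∈ B ⊓ R :=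
    ⟨by rw [e1]; exact B.mul_mem hy (B.inv_mem h2), R.mul_mem (R.inv_mem hz) h1⟩
  rw [h.spl, mem_bot] at h3
  have h4 : g * z * g⁻¹ = z := (inv_mul_eq_one.1 h3).symm
  have h5 : g * y * g⁻¹ = y := by
    rw [h3] at e1
    exact (mul_inv_eq_one.1 e1.symm).symm
  exact ⟨mul_inv_eq_iff_eq_mul.1 h4, mul_inv_eq_iff_eq_mul.1 h5⟩

end FrV

end Cfsg.Agent.Omega.NOThreeL.RZ.TwoC

end

section


/-!
# [R-z] (helper133 #25243; helper616's fill-in (f1)): `V* ≤ O₂(C_G(Z))`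

`Y = ⟨P*(S)⟩`, `R`, `B` with `V* = ⟨Z^Y⟩ ≤ B R`, `R = ⟨(R ∩ Z)^Y⟩`, `B ≤ ⟨Z^{C_Y(R)}⟩`, `R ∩ Z ≠ 1`, `1 ≠ e ∈ Z`,
`Y = C_Y(R) C_Y(e)`.

* `conj_of_tr` : `e^Y = e^{C_Y(R)}`;
* `lowR` : `R ≤ O₂(C_G(Z))`;  `lowB` : `B ≤ O₂(C_G(Z))`;  **`low_star`** : `V* ≤ O₂(C_G(Z))`.
-/

set_option autoImplicit false
set_option linter.unusedSectionVars false

namespace Cfsg.Agent.Omega.NOThreeL.RZ.TwoC.LowP

open Subgroup Cfsg
open Cfsg.Agent.ZN (o2 zc zl jj)
open Cfsg.Agent.ZN.ChoiceBase hiding mem_zc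
open Cfsg.Agent.Omega.ML.GMod (hul hul_le hul_le_of le_hul cj_le_hul le_normalizer_hul nc)
open Cfsg.Agent.Omega.MinPar Cfsg.Agent.Omega.Frame Cfsg.Agent.Omega.FrameNOFF
open Cfsg.Agent.Omega.NOThreeL.Star (YS le_YS S_le_YS)
open Cfsg.Agent.MinSimple.VModule (zc_le_zl le_normalizer_zl zl_le zc_le mem_zc le_centralizer_zc
  le_normalizer_o2 o2_isPGroup o2_le le_o2)

universe u

variable {G : Type u} [Group G] [Finite G] {S : Sylow 2 G} {R B : Subgroup G} {e : G}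

/-- `e^Y = e^{C_Y(R)}` -/
theorem conj_of_tr {Y : Subgroup G} (nR : Y ≤ normalizer (R : Set G))
    (tr : Y ≤ (Y ⊓ centralizer (R : Set G)) ⊔ (Y ⊓ centralizer ({e} : Set G))) {y : G} (hy : y ∈ Y) :
    ∃ c ∈ Y, c ∈ centralizer (R : Set G) ∧ c * e * c⁻¹ = y * e * y⁻¹ := by
  have hn : Y ⊓ centralizer ({e} : Set G) ≤ normalizer ((Y ⊓ centralizer (R : Set G) : Subgroup G) : Set G) := by
    intro x hx
    rw [mem_normalizer_iff_cj, cj_inf, cj_centralizer, cj_eq_of_mem_normalizer (le_normalizer hx.1),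
      cj_eq_of_mem_normalizer (nR hx.1)]
  have h1 : y ∈ (((Y ⊓ centralizer (R : Set G)) ⊔ (Y ⊓ centralizer ({e} : Set G)) : Subgroup G) : Set G) := tr hy
  rw [coe_mul_of_right_le_normalizer_left _ _ hn, Set.mem_mul] at h1
  obtain ⟨c, hc, x, hx, rfl⟩ := h1
  refine ⟨c, hc.1, hc.2, ?_⟩
  have h2 : x * e = e * x := mem_centralizer_singleton_iff.1 hx.2
  calc c * e * c⁻¹ = c * (e * x) * x⁻¹ * c⁻¹ := by group
    _ = c * (x * e) * x⁻¹ * c⁻¹ := by rw [h2]
    _ = c * x * e * (c * x)⁻¹ := by group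

/-- `R ≤ O₂(C_G(Z))` -/
theorem lowR (hc : IsCharacteristicTwoType G) (nR : YS (S : Subgroup G) ≤ normalizer (R : Set G))
    (gR : R ≤ NoFF.Basic.V (R ⊓ zc (S : Subgroup G)) (YS (S : Subgroup G))) (eZ : e ∈ zc (S : Subgroup G)) (e1 : e ≠ 1)
    (tr : YS (S : Subgroup G) ≤ (YS (S : Subgroup G) ⊓ centralizer (R : Set G)) ⊔
      (YS (S : Subgroup G) ⊓ centralizer ({e} : Set G))) : R ≤ o2 (CZ (S : Subgroup G)) :=
  LowR.low_of hc nR gR eZ e1 fun _ hy => conj_of_tr nR tr hy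

/-- `B ≤ O₂(C_G(Z))` -/
theorem lowB (hc : IsCharacteristicTwoType G) (R2 : IsPGroup 2 R) (ne : R ⊓ zc (S : Subgroup G) ≠ ⊥)
    (gB : B ≤ hul (zc (S : Subgroup G)) (centralizer (R : Set G))) : B ≤ o2 (CZ (S : Subgroup G)) := by
  have hC : CZ (S : Subgroup G) ≤ centralizer ((R ⊓ zc (S : Subgroup G) : Subgroup G) : Set G) :=
    centralizer_le inf_le_right
  have hL : IsLoc (S : Subgroup G) (centralizer ((R ⊓ zc (S : Subgroup G) : Subgroup G) : Set G)) :=
    isLoc_of_le_normalizer S ((le_CZ S).trans hC) (R2.to_le inf_le_left) ne (centralizer_le_normalizer _)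
  have h1 : hul (zc (S : Subgroup G)) (centralizer (R : Set G)) ≤
      zl (S : Subgroup G) (centralizer ((R ⊓ zc (S : Subgroup G) : Subgroup G) : Set G)) :=
    hul_le_of (zc_le_zl _ _) ((centralizer_le inf_le_left).trans (le_normalizer_zl _ _))
  exact gB.trans (h1.trans (((hL.zl_le S hc).trans (zc_le _)).trans (o2_le_o2 S (le_CZ S) hC)))

/-- **`V* ≤ O₂(C_G(Z))`** -/
theorem low_star (hc : IsCharacteristicTwoType G) (nR : YS (S : Subgroup G) ≤ normalizer (R : Set G))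
    (R2 : IsPGroup 2 R) (gR : R ≤ NoFF.Basic.V (R ⊓ zc (S : Subgroup G)) (YS (S : Subgroup G)))
    (ne : R ⊓ zc (S : Subgroup G) ≠ ⊥) (eZ : e ∈ zc (S : Subgroup G)) (e1 : e ≠ 1)
    (tr : YS (S : Subgroup G) ≤ (YS (S : Subgroup G) ⊓ centralizer (R : Set G)) ⊔
      (YS (S : Subgroup G) ⊓ centralizer ({e} : Set G)))
    (gB : B ≤ hul (zc (S : Subgroup G)) (centralizer (R : Set G)))
    (hV : zl (S : Subgroup G) (YS S) ≤ B ⊔ R) : zl (S : Subgroup G) (YS S) ≤ o2 (CZ (S : Subgroup G)) :=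
  hV.trans (sup_le (lowB hc R2 ne gB) (lowR hc nR gR eZ e1 tr))

end Cfsg.Agent.Omega.NOThreeL.RZ.TwoC.LowP

end
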