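import Cfsg.Agent.Mrg.Omega.NOThreeL.RZ.TwoC.DecE
import Cfsg.Agent.Mrg.Omega.NOThreeL.RZ.TwoC.AbP


/-!
# [R-z] (#25243): the frame `FrE` from the blocks

`V* = zl S Y`, `Y = YS S`. `JB S V` is the product of the best offenders of `S` on `V`, `E1 S = ⟨JB^Y⟩`.

* `best_of_mem` : Thompson, `A ∈ AA(O)`, `V ≤ O` : `A` is a best offender on `V` (or centralises `V`);
* `nS_E1` : `N_G(S)` normalises `E1 S`;
* `low_of` : `V* ≤ O₂(C_G(Z))` if `1 ≠ Z₀ ≤ Z ∩ R₀`;
* **`frE_of`** : `Dec S Y V* N E R₀`, `Orbs`, `R₀ = C_{V*}(E1)`, `∏ N b = [V*, E1]`, `R₀ ∩ Z ≠ 1`, imply `FrE S R₀ (∏ N b) e`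
  for the vector `e` of full support.
-/

set_option autoImplicit false
set_option linter.unusedSectionVars false

namespace Cfsg.Agent.Omega.NOThreeL.RZ.TwoC.FrEOf

open Subgroup Cfsg
open Cfsg.Agent.ZN (o2 zc zl jj)
open Cfsg.Agent.ZN.ChoiceBase hiding mem_zc
open Cfsg.Agent.Omega.MinPar Cfsg.Agent.Omega.Frame Cfsg.Agent.Omega.FrameNOFF
open Cfsg.Agent.Omega.FFThm (ElemM OffM)
open Cfsg.Agent.Omega.NO1.BestOff (Best exists_best)
open Cfsg.Agent.Omega.NO3b.Bang (le_normalizer_sup cent_symm offM_of_abel)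
open Cfsg.Agent.Omega.NOThreeL.Star (YS le_YS S_le_YS zl_mono)
open Cfsg.Agent.Omega.NOThreeL.RRed.Blk
open Cfsg.Agent.Omega.NO3S.EThree.ExactA (eab_iff eab_mono)
open Cfsg.Agent.MinSimple.VModule (zc_le_zl le_normalizer_zl zl_le zc_le zc_sq zc_comm mem_zc le_centralizer_zc
  le_normalizer_o2 o2_isPGroup o2_le le_o2 normalizer_le_normalizer_zc)
open Cfsg.Agent.Omega.NOThreeL.RTree (RB)
open scoped Pointwise

universe u v

variable {G : Type u} [Group G]

/-- The product of the best offenders of `S` on `V` (it contains `C_S(V)`). -/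
def JB (S V : Subgroup G) : Subgroup G := sSup {A : Subgroup G | A ≤ S ∧ Best V A}

/-- `E₁ = ⟨JB^Y⟩` -/
def E1 (S : Subgroup G) : Subgroup G := NoFF.Basic.V (JB S (zl S (YS S))) (YS S)

theorem le_JB {S V A : Subgroup G} (hA : A ≤ S) (h : Best V A) : A ≤ JB S V := le_sSup ⟨hA, h⟩

theorem JB_le {S V : Subgroup G} : JB S V ≤ S := sSup_le fun _ h => h.1

theorem JB_le_E1 {S : Subgroup G} : JB S (zl S (YS S)) ≤ E1 S := RZ.Z_le _ _

theorem norm_E1 {S : Subgroup G} : YS S ≤ normalizer (E1 S : Set G) := RZ.le_norm_V _ _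

section fin

variable [Finite G] {S : Sylow 2 G}

/-- **Thompson.** -/
theorem best_of_mem {O V A : Subgroup G} (hV : IsElementaryAbelian 2 V) (hVO : V ≤ O) (hA : A ∈ AA O) : Best V A := by
  refine ⟨offM_of_abel (eab_iff.1 hA.1).1 (eab_iff.1 hA.1).2, fun F hF2 _ => ?_⟩
  have hc : F ≤ centralizer ((V ⊓ centralizer (F : Set G) : Subgroup G) : Set G) := fun f hf =>
    mem_centralizer_iff.2 fun v hv => (mem_centralizer_iff.1 hv.2 f hf).symm
  have hFe := eab_mono hA.1 hF2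
  have hCe := eab_mono hV (inf_le_left (b := centralizer (F : Set G)))
  have h1 := Cfsg.Agent.PLocal.ElemAbSup.isElementaryAbelian_sup hCe hFe hc
  have h2 := hA.2.2 _ h1 (sup_le (inf_le_left.trans hVO) (hF2.trans hA.2.1))
  have h3 := Cfsg.Agent.PLocal.ElemAbSup.card_sup_mul_card_inf hc
  have h4 : Nat.card ↥((V ⊓ centralizer (F : Set G)) ⊓ F) ≤ Nat.card ↥(V ⊓ centralizer (A : Set G)) := by
    refine Subgroup.card_le_of_le (le_inf (inf_le_left.trans inf_le_left) fun x hx => mem_centralizer_iff.2 fun a ha => ?_)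
    exact congrArg (fun t : A => (t : G)) (hA.1.1.is_comm.comm ⟨a, ha⟩ ⟨x, hF2 hx.2⟩)
  calc Nat.card F * Nat.card ↥(V ⊓ centralizer (F : Set G)) =
      Nat.card ↥(V ⊓ centralizer (F : Set G)) * Nat.card F := mul_comm _ _
    _ = _ := h3.symm
    _ ≤ _ := Nat.mul_le_mul h2 h4

/-- conjugates of best offenders -/
theorem best_cj {V A : Subgroup G} (h : Best V A) (g : G) : Best (cj g V) (cj g A) := by
  have hcc : ∀ X : Subgroup G, centralizer ((cj g X : Subgroup G) : Set G) = cj g (centralizer (X : Set G)) :=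
    fun X => (cj_centralizer g X).symm
  refine ⟨⟨fun a ha => ?_, fun a ha b hb => ?_⟩, fun F h2 h1 => ?_⟩
  · rw [hcc, mem_cj]
    have := h.sq _ (mem_cj.1 ha)
    have e : (g⁻¹ * a * g) ^ 2 = g⁻¹ * a ^ 2 * g := by rw [pow_two, pow_two]; group
    rwa [e] at this
  · rw [hcc, mem_cj]
    have := h.comm _ (mem_cj.1 ha) _ (mem_cj.1 hb)
    have e : g⁻¹ * a * g * (g⁻¹ * b * g) * (g⁻¹ * a * g)⁻¹ * (g⁻¹ * b * g)⁻¹ = g⁻¹ * (a * b * a⁻¹ * b⁻¹) * g := by
      group
    rwa [e] at this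
  · have e0 : ∀ X : Subgroup G, cj g (cj g⁻¹ X) = X := fun X => by rw [cj_cj, mul_inv_cancel, cj_one]
    have e0' : ∀ X : Subgroup G, cj g⁻¹ (cj g X) = X := fun X => by rw [cj_cj, inv_mul_cancel, cj_one]
    have h3 : A ⊓ centralizer (V : Set G) ≤ cj g⁻¹ F := by
      rw [hcc, ← cj_inf] at h1
      have := cj_mono g⁻¹ h1
      rwa [e0'] at this
    have h4 : cj g⁻¹ F ≤ A := by
      have := cj_mono g⁻¹ h2
      rwa [e0'] at this
    have h5 := h.max _ h4 h3
    have e2 : Nat.card ↥(cj g V ⊓ centralizer (F : Set G)) = Nat.card ↥(V ⊓ centralizer (cj g⁻¹ F : Set G)) := by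
      conv_lhs => rw [← e0 F, hcc, ← cj_inf, card_cj]
    rw [e2, hcc, ← cj_inf, card_cj, card_cj, ← card_cj g⁻¹ F]
    exact h5

theorem nS_Vs : normalizer ((S : Subgroup G) : Set G) ≤ normalizer (zl (S : Subgroup G) (YS S) : Set G) :=
  norm_V_of (normalizer_le_normalizer_zc _) nS_ys

theorem nS_JB : normalizer ((S : Subgroup G) : Set G) ≤
    normalizer (JB (S : Subgroup G) (zl (S : Subgroup G) (YS S)) : Set G) := by
  intro n hn
  refine mem_normalizer_of_cj_le ?_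
  rw [cj, map_le_iff_le_comap]
  refine sSup_le fun A hA => ?_
  rw [← map_le_iff_le_comap]
  have h1 := best_cj hA.2 n
  rw [cj_eq_of_mem_normalizer (nS_Vs hn)] at h1
  refine le_JB ?_ h1
  have h2 := cj_mono n hA.1
  rwa [cj_eq_of_mem_normalizer hn] at h2

/-- **`N_G(S)` normalises `E1`** -/
theorem nS_E1 : normalizer ((S : Subgroup G) : Set G) ≤ normalizer (E1 (S : Subgroup G) : Set G) :=
  norm_V_of nS_JB nS_ys

theorem norm_inf_cent {X V E : Subgroup G} (h1 : X ≤ normalizer (V : Set G)) (h2 : X ≤ normalizer (E : Set G)) :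
    X ≤ normalizer ((V ⊓ centralizer (E : Set G) : Subgroup G) : Set G) := by
  intro x hx
  rw [mem_normalizer_iff_cj, cj_inf, cj_centralizer, cj_eq_of_mem_normalizer (h1 hx), cj_eq_of_mem_normalizer (h2 hx)]

end fin

/-! ### `V* ≤ O` -/

section low

variable {ι : Type v} {L U : Subgroup G} {N E : ι → Subgroup G} {R₀ : Subgroup G} {O : ι → Set G}

theorem le_norm_E [Finite G] {S : Subgroup G} (h : Dec S L U N E R₀) :
    L ≤ normalizer ((⨆ b, E b : Subgroup G) : Set G) := by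
  intro g hg
  refine mem_normalizer_of_cj_le ?_
  change (⨆ b, E b).map (MulAut.conj g).toMonoidHom ≤ _
  rw [Subgroup.map_iSup]
  refine iSup_le fun b => ?_
  obtain ⟨c, _, hc⟩ := h.perm g hg b
  exact hc.le.trans (le_iSup E c)

/-- `y x⁻¹ ∈ X` for `x, y ∈ O b` if `X` contains all conjugates of `e` under `E b` -/
theorem dif_mem {S : Subgroup G} (h : Dec S L U N E R₀) (o : DecE.Orbs L N E O) {e : G} (he : e ∈ DecE.PP N R₀ O)
    {X : Subgroup G} (hX : ∀ b, ∀ g ∈ E b, g * e * g⁻¹ ∈ X) {b : ι} {x y : G} (hx : x ∈ O b) (hy : y ∈ O b) :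
    y * x⁻¹ ∈ X := by
  obtain ⟨n, hn, hc⟩ := he.2 b
  have key : ∀ x ∈ O b, x * n⁻¹ ∈ X := by
    intro x hx
    obtain ⟨g, hg, rfl⟩ := o.tr b n hn x hx
    have hw : g * (n⁻¹ * e) * g⁻¹ = n⁻¹ * e := by
      have h1 : Co N R₀ b ≤ centralizer ({g} : Set G) := by
        refine sup_le (iSup_le fun c => ?_) ?_
        · intro w hw
          rw [mem_centralizer_singleton_iff]
          exact (mem_centralizer_iff.1 (h.EC b c.1 (Ne.symm c.2) hg) w hw)
        · intro w hw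
          rw [mem_centralizer_singleton_iff]
          exact (mem_centralizer_iff.1 (h.ER b hg) w hw)
      have h2 := mem_centralizer_singleton_iff.1 (h1 hc.2)
      rw [← h2, mul_inv_cancel_right]
    have h3 : g * e * g⁻¹ * e⁻¹ = g * n * g⁻¹ * n⁻¹ := by
      have e1 : g * e * g⁻¹ = (g * n * g⁻¹) * (g * (n⁻¹ * e) * g⁻¹) := by group
      rw [e1, hw]; group
    have h4 : e ∈ X := by simpa using hX b 1 (one_mem _)
    rw [← h3]
    exact mul_mem (hX b g hg) (inv_mem h4)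
  have e2 : y * x⁻¹ = (y * n⁻¹) * (x * n⁻¹)⁻¹ := by group
  rw [e2]
  exact mul_mem (key y hy) (inv_mem (key x hx))

end low

section frame

variable [Finite G] {S : Sylow 2 G} {ι : Type v} [Finite ι] {N E : ι → Subgroup G} {R₀ : Subgroup G} {O : ι → Set G}

theorem zl_le_O (hc : Ctx G) {K : Subgroup G} (hK : IsLoc (S : Subgroup G) K) (hC : CZ (S : Subgroup G) ≤ K) :
    zl (S : Subgroup G) K ≤ o2 (CZ (S : Subgroup G)) :=
  ((hK.zl_le S hc.char2).trans (zc_le _)).trans (o2_le_o2 S (le_CZ S) hC)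

/-- **`V* ≤ O₂(C_G(Z))`** -/
theorem low_of (hB : RB S) (h : Dec (S : Subgroup G) (YS (S : Subgroup G)) (zl (S : Subgroup G) (YS S)) N E R₀)
    (o : DecE.Orbs (YS (S : Subgroup G)) N E O)
    (hdif : ∀ b, N b ≤ closure {g | ∃ x ∈ O b, ∃ y ∈ O b, g = y * x⁻¹})
    (ne : R₀ ⊓ zc (S : Subgroup G) ≠ ⊥) {e : G} (he : e ∈ DecE.PP N R₀ O) (eZ : e ∈ zc (S : Subgroup G)) (e1 : e ≠ 1) :
    zl (S : Subgroup G) (YS S) ≤ o2 (CZ (S : Subgroup G)) := by
  have hsq : ∀ v ∈ zl (S : Subgroup G) (YS S), v ^ 2 = 1 := Star.zl_sq hB.ctx.char2 hB.data.noff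
  have hP : IsPGroup 2 (zl (S : Subgroup G) (YS S)) := fun x => ⟨1, Subtype.ext (by simpa using hsq x x.2)⟩
  have hUS : zl (S : Subgroup G) (YS S) ≤ (S : Subgroup G) :=
    le_of_le_normalizer S hP (h.SL.trans (le_normalizer_zl _ _))
  have hR2 : IsPGroup 2 R₀ := S.isPGroup'.to_le (h.RU.trans hUS)
  have l1 : IsLoc (S : Subgroup G) (centralizer ({e} : Set G)) := RZ.LowR.isLoc_cent eZ e1
  have c1 : CZ (S : Subgroup G) ≤ centralizer ({e} : Set G) := centralizer_le (Set.singleton_subset_iff.2 eZ)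
  have c2 : CZ (S : Subgroup G) ≤ centralizer ((R₀ ⊓ zc (S : Subgroup G) : Subgroup G) : Set G) :=
    centralizer_le inf_le_right
  have l2 : IsLoc (S : Subgroup G) (centralizer ((R₀ ⊓ zc (S : Subgroup G) : Subgroup G) : Set G)) :=
    isLoc_of_le_normalizer S ((le_CZ S).trans c2) (hR2.to_le inf_le_left) ne (centralizer_le_normalizer _)
  have z1 := zl_le_O hB.ctx l1 c1
  have z2 := zl_le_O hB.ctx l2 c2
  have hgR := (DecE.gen_eq h hUS hsq rfl).2
  have hEK : ∀ b, E b ≤ centralizer ((R₀ ⊓ zc (S : Subgroup G) : Subgroup G) : Set G) := fun b =>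
    (h.ER b).trans (centralizer_le inf_le_left)
  rw [← h.sup]
  refine sup_le (iSup_le fun b => (hdif b).trans ?_) ?_
  · refine le_trans ?_ z2
    rw [closure_le]
    rintro _ ⟨x, hx, y, hy, rfl⟩
    refine dif_mem h o he (fun b g hg => ?_) hx hy
    exact (mem_normalizer_iff.1 (le_normalizer_zl (S : Subgroup G) _ (hEK b hg)) e).1 (zc_le_zl _ _ eZ)
  · rw [hgR]
    refine NoFF.Basic.V_le fun y hy => ?_
    have hy' := DecE.le_of h o he hy
    obtain ⟨c, hc, x, hx, rfl⟩ := mem_sup_of (inf_le_left.trans (le_norm_E h)) hy'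
    refine le_trans ?_ z1
    rw [map_mul, mul_smul]
    have h1 : MulAut.conj x • (zc (S : Subgroup G) ⊓ R₀) = zc (S : Subgroup G) ⊓ R₀ :=
      DecE.smul_of_norm ((centralizer_le_normalizer _) (by
        have h2 := DecE.E_cent h hx
        exact (centralizer_le (inf_le_right : zc (S : Subgroup G) ⊓ R₀ ≤ R₀)) h2))
    rw [h1]
    rintro _ ⟨w, hw, rfl⟩
    exact (mem_normalizer_iff.1 (le_normalizer_zl (S : Subgroup G) _ hc.2) w).1 (zc_le_zl _ _ hw.1)

/-- **The frame `FrE` from the blocks.** -/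
theorem frE_of [Nonempty ι] (hB : RB S)
    (h : Dec (S : Subgroup G) (YS (S : Subgroup G)) (zl (S : Subgroup G) (YS S)) N E R₀)
    (o : DecE.Orbs (YS (S : Subgroup G)) N E O)
    (hdif : ∀ b, N b ≤ closure {g | ∃ x ∈ O b, ∃ y ∈ O b, g = y * x⁻¹})
    (ne : R₀ ⊓ zc (S : Subgroup G) ≠ ⊥)
    (hR : R₀ = zl (S : Subgroup G) (YS S) ⊓ centralizer (E1 (S : Subgroup G) : Set G))
    (sB : normalizer ((S : Subgroup G) : Set G) ≤ normalizer ((⨆ b, N b : Subgroup G) : Set G)) :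
    ∃ e ∈ DecE.PP N R₀ O, FrE S R₀ (⨆ b, N b) e := by
  have hsq : ∀ v ∈ zl (S : Subgroup G) (YS S), v ^ 2 = 1 := Star.zl_sq hB.ctx.char2 hB.data.noff
  have hP : IsPGroup 2 (zl (S : Subgroup G) (YS S)) := fun x => ⟨1, Subtype.ext (by simpa using hsq x x.2)⟩
  have hUS : zl (S : Subgroup G) (YS S) ≤ (S : Subgroup G) :=
    le_of_le_normalizer S hP (h.SL.trans (le_normalizer_zl _ _))
  obtain ⟨e, he, heS⟩ := DecE.exists_e h o S.isPGroup'
  have e1 : e ≠ 1 := DecE.ne_one h o he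
  have eU : e ∈ zl (S : Subgroup G) (YS S) := DecE.B_le h he.1
  have eZ : e ∈ zc (S : Subgroup G) :=
    mem_zc.2 ⟨hUS eU, fun s hs => (mem_centralizer_iff.1 (heS hs) e rfl).symm, hsq e eU⟩
  have low := low_of hB h o hdif ne he eZ e1
  refine ⟨e, he, FrE.of_norm hB.ctx hB.full h.Rnor (DecE.le_norm_B h) (by rw [hR]; exact norm_inf_cent nS_Vs nS_E1) sB
    (DecE.R_le h) (DecE.B_le h) ne (fun A hA => ?_) low h.ab hsq (DecE.disj h) eZ he.1 e1 ?_⟩
  · have h1 : A ≤ E1 (S : Subgroup G) :=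
      (le_JB (hA.2.1.trans Loc.o2C_le) (best_of_mem (eab_iff.2 ⟨h.ab, hsq⟩) low hA)).trans JB_le_E1
    rw [hR]
    exact cent_symm (inf_le_right.trans (centralizer_le h1))
  · refine (DecE.le_of h o he).trans (sup_le le_sup_right ?_)
    exact (le_inf (DecE.E_le h) (DecE.E_cent h)).trans le_sup_left

end frame

end Cfsg.Agent.Omega.NOThreeL.RZ.TwoC.FrEOf
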