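import Cfsg.Agent.Mrg.Omega.NOThreeL.RZ.TwoC.EndV
import Cfsg.Agent.Mrg.Omega.NOThreeL.RZ.TwoC.AbP
import Cfsg.Agent.Mrg.Omega.TC.No


/-!
# [K], [H], [I3] (bb #25865, #25809, #26298): two complementary classes `R`, `B` of `V*`

`V* = R × B`, `z ∈ R ∩ Z`, `e ∈ B ∩ Z` with `Y = C_Y(B) C_Y(z) = C_Y(R) C_Y(e)`.

* `PairV S R B z e` : the data;  `PairV.frV` : `FrV S R B ⟨z⟩ e`, if every `A ∈ AA(O₂(C(z) ∩ C(e)))` centralises `R`;
* **`PairV.false_of`** : then a contradiction (with `BadG` on both sides).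
-/

set_option autoImplicit false
set_option linter.unusedSectionVars false

namespace Cfsg.Agent.Omega.NOThreeL.RZ.TwoC

open Subgroup Cfsg
open Cfsg.Agent.ZN (o2 zc zl jj)
open Cfsg.Agent.ZN.ChoiceBase hiding mem_zc
open Cfsg.Agent.Omega.ML.Final (MLK)
open Cfsg.Agent.Omega.MinPar Cfsg.Agent.Omega.Frame Cfsg.Agent.Omega.FrameNOFF
open Cfsg.Agent.Omega.NOThreeL.Star (YS le_YS S_le_YS zl_mono)
open Cfsg.Agent.Omega.NO3S.EThree.ExactA (eab_iff)
open Cfsg.Agent.Omega.NoFF.Basic (V)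
open Cfsg.Agent.MinSimple.VModule (le_normalizer_o2 o2_isPGroup o2_le le_o2)
open Cfsg.Agent.Omega.NO3b.EndX (RedP)
open Cfsg.Agent.Omega.KL.TwoS (Mx)
open scoped Pointwise

universe u

variable {G : Type u} [Group G]

/-- **two complementary classes** -/
structure PairV [Finite G] (S : Sylow 2 G) (R B : Subgroup G) (z e : G) : Prop where
  ctx : Ctx G
  full : Full (S : Subgroup G)
  vc : zl (S : Subgroup G) (YS S) ≤ centralizer (zl (S : Subgroup G) (YS S) : Set G)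
  vs : ∀ v ∈ zl (S : Subgroup G) (YS S), v ^ 2 = 1
  nR : YS (S : Subgroup G) ≤ normalizer (R : Set G)
  nB : YS (S : Subgroup G) ≤ normalizer (B : Set G)
  sE : centralizer ({e} : Set G) ⊓ normalizer ((S : Subgroup G) : Set G) ≤ normalizer (R : Set G) ⊓ normalizer (B : Set G)
  sZ : centralizer ({z} : Set G) ⊓ normalizer ((S : Subgroup G) : Set G) ≤ normalizer (R : Set G) ⊓ normalizer (B : Set G)
  gR : R ≤ V (R ⊓ zc (S : Subgroup G)) (YS (S : Subgroup G))
  gB : B ≤ V (B ⊓ zc (S : Subgroup G)) (YS (S : Subgroup G))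
  sup : zl (S : Subgroup G) (YS S) ≤ R ⊔ B
  spl : B ⊓ R = ⊥
  zR : z ∈ R
  zZ : z ∈ zc (S : Subgroup G)
  z1 : z ≠ 1
  eB : e ∈ B
  eZ : e ∈ zc (S : Subgroup G)
  e1 : e ≠ 1
  trZ : YS (S : Subgroup G) ≤ (YS (S : Subgroup G) ⊓ centralizer (B : Set G)) ⊔
    (YS (S : Subgroup G) ⊓ centralizer ({z} : Set G))
  trE : YS (S : Subgroup G) ≤ (YS (S : Subgroup G) ⊓ centralizer (R : Set G)) ⊔
    (YS (S : Subgroup G) ⊓ centralizer ({e} : Set G))

theorem cent_zp (z : G) : centralizer (zpowers z : Set G) = centralizer ({z} : Set G) := by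
  refine le_antisymm (centralizer_le (Set.singleton_subset_iff.2 (mem_zpowers z))) fun g hg => ?_
  rw [mem_centralizer_iff]
  rintro _ ⟨n, rfl⟩
  have h1 : Commute g z := mem_centralizer_singleton_iff.1 hg
  exact (h1.zpow_right n).eq.symm

/-- `V U K` is monotone in `U` -/
theorem v_mono {A B K : Subgroup G} (h : A ≤ B) : V A K ≤ V B K :=
  iSup_mono fun k => (Subgroup.pointwise_smul_le_pointwise_smul_iff (a := MulAut.conj (k : G))).2 h

namespace PairV

variable [Finite G] {S : Sylow 2 G} {R B : Subgroup G} {z e : G} (h : PairV S R B z e)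
include h

theorem low : zl (S : Subgroup G) (YS S) ≤ o2 (CZ (S : Subgroup G)) :=
  h.sup.trans (sup_le (LowP.lowR h.ctx.char2 h.nR h.gR h.eZ h.e1 h.trE)
    (LowP.lowR h.ctx.char2 h.nB h.gB h.zZ h.z1 h.trZ))

theorem frV (hA : ∀ A, Mx (o2 (centralizer ({z} : Set G) ⊓ centralizer ({e} : Set G))) A →
    A ≤ centralizer (R : Set G)) : FrV S R B (zpowers z) e where
  ctx := h.ctx
  full := h.full
  nR := h.nR
  nB := h.nB
  sE := h.sE
  sZ := by
    rw [cent_zp]
    exact h.sZ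
  RV := by
    rw [← v_eq]
    exact h.gR.trans (v_mono inf_le_right)
  BV := by
    rw [← v_eq]
    exact h.gB.trans (v_mono inf_le_right)
  Z0R := by
    rw [zpowers_le]
    exact ⟨h.zR, h.zZ⟩
  ne := by
    rw [Ne, zpowers_eq_bot]
    exact h.z1
  hA := by
    intro A hA' hAz
    have hC1 : CZ (S : Subgroup G) ≤ centralizer ({z} : Set G) ⊓ centralizer ({e} : Set G) :=
      le_inf (centralizer_le (Set.singleton_subset_iff.2 h.zZ)) (centralizer_le (Set.singleton_subset_iff.2 h.eZ))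
    have h1 : o2 (centralizer ({z} : Set G) ⊓ centralizer ({e} : Set G)) ≤ o2 (CZ (S : Subgroup G)) :=
      o2_le_o2 S (le_CZ S) hC1
    have h2 : A ≤ o2 (centralizer ({z} : Set G) ⊓ centralizer ({e} : Set G)) := by
      rw [cent_zp] at hAz
      exact hAz.trans (o2_le_o2 S ((le_CZ S).trans hC1) inf_le_left)
    exact hA A ⟨h2, (eab_iff.1 hA'.1).2, fun B hB hB2 =>
      hA'.2.2 B (eab_iff.2 ⟨KL.TwoS.comm_of_sq hB2, hB2⟩) (hB.trans h1)⟩
  low := h.low
  vc := h.vc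
  vs := h.vs
  eZ := h.eZ
  eB := h.eB
  e1 := h.e1
  tr := h.trE
  spl := h.spl

/-- **two complementary classes, `R` centralised by `AA(O₂(C(z) ∩ C(e)))`** -/
theorem false_of (hA : ∀ A, Mx (o2 (centralizer ({z} : Set G) ⊓ centralizer ({e} : Set G))) A →
      A ≤ centralizer (R : Set G)) (hM : MLK.{u, u}) (hR : RedP.{u, u}) (hE : ML.Ex.Two.Ext.{u, u})
    (b1 : BadG (centralizer ({e} : Set G) ⊓ QQ (S : Subgroup G) R B ((S : Subgroup G) ⊓ centralizer (R : Set G)))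
      ((S : Subgroup G) ⊓ centralizer (R : Set G)) B)
    (b2 : BadG (centralizer ({z} : Set G) ⊓ QQ (S : Subgroup G) R B ((S : Subgroup G) ⊓ centralizer (B : Set G)))
      ((S : Subgroup G) ⊓ centralizer (B : Set G)) R) : False := by
  refine (h.frV hA).false_of hM hR hE b1 (Or.inr ?_)
  rw [cent_zp]
  exact b2

end PairV

end Cfsg.Agent.Omega.NOThreeL.RZ.TwoC
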