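import Cfsg.Agent.Mrg.Omega.NOThreeL.RZ.TwoC.Alpha
import Cfsg.Agent.Mrg.Omega.KL.StarR.GrpR
import Cfsg.Agent.Mrg.Omega.KL.Star.ViaRed


/-!
# [R-z] (helper133 #25243, helper855 #24885, helper481 #25034): the frame `FrE` is contradictory

Over `FrP.main` (`AbP.lean`), helper127's `GInR` and helper345's `InpR.false_of`.

* `FrP.nk2`, `FrP.no2` : `C_A(⟨Z^{K₂}⟩)` centralises `W₂`, `|X : C_X(W₂)| ≤ |W₂ : C(X)|` for `X ≤ A ∈ AA(O)`;
* `FrE.ginR2` : side 2 (alpha);  `FrE.ginR1` : side 1 (beta);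
* **`FrE.false_of`**.
-/

set_option autoImplicit false
set_option linter.unusedSectionVars false

namespace Cfsg.Agent.Omega.NOThreeL.RZ.TwoC

open Subgroup Cfsg
open Cfsg.Agent.ZN (o2 zc zl jj)
open Cfsg.Agent.ZN.ChoiceBase hiding mem_zc
open Cfsg.Agent.Omega.ML.Final (MLK)
open Cfsg.Agent.Omega.ML.GMod (hul hul_le hul_le_of le_hul cj_le_hul le_normalizer_hul nc ri_mono
  normalizer_le_normalizer_o2)
open Cfsg.Agent.Omega.MinPar Cfsg.Agent.Omega.Frame Cfsg.Agent.Omega.FrameNOFF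
open Cfsg.Agent.Omega.NOThreeL.Star (YS le_YS S_le_YS)
open Cfsg.Agent.Omega.NO3S.EThree.ExactA (eab_iff eab_mono)
open Cfsg.Agent.Omega.NoFF.Basic (comm_symm)
open Cfsg.Agent.Omega.GI (relIndex_congr)
open Cfsg.Agent.Omega.KL.StarR (GInR)
open Cfsg.Agent.MinSimple.VModule (zc_le_zl le_normalizer_zl zl_le zc_le zc_sq zc_comm mem_zc le_centralizer_zc
  le_normalizer_o2 o2_isPGroup o2_le le_o2 normalizer_le_normalizer_zc)
open Cfsg.Agent.Omega.NOThreeL.RZ.TwoC.Loc (gml o2C_le inf_cent_le norm_inf)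

universe u

variable {G : Type u} [Group G]

section frp

variable [Finite G] {S : Sylow 2 G} {R B : Subgroup G} {e : G} (h : FrP S R B e) (hM : MLK.{u, u})
include h hM

/-- `C_A(⟨Z^{K₂}⟩)` centralises `W₂`, `A ∈ AA(O)` -/
theorem FrP.nk2 {A : Subgroup G} (hA : A ∈ AA (o2 (CZ (S : Subgroup G)))) :
    A ⊓ centralizer (zl (S : Subgroup G) (centralizer ((R ⊓ zc (S : Subgroup G) : Subgroup G) : Set G)) : Set G) ≤
      centralizer (hul (zl (S : Subgroup G) (YS S))
        (centralizer ((R ⊓ zc (S : Subgroup G) : Subgroup G) : Set G)) : Set G) := by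
  have hU := h.lK2.zl_le S h.ctx.char2
  have hO2 : o2 (centralizer ((R ⊓ zc (S : Subgroup G) : Subgroup G) : Set G)) ≤ o2 (CZ (S : Subgroup G)) :=
    o2_le_o2 S (le_CZ S) h.C2
  have hel : IsElementaryAbelian 2 (zl (S : Subgroup G) (centralizer ((R ⊓ zc (S : Subgroup G) : Subgroup G) : Set G))) :=
    eab_iff.2 ⟨fun x hx => mem_centralizer_iff.2 fun y hy => zc_comm _ _ (hU hy) _ (hU hx), fun x hx => zc_sq _ _ (hU hx)⟩
  have h2 := SideP.exch_inf hel ((hU.trans (zc_le _)).trans hO2)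
    (fun A' hA' => gml hM h.ctx h.lK2 (h.kg h.lK2) hA'.2.1 (eab_iff.1 hA'.1).2) hA
  exact le_sup_left.trans (((eab_iff.1 h2.1).1).trans (centralizer_le ((h.W2 hM).1 _ h2)))

/-- `|X : C_X(W₂)| ≤ |W₂ : C(X)|` for `X ≤ A ∈ AA(O)` -/
theorem FrP.no2 {A X : Subgroup G} (hA : A ∈ AA (o2 (CZ (S : Subgroup G)))) (hX : X ≤ A) :
    (centralizer (hul (zl (S : Subgroup G) (YS S))
      (centralizer ((R ⊓ zc (S : Subgroup G) : Subgroup G) : Set G)) : Set G)).relIndex X ≤
      (centralizer (X : Set G)).relIndex (hul (zl (S : Subgroup G) (YS S))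
        (centralizer ((R ⊓ zc (S : Subgroup G) : Subgroup G) : Set G))) := by
  have hUW : zl (S : Subgroup G) (centralizer ((R ⊓ zc (S : Subgroup G) : Subgroup G) : Set G)) ≤
      hul (zl (S : Subgroup G) (YS S)) (centralizer ((R ⊓ zc (S : Subgroup G) : Subgroup G) : Set G)) :=
    zl_le ((zc_le_zl _ _).trans (le_hul _ _)) (le_normalizer_hul _ _)
  have e1 : (centralizer (hul (zl (S : Subgroup G) (YS S))
      (centralizer ((R ⊓ zc (S : Subgroup G) : Subgroup G) : Set G)) : Set G)).relIndex X =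
      (centralizer (zl (S : Subgroup G)
        (centralizer ((R ⊓ zc (S : Subgroup G) : Subgroup G) : Set G)) : Set G)).relIndex X := by
    refine relIndex_congr (le_antisymm (inf_le_inf_left _ (centralizer_le hUW)) (le_inf inf_le_left ?_))
    exact (inf_le_inf_right _ hX).trans (h.nk2 hM hA)
  rw [e1]
  exact (gml hM h.ctx h.lK2 (h.kg h.lK2) (hX.trans hA.2.1) (fun a ha => (eab_iff.1 hA.1).2 a (hX ha))).trans
    (ri_mono _ hUW)

end frp

section fre

variable [Finite G] {S : Sylow 2 G} {R B : Subgroup G} {e : G} (h : FrE S R B e) (hM : MLK.{u, u})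
include h hM

/-- **side 2** -/
theorem FrE.ginR2 {A F : Subgroup G} (hA : A ∈ AA (o2 (CZ (S : Subgroup G)))) (hA1 : A ≤ o2 (centralizer ({e} : Set G)))
    (hFA : F ≤ A) (hFQ : F ≤ o2 (centralizer (R : Set G)))
    (hm : ¬ F ≤ centralizer (hul (zl (S : Subgroup G) (YS S))
      (centralizer ((R ⊓ zc (S : Subgroup G) : Subgroup G) : Set G)) : Set G))
    (he : (centralizer (hul (zl (S : Subgroup G) (YS S))
        (centralizer ((R ⊓ zc (S : Subgroup G) : Subgroup G) : Set G)) : Set G)).relIndex F =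
        (centralizer (F : Set G)).relIndex
          (hul (zl (S : Subgroup G) (YS S)) (centralizer ((R ⊓ zc (S : Subgroup G) : Subgroup G) : Set G)))) :
    GInR (centralizer ((R ⊓ zc (S : Subgroup G) : Subgroup G) : Set G)) (S : Subgroup G) F ⊥
      (normalizer (R : Set G) ⊓ normalizer (B : Set G))
      (hul (zl (S : Subgroup G) (YS S)) (centralizer ((R ⊓ zc (S : Subgroup G) : Subgroup G) : Set G)))
      (zc (S : Subgroup G) ⊓ B) (zc (S : Subgroup G)) R := by
  have hP := h.toFrP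
  have hVW : zl (S : Subgroup G) (YS S) ≤
      hul (zl (S : Subgroup G) (YS S)) (centralizer ((R ⊓ zc (S : Subgroup G) : Subgroup G) : Set G)) := le_hul _ _
  have hZW : zc (S : Subgroup G) ≤
      hul (zl (S : Subgroup G) (YS S)) (centralizer ((R ⊓ zc (S : Subgroup G) : Subgroup G) : Set G)) :=
    (zc_le_zl _ _).trans hVW
  have hFO : F ≤ o2 (CZ (S : Subgroup G)) := hFA.trans hA.2.1
  have hFS : F ≤ (S : Subgroup G) := hFO.trans o2C_le
  have hSK : (S : Subgroup G) ≤ centralizer ((R ⊓ zc (S : Subgroup G) : Subgroup G) : Set G) := hP.lK2.le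
  exact
  { CM := le_normalizer_hul _ _
    sqM := (eab_iff.1 (hP.W2 hM).2.1).2
    TC := hSK
    two := S.isPGroup'
    syl := MinSimple.Basic.not_dvd_relIndex S hSK
    ZM := inf_le_left.trans hZW
    ZM' := hZW
    YM := hP.RV.trans hVW
    TZ := (le_CZ S).trans (centralizer_le inf_le_left)
    TZ' := le_CZ S
    NZ := fun n hn => inf_normalizer_le_normalizer_inf ⟨normalizer_le_normalizer_zc _ hn.2, (hP.sZ hn).2⟩
    NQ := hP.sZ
    QY := inf_le_right.trans inf_le_left
    QJ := fun n _ => by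
      rw [mem_normalizer_iff_cj]
      exact Subgroup.map_bot _
    JT := bot_le
    AT := hFS
    par := by
      intro P hP1 hPK
      have hPP := hP.lK2.isPar S hP1 hPK
      rcases hP.le_of_par hPP with h1 | ⟨_, h1⟩
      · exact Or.inl (h1.trans (centralizer_le inf_le_left))
      · exact Or.inr (Or.inr ⟨hP.le_o2_two hFO hFQ hPP, bot_le, le_inf (h1.trans hP.nR) (h1.trans hP.nB)⟩)
    sep := by
      intro g _ hgQ _ z hz y hy hc
      have hzy : z * y = y * z := mem_centralizer_iff.1 (hP.vc (hP.RV hy)) z (hP.BV hz.2)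
      rw [hzy] at hc
      exact (h.sep hgQ.1 hgQ.2 hy hz.2 hc).2
    hb := by
      right
      rintro v ⟨hv, hvS⟩
      have h1 := hP.fixR hv fun s hs => mem_centralizer_iff.1 hvS s hs
      rw [mem_centralizer_iff]
      intro c hc
      exact (mem_centralizer_iff.1 hc v h1).symm
    sqA := fun a ha => (eab_iff.1 hA.1).2 a (hFA ha)
    AZ := by
      refine (hFA.trans hA1).trans (o2_le_o2 S (le_inf hSK ((le_CZ S).trans (centralizer_le inf_le_left))) ?_)
      exact inf_le_right.trans (centralizer_le (Set.singleton_subset_iff.2 ⟨hP.eZ, hP.eB⟩))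
    AY := by
      refine hFQ.trans (le_o2 (hP.QR_le.trans le_sup_right) (o2_isPGroup _) ?_)
      exact sup_le (inf_le_right.trans (le_normalizer_o2 _)) hP.nQR
    nk := by
      rw [V_eq_zl]
      exact (inf_le_inf_right _ hFA).trans (hP.nk2 hM hA)
    mv := hm
    no := fun X hX => hP.no2 hM hA (hX.trans hFA)
    le := he.ge
    K := hP.kg hP.lK2 }

/-- **side 1** -/
theorem FrE.ginR1 {X₁ F : Subgroup G} (hel : IsElementaryAbelian 2 X₁)
    (hn : centralizer ({e} : Set G) ≤ normalizer (X₁ : Set G)) (hVX : zl (S : Subgroup G) (YS S) ≤ X₁)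
    (hUX : zl (S : Subgroup G) (centralizer ({e} : Set G)) ≤ X₁)
    (hF : F ∈ AA (o2 (CZ (S : Subgroup G))))
    (hF2 : F ≤ o2 (centralizer ((R ⊓ zc (S : Subgroup G) : Subgroup G) : Set G)))
    (hFB : F ≤ o2 (centralizer (B : Set G)))
    (hm : ¬ F ≤ centralizer (zl (S : Subgroup G) (centralizer ({e} : Set G)) : Set G))
    (hc : F ⊓ centralizer (zl (S : Subgroup G) (centralizer ({e} : Set G)) : Set G) ≤ centralizer (X₁ : Set G))
    (he : (centralizer (X₁ : Set G)).relIndex F = (centralizer (F : Set G)).relIndex X₁)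
    (bad : ∀ d ∈ centralizer ({e} : Set G), d ∈ normalizer (R : Set G) → d ∈ normalizer (B : Set G) →
      d ∈ normalizer (((S : Subgroup G) ⊓ centralizer (R : Set G) : Subgroup G) : Set G) →
      d ∈ normalizer (YS (S : Subgroup G) : Set G) → Odd (orderOf d) →
      (∀ j ∈ (S : Subgroup G) ⊓ centralizer (R : Set G), ∀ w ∈ B,
        (j * d * j⁻¹ * d⁻¹) * (d * w * d⁻¹ * w⁻¹) = (d * w * d⁻¹ * w⁻¹) * (j * d * j⁻¹ * d⁻¹)) →
      d ∈ centralizer (B : Set G)) :
    GInR (centralizer ({e} : Set G)) (S : Subgroup G) F ((S : Subgroup G) ⊓ centralizer (R : Set G))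
      (normalizer (R : Set G) ⊓ normalizer (B : Set G) ⊓
        (normalizer (((S : Subgroup G) ⊓ centralizer (R : Set G) : Subgroup G) : Set G) ⊓
          normalizer (YS (S : Subgroup G) : Set G))) X₁
      (R ⊓ zc (S : Subgroup G)) (zc (S : Subgroup G)) B := by
  have hP := h.toFrP
  have hFO : F ≤ o2 (CZ (S : Subgroup G)) := hF.2.1
  have hFS : F ≤ (S : Subgroup G) := hFO.trans o2C_le
  have hSK : (S : Subgroup G) ≤ centralizer ({e} : Set G) := hP.lK1.le
  have hFR : F ≤ centralizer (R : Set G) := hP.hA F hF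
  have hZU : zc (S : Subgroup G) ≤ X₁ := (zc_le_zl _ _).trans hUX
  have hSB : (S : Subgroup G) ≤ normalizer (o2 (centralizer (B : Set G)) : Set G) :=
    ((hP.S_le_ys.trans hP.nB).trans (nc _)).trans (normalizer_le_normalizer_o2 _)
  exact
  { CM := hn
    sqM := (eab_iff.1 hel).2
    TC := hSK
    two := S.isPGroup'
    syl := MinSimple.Basic.not_dvd_relIndex S hSK
    ZM := inf_le_right.trans hZU
    ZM' := hZU
    YM := hP.BV.trans hVX
    TZ := (le_CZ S).trans (centralizer_le inf_le_right)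
    TZ' := le_CZ S
    NZ := fun n hn => inf_normalizer_le_normalizer_inf ⟨(hP.sE hn).1, normalizer_le_normalizer_zc _ hn.2⟩
    NQ := by
      intro n hn
      refine ⟨hP.sE hn, inf_normalizer_le_normalizer_inf ⟨hn.2, nc _ (hP.sE hn).1⟩, nS_ys hn.2⟩
    QY := inf_le_right.trans (inf_le_left.trans inf_le_right)
    QJ := inf_le_right.trans (inf_le_right.trans inf_le_left)
    JT := inf_le_left
    AT := hFS
    par := by
      intro P hP1 hPK
      have hPP := hP.lK1.isPar S hP1 hPK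
      rcases hP.le_of_par hPP with h1 | ⟨h0, h1⟩
      · exact Or.inl (h1.trans (centralizer_le inf_le_right))
      · rcases hP.alt h0 with h2 | h2
        · refine Or.inr (Or.inr ⟨hP.le_o2_one hFO hFR hF2 hPP, h2, ?_⟩)
          exact le_inf (le_inf (h1.trans hP.nR) (h1.trans hP.nB)) (le_inf (hP.nJ h0 h2) (h1.trans le_normalizer))
        · exact Or.inl (hP.le_K2 h2)
    sep := by
      intro g _ hgQ _ z hz y hy hc
      exact (h.sep hgQ.1.1 hgQ.1.2 hz.1 hy hc).1
    hb := Or.inl fun d hd hdQ hdo hcom => bad d hd hdQ.1.1 hdQ.1.2 hdQ.2.1 hdQ.2.2 hdo hcom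
    sqA := (eab_iff.1 hF.1).2
    AZ := hF2.trans (o2_le_o2 S (le_inf hSK hP.lK2.le) inf_le_right)
    AY := by
      refine hFB.trans (le_o2 ((le_of_le_normalizer S (o2_isPGroup _) hSB).trans le_sup_right) (o2_isPGroup _) ?_)
      exact sup_le (inf_le_right.trans (le_normalizer_o2 _)) hSB
    nk := by
      rw [V_eq_zl]
      exact hc
    mv := fun hcon => hm (hcon.trans (centralizer_le hUX))
    no := by
      intro X hX
      have e1 : (centralizer (X₁ : Set G)).relIndex X =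
          (centralizer (zl (S : Subgroup G) (centralizer ({e} : Set G)) : Set G)).relIndex X := by
        refine relIndex_congr (le_antisymm (inf_le_inf_left _ (centralizer_le hUX)) (le_inf inf_le_left ?_))
        exact (inf_le_inf_right _ hX).trans hc
      rw [e1]
      exact (gml hM h.ctx hP.lK1 (hP.kg hP.lK1) (hX.trans hFO) (fun a ha => (eab_iff.1 hF.1).2 a (hX ha))).trans
        (ri_mono _ hUX)
    le := he.ge
    K := hP.kg hP.lK1 }

/-- **The frame `FrE` is contradictory.** -/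
theorem FrE.false_of (hR : NO3b.EndX.RedP.{u, u}) (hE : ML.Ex.Two.Ext.{u, u})
    (bad : ∀ d ∈ centralizer ({e} : Set G), d ∈ normalizer (R : Set G) → d ∈ normalizer (B : Set G) →
      d ∈ normalizer (((S : Subgroup G) ⊓ centralizer (R : Set G) : Subgroup G) : Set G) →
      d ∈ normalizer (YS (S : Subgroup G) : Set G) → Odd (orderOf d) →
      (∀ j ∈ (S : Subgroup G) ⊓ centralizer (R : Set G), ∀ w ∈ B,
        (j * d * j⁻¹ * d⁻¹) * (d * w * d⁻¹ * w⁻¹) = (d * w * d⁻¹ * w⁻¹) * (j * d * j⁻¹ * d⁻¹)) →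
      d ∈ centralizer (B : Set G)) : False := by
  rcases h.main hM with ⟨A, hA, _, hA1, F, hFA, hFQ, hm, he⟩ |
    ⟨X₁, hel, hn, hVX, hUX, _, F, hF, _, hF2, hFB, hm, _, hc, he⟩
  · obtain ⟨X, i1, i2, N, i3, i4, i5, T', A', J', Q', Z₁, Y', hI⟩ := (h.ginR2 hM hA hA1 hFA hFQ hm he).inpR
    exact hI.false_of hM hR hE
  · obtain ⟨X, i1, i2, N, i3, i4, i5, T', A', J', Q', Z₁, Y', hI⟩ :=
      (h.ginR1 hM hel hn hVX hUX hF hF2 hFB hm hc he bad).inpR
    exact hI.false_of hM hR hE

end fre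

end Cfsg.Agent.Omega.NOThreeL.RZ.TwoC
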