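import Cfsg.Agent.Omega.KL.StarR.LemE
import Cfsg.Agent.Mrg.Omega.NOThreeL.RZ.TwoC.DecE


/-!
# [R-z]: the field `bad` over `Blk.Dec` (helper885; #24934, #25118, #25374)

`Dec S L U N E R₀`: `U = ∏ N b × R₀`, `B = ∏ N b`, `J = S ∩ C(R₀)`.

* `perm_of` : `g ∈ N(U) ∩ N(⨆ E b)` permutes the `N b`;
* `act_of` : an element of `⨆ E b` acts on `N b` like an element of `E b`;
* `stab` : `d ∈ N(U) ∩ N(⨆ E b)` of odd order with `[[B, d], [J, d]] = 1` normalises every `N b`;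
* `Rt N l T` : `T` acts on `N` like a root group of `SL₂(q)` on a natural module; `Rt.fix` : LEMMA E;
* `Sml S N E` : the other blocks;
* **`bad`** : if moreover `[J, d] ≤ J C(B)` and `d` centralises `e`, all whose components in the natural blocks are
  `≠ 1` and central, then `d` centralises `B`.
-/

set_option autoImplicit false
set_option linter.unusedSectionVars false

namespace Cfsg.Agent.Omega.NOThreeL.RZ.TwoC.BadE

open Subgroup Cfsg
open Cfsg.Agent.Omega.NOThreeL.RRed.Blk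
open Cfsg.Agent.Omega.NOThreeL.RZ.TwoC.DecE
open Cfsg.Agent.Omega.KL.StarR.LemE (Root)
open scoped Pointwise

universe u v

variable {G : Type u} [Group G]

/-! ### One block -/

/-- `N_G(X)` acts on `X` -/
abbrev actN (X : Subgroup G) : MulDistribMulAction (normalizer (X : Set G)) X where
  smul g x := ⟨g * x * (g : G)⁻¹, (mem_normalizer_iff.1 g.2 x).1 x.2⟩
  one_smul x := Subtype.ext (by change (1 : G) * x * (1 : G)⁻¹ = x; group)
  mul_smul a b x := Subtype.ext (by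
    change (a * b : G) * x * (a * b : G)⁻¹ = a * (b * x * (b : G)⁻¹) * (a : G)⁻¹; group)
  smul_mul a x y := Subtype.ext (by
    change (a : G) * (x * y) * (a : G)⁻¹ = a * x * (a : G)⁻¹ * (a * y * (a : G)⁻¹); group)
  smul_one a := Subtype.ext (by change (a : G) * 1 * (a : G)⁻¹ = 1; group)

/-- `T` acts on `N` like a root group of `SL₂(q)` on a natural module, `l = C_N(T)`. -/
structure Rt (N l T : Subgroup G) : Prop where
  le : l ≤ N
  norm : T ≤ normalizer (N : Set G)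
  cent : T ≤ centralizer (l : Set G)
  mv : ¬ T ≤ centralizer (N : Set G)
  fix_le : ∀ u ∈ T, u ∉ centralizer (N : Set G) → ∀ w ∈ N, u * w * u⁻¹ = w → w ∈ l
  onto_w : ∀ u ∈ T, u ∉ centralizer (N : Set G) → ∀ y ∈ l, ∃ w ∈ N, u * w * u⁻¹ = w * y
  onto_u : ∀ w ∈ N, w ∉ l → ∀ y ∈ l, ∃ u ∈ T, u * w * u⁻¹ = w * y

theorem mem_cent_iff {N : Subgroup G} {u : G} : u ∈ centralizer (N : Set G) ↔ ∀ w ∈ N, u * w * u⁻¹ = w := by
  rw [mem_centralizer_iff]
  constructor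
  · intro h w hw
    rw [← h w hw, mul_inv_cancel_right]
  · intro h w hw
    have h1 := h w hw
    rw [mul_inv_eq_iff_eq_mul] at h1
    exact h1.symm

/-- **LEMMA E** in a group -/
theorem Rt.fix {N l T : Subgroup G} (h : Rt N l T) (hab : N ≤ centralizer (N : Set G)) (hsq : ∀ x ∈ N, x ^ 2 = 1)
    {d e : G} (hd : Odd (orderOf d)) (hdN : d ∈ normalizer (N : Set G))
    (hdT : ∀ s ∈ T, ∃ s' ∈ T, ∀ w ∈ N, d * s * d⁻¹ * w * (d * s * d⁻¹)⁻¹ = s' * w * s'⁻¹)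
    (he : e ∈ l) (he1 : e ≠ 1) (hde : d * e * d⁻¹ = e)
    (hcom : ∀ s ∈ T, ∀ w ∈ N, Commute (s * d * s⁻¹ * d⁻¹) (d * w * d⁻¹ * w⁻¹)) :
    ∀ w ∈ N, d * w * d⁻¹ = w := by
  let := actN N
  have hsm : ∀ (c : normalizer (N : Set G)) (m : N), ((c • m : N) : G) = c * m * (c : G)⁻¹ := fun _ _ => rfl
  have hmul : ∀ a b x : G, a * b * x * (a * b)⁻¹ = a * (b * x * b⁻¹) * a⁻¹ := fun a b x => by group
  -- the elements which act like an element of `T`
  let U : Subgroup (normalizer (N : Set G)) :=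
    { carrier := {u | ∃ s ∈ T, ∀ w ∈ N, (u : G) * w * (u : G)⁻¹ = s * w * s⁻¹}
      mul_mem' := by
        rintro a b ⟨s, hs, h1⟩ ⟨t, ht, h2⟩
        refine ⟨s * t, mul_mem hs ht, fun w hw => ?_⟩
        change (a : G) * b * w * ((a : G) * b)⁻¹ = _
        rw [hmul, hmul, h2 w hw]
        exact h1 _ ((mem_normalizer_iff.1 (h.norm ht) w).1 hw)
      one_mem' := ⟨1, one_mem _, fun w _ => rfl⟩
      inv_mem' := by
        rintro a ⟨s, hs, h1⟩
        refine ⟨s⁻¹, inv_mem hs, fun w hw => ?_⟩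
        have h3 : s⁻¹ * w * s⁻¹⁻¹ ∈ N := (mem_normalizer_iff.1 (h.norm (inv_mem hs)) w).1 hw
        have h4 := h1 _ h3
        have e1 : s * (s⁻¹ * w * s⁻¹⁻¹) * s⁻¹ = w := by group
        rw [e1] at h4
        calc (a : G)⁻¹ * w * (a : G)⁻¹⁻¹ = (a : G)⁻¹ * (a * (s⁻¹ * w * s⁻¹⁻¹) * (a : G)⁻¹) * (a : G)⁻¹⁻¹ := by rw [h4]
          _ = s⁻¹ * w * s⁻¹⁻¹ := by group }
  have hU : ∀ u : normalizer (N : Set G), u ∈ U ↔ ∃ s ∈ T, ∀ w ∈ N, (u : G) * w * (u : G)⁻¹ = s * w * s⁻¹ :=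
    fun _ => Iff.rfl
  have hTU : ∀ s ∈ T, ∀ hs : s ∈ normalizer (N : Set G), (⟨s, hs⟩ : normalizer (N : Set G)) ∈ U :=
    fun s hs _ => ⟨s, hs, fun _ _ => rfl⟩
  have hR : Root (⊤ : Subgroup N) (l.subgroupOf N) U := by
    have hne : ∀ (u : normalizer (N : Set G)) (s : G), s ∈ T → (∀ w ∈ N, (u : G) * w * (u : G)⁻¹ = s * w * s⁻¹) →
        (∃ w ∈ (⊤ : Subgroup N), u • w ≠ w) → s ∉ centralizer (N : Set G) := by
      rintro u s _ h1 ⟨w, _, hw⟩ hc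
      exact hw (Subtype.ext (by rw [hsm, h1 w w.2]; exact mem_cent_iff.1 hc w w.2))
    refine ⟨le_top, fun _ _ _ _ => mem_top _, ?_, ?_, ?_, ?_, ?_⟩
    · rintro u ⟨s, hs, h1⟩ y hy
      refine Subtype.ext ?_
      rw [hsm, h1 y y.2]
      exact mem_cent_iff.1 (h.cent hs) y (mem_subgroupOf.1 hy)
    · rintro u ⟨s, hs, h1⟩ hmv w _ hw
      refine mem_subgroupOf.2 (h.fix_le s hs (hne u s hs h1 hmv) w w.2 ?_)
      rw [← h1 w w.2, ← hsm, hw]
    · rintro u ⟨s, hs, h1⟩ hmv y hy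
      obtain ⟨w, hw, h2⟩ := h.onto_w s hs (hne u s hs h1 hmv) y (mem_subgroupOf.1 hy)
      exact ⟨⟨w, hw⟩, mem_top _, Subtype.ext (by rw [hsm, h1 w hw]; exact h2)⟩
    · intro w _ hw y hy
      obtain ⟨s, hs, h2⟩ := h.onto_u w w.2 (fun h3 => hw (mem_subgroupOf.2 h3)) y (mem_subgroupOf.1 hy)
      exact ⟨⟨s, h.norm hs⟩, hTU s hs _, Subtype.ext h2⟩
    · intro y hy
      obtain ⟨s, hs, hsc⟩ := SetLike.not_le_iff_exists.1 h.mv
      obtain ⟨w, hw, h2⟩ := h.onto_w s hs hsc y (mem_subgroupOf.1 hy)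
      exact ⟨⟨w, hw⟩, mem_top _, ⟨s, h.norm hs⟩, hTU s hs _, Subtype.ext h2⟩
  have heN : e ∈ N := h.le he
  have key := hR.fix (d := ⟨d, hdN⟩) (e := ⟨e, heN⟩)
    (fun a b => Subtype.ext (mem_centralizer_iff.1 (hab b.2) a a.2))
    (fun a => Subtype.ext (hsq a a.2)) (by rwa [orderOf_mk]) (fun _ _ => mem_top _) ?_ (mem_subgroupOf.2 he)
    (fun h1 => he1 (congrArg Subtype.val h1)) (Subtype.ext hde) ?_
  · intro w hw
    exact congrArg Subtype.val (key ⟨w, hw⟩ (mem_top _))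
  · rintro u ⟨s, hs, h1⟩
    obtain ⟨s', hs', h2⟩ := hdT s hs
    refine ⟨s', hs', fun w hw => ?_⟩
    rw [← h2 w hw]
    change d * u * d⁻¹ * w * (d * u * d⁻¹)⁻¹ = _
    have h3 : d⁻¹ * w * d⁻¹⁻¹ ∈ N := (mem_normalizer_iff.1 (inv_mem hdN) w).1 hw
    have h4 := h1 _ h3
    calc d * u * d⁻¹ * w * (d * u * d⁻¹)⁻¹ = d * (u * (d⁻¹ * w * d⁻¹⁻¹) * (u : G)⁻¹) * d⁻¹ := by group
      _ = d * (s * (d⁻¹ * w * d⁻¹⁻¹) * s⁻¹) * d⁻¹ := by rw [h4]
      _ = _ := by group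
  · rintro w _ u ⟨s, hs, h1⟩
    refine Subtype.ext ?_
    -- the element on which we act
    set x : G := (w : G)⁻¹ * (d * w * d⁻¹) with hx
    have hxN : x ∈ N := mul_mem (inv_mem w.2) ((mem_normalizer_iff.1 hdN w).1 w.2)
    have hx2 : x = d * w * d⁻¹ * (w : G)⁻¹ :=
      mem_centralizer_iff.1 (hab ((mem_normalizer_iff.1 hdN w).1 w.2)) _ (inv_mem w.2)
    change ((u : G)⁻¹ * (d * u * d⁻¹)) * x * ((u : G)⁻¹ * (d * u * d⁻¹))⁻¹ = x
    have hui : ∀ y ∈ N, (u : G)⁻¹ * y * (u : G)⁻¹⁻¹ = s⁻¹ * y * s⁻¹⁻¹ := by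
      intro y hy
      have h3 : s⁻¹ * y * s⁻¹⁻¹ ∈ N := (mem_normalizer_iff.1 (h.norm (inv_mem hs)) y).1 hy
      have h4 := h1 _ h3
      have e1 : s * (s⁻¹ * y * s⁻¹⁻¹) * s⁻¹ = y := by group
      rw [e1] at h4
      calc (u : G)⁻¹ * y * (u : G)⁻¹⁻¹ = (u : G)⁻¹ * (u * (s⁻¹ * y * s⁻¹⁻¹) * (u : G)⁻¹) * (u : G)⁻¹⁻¹ := by rw [h4]
        _ = s⁻¹ * y * s⁻¹⁻¹ := by group
    have h3 : d⁻¹ * x * d⁻¹⁻¹ ∈ N := (mem_normalizer_iff.1 (inv_mem hdN) x).1 hxN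
    have h4 := h1 _ h3
    have h5 : d * (s * (d⁻¹ * x * d⁻¹⁻¹) * s⁻¹) * d⁻¹ ∈ N :=
      (mem_normalizer_iff.1 hdN _).1 ((mem_normalizer_iff.1 (h.norm hs) _).1 h3)
    have h6 := hcom s⁻¹ (inv_mem hs) w w.2
    rw [← hx2] at h6
    calc ((u : G)⁻¹ * (d * u * d⁻¹)) * x * ((u : G)⁻¹ * (d * u * d⁻¹))⁻¹
        = (u : G)⁻¹ * (d * (u * (d⁻¹ * x * d⁻¹⁻¹) * (u : G)⁻¹) * d⁻¹) * (u : G)⁻¹⁻¹ := by group
      _ = (u : G)⁻¹ * (d * (s * (d⁻¹ * x * d⁻¹⁻¹) * s⁻¹) * d⁻¹) * (u : G)⁻¹⁻¹ := by rw [h4]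
      _ = s⁻¹ * (d * (s * (d⁻¹ * x * d⁻¹⁻¹) * s⁻¹) * d⁻¹) * s⁻¹⁻¹ := hui _ h5
      _ = (s⁻¹ * d * s⁻¹⁻¹ * d⁻¹) * x * (s⁻¹ * d * s⁻¹⁻¹ * d⁻¹)⁻¹ := by group
      _ = x := by rw [h6.eq, mul_inv_cancel_right]


/-! ### Families of blocks -/

/-- the blocks which are not natural `SL₂(q)`-modules (e.g. `S_n`, `n` odd) -/
def Sml (S N E : Subgroup G) : Prop :=
  ∀ d : G, Odd (orderOf d) → d ∈ normalizer (N : Set G) → d ∈ normalizer (E : Set G) →
    d ∈ normalizer (((S ⊓ E) ⊔ centralizer (N : Set G) : Subgroup G) : Set G) →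
    (∀ s ∈ S ⊓ E, ∀ w ∈ N, Commute (s * d * s⁻¹ * d⁻¹) (d * w * d⁻¹ * w⁻¹)) → d ∈ centralizer (N : Set G)

theorem mem_cs {Y : Subgroup G} {g z : G} : z ∈ MulAut.conj g • Y ↔ g⁻¹ * z * g ∈ Y := by
  rw [mem_pointwise_smul_iff_inv_smul_mem, ← map_inv, MulAut.smul_def, MulAut.conj_apply, inv_inv]

theorem norm_cs {X Y : Subgroup G} {g : G} (hg : g ∈ normalizer (X : Set G)) (h : X ≤ normalizer (Y : Set G)) :
    X ≤ normalizer ((MulAut.conj g • Y : Subgroup G) : Set G) := by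
  intro x hx
  have h1 : g⁻¹ * x * g⁻¹⁻¹ ∈ X := (mem_normalizer_iff.1 (inv_mem hg) x).1 hx
  rw [mem_normalizer_iff]
  intro z
  have h2 : z ∈ MulAut.conj g • Y ↔ g⁻¹ * z * g ∈ Y := mem_cs
  have h3 : x * z * x⁻¹ ∈ MulAut.conj g • Y ↔ g⁻¹ * (x * z * x⁻¹) * g ∈ Y := mem_cs
  have e : g⁻¹ * (x * z * x⁻¹) * g = (g⁻¹ * x * g⁻¹⁻¹) * (g⁻¹ * z * g) * (g⁻¹ * x * g⁻¹⁻¹)⁻¹ := by group
  rw [h2, h3, e]
  exact mem_normalizer_iff.1 (h h1) _

theorem cent_cs {X Y : Subgroup G} {g : G} (hg : g ∈ normalizer (X : Set G))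
    (h : X ≤ centralizer ((MulAut.conj g • Y : Subgroup G) : Set G)) : X ≤ centralizer (Y : Set G) := by
  intro x hx
  have h1 : g * x * g⁻¹ ∈ X := (mem_normalizer_iff.1 hg x).1 hx
  rw [mem_cent_iff]
  intro y hy
  have h2 : g * y * g⁻¹ ∈ MulAut.conj g • Y := mem_cs.2 (by
    have e : g⁻¹ * (g * y * g⁻¹) * g = y := by group
    rwa [e])
  have h3 := mem_cent_iff.1 (h h1) _ h2
  calc x * y * x⁻¹ = g⁻¹ * ((g * x * g⁻¹) * (g * y * g⁻¹) * (g * x * g⁻¹)⁻¹) * g := by group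
    _ = g⁻¹ * (g * y * g⁻¹) * g := by rw [h3]
    _ = y := by group

theorem norm_centralizer {X : Subgroup G} {g : G} (hg : g ∈ normalizer (X : Set G)) :
    g ∈ normalizer ((centralizer (X : Set G) : Subgroup G) : Set G) := by
  have key : ∀ g ∈ normalizer (X : Set G), ∀ z ∈ centralizer (X : Set G), g * z * g⁻¹ ∈ centralizer (X : Set G) := by
    intro g hg z hz
    rw [mem_cent_iff]
    intro x hx
    have h1 : g⁻¹ * x * g⁻¹⁻¹ ∈ X := (mem_normalizer_iff.1 (inv_mem hg) x).1 hx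
    have h2 := mem_cent_iff.1 hz _ h1
    calc g * z * g⁻¹ * x * (g * z * g⁻¹)⁻¹ = g * (z * (g⁻¹ * x * g⁻¹⁻¹) * z⁻¹) * g⁻¹ := by group
      _ = g * (g⁻¹ * x * g⁻¹⁻¹) * g⁻¹ := by rw [h2]
      _ = x := by group
  rw [mem_normalizer_iff]
  intro z
  refine ⟨key g hg z, fun hz => ?_⟩
  have h1 := key g⁻¹ (inv_mem hg) _ hz
  have e : g⁻¹ * (g * z * g⁻¹) * g⁻¹⁻¹ = z := by group
  rwa [e] at h1

theorem norm_inf' {X Y : Subgroup G} {g : G} (h1 : g ∈ normalizer (X : Set G)) (h2 : g ∈ normalizer (Y : Set G)) :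
    g ∈ normalizer ((X ⊓ Y : Subgroup G) : Set G) := by
  rw [mem_normalizer_iff] at *
  intro z
  rw [mem_inf, mem_inf, h1 z, h2 z]

section dec

variable {ι : Type v} {S L U : Subgroup G} {N E : ι → Subgroup G} {R₀ : Subgroup G}

section one

variable (h : Dec S L U N E R₀)
include h

theorem E_nN (b : ι) : (⨆ c, E c) ≤ normalizer (N b : Set G) := by
  refine iSup_le fun c => ?_
  by_cases hc : c = b
  · subst hc; exact h.EN c
  · exact (h.EC c b hc).trans (centralizer_le_normalizer _)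

/-- `E b` centralises the complement of `N b` -/
theorem ECo (b : ι) : E b ≤ centralizer (Co N R₀ b : Set G) := by
  intro x hx
  have h1 : Co N R₀ b ≤ centralizer ({x} : Set G) := by
    refine sup_le (iSup_le fun c => ?_) ?_
    · intro y hy
      rw [mem_centralizer_iff]
      rintro _ rfl
      exact (mem_centralizer_iff.1 (h.EC b c (Ne.symm c.2) hx) y hy).symm
    · intro y hy
      rw [mem_centralizer_iff]
      rintro _ rfl
      exact (mem_centralizer_iff.1 (h.ER b hx) y hy).symm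
  rw [mem_centralizer_iff]
  intro y hy
  exact (mem_centralizer_iff.1 (h1 hy) x rfl).symm

/-- an element of `⨆ E c` acts on `N b` like an element of `E b` -/
theorem act_of {x : G} (hx : x ∈ ⨆ c, E c) (b : ι) : ∃ y ∈ E b, ∀ w ∈ N b, x * w * x⁻¹ = y * w * y⁻¹ := by
  refine Subgroup.iSup_induction E (C := fun x => ∃ y ∈ E b, ∀ w ∈ N b, x * w * x⁻¹ = y * w * y⁻¹) hx ?_ ?_ ?_
  · intro c x hx
    by_cases hc : c = b
    · subst hc; exact ⟨x, hx, fun _ _ => rfl⟩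
    · refine ⟨1, one_mem _, fun w hw => ?_⟩
      rw [mem_cent_iff.1 (h.EC c b hc hx) w hw]; group
  · exact ⟨1, one_mem _, fun _ _ => rfl⟩
  · rintro x x' ⟨y, hy, h1⟩ ⟨y', hy', h2⟩
    refine ⟨y * y', mul_mem hy hy', fun w hw => ?_⟩
    have h3 : y' * w * y'⁻¹ ∈ N b := (mem_normalizer_iff.1 (h.EN b hy') w).1 hw
    calc x * x' * w * (x * x')⁻¹ = x * (x' * w * x'⁻¹) * x⁻¹ := by group
      _ = x * (y' * w * y'⁻¹) * x⁻¹ := by rw [h2 w hw]
      _ = y * (y' * w * y'⁻¹) * y⁻¹ := h1 _ h3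
      _ = _ := by group

variable (irr : ∀ b, ∀ W : Subgroup G, W ≤ N b → E b ≤ normalizer (W : Set G) → W ≠ ⊥ → N b ≤ W)
include irr

theorem le_of_moved {N' : Subgroup G} (hU : N' ≤ U) (hE : (⨆ c, E c) ≤ normalizer (N' : Set G))
    (hm : ¬ (⨆ c, E c) ≤ centralizer (N' : Set G)) : ∃ c, N c ≤ N' := by
  have h1 : ∃ c, ¬ E c ≤ centralizer (N' : Set G) := by
    by_contra hcon
    push Not at hcon
    exact hm (iSup_le hcon)
  obtain ⟨c, hc⟩ := h1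
  obtain ⟨t, ht, htc⟩ := SetLike.not_le_iff_exists.1 hc
  rw [mem_cent_iff] at htc
  push Not at htc
  obtain ⟨x, hx, hne⟩ := htc
  obtain ⟨n, hn⟩ := h.ex_comp c (hU hx)
  set y := n⁻¹ * x with hy
  have hxe : x = n * y := by rw [hy]; group
  have hty := mem_cent_iff.1 (ECo h c ht) y hn.2
  have hv : t * x * t⁻¹ * x⁻¹ = t * n * t⁻¹ * n⁻¹ := by
    calc t * x * t⁻¹ * x⁻¹ = (t * n * t⁻¹) * (t * y * t⁻¹) * y⁻¹ * n⁻¹ := by rw [hxe]; group
      _ = (t * n * t⁻¹) * y * y⁻¹ * n⁻¹ := by rw [hty]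
      _ = _ := by group
  refine ⟨c, (irr c (N' ⊓ N c) inf_le_right ?_ ?_).trans inf_le_left⟩
  · intro e he
    exact norm_inf' (hE (le_iSup E c he)) (h.EN c he)
  · intro hbot
    have h2 : t * x * t⁻¹ * x⁻¹ ∈ N' ⊓ N c := by
      refine mem_inf.2 ⟨mul_mem ((mem_normalizer_iff.1 (hE (le_iSup E c ht)) x).1 hx) (inv_mem hx), ?_⟩
      rw [hv]
      exact mul_mem ((mem_normalizer_iff.1 (h.EN c ht) n).1 hn.1) (inv_mem hn.1)
    rw [hbot, mem_bot, mul_inv_eq_one] at h2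
    exact hne h2

variable (mv : ∀ b, ¬ S ⊓ E b ≤ centralizer (N b : Set G))
include mv

/-- **`g ∈ N(U) ∩ N(⨆ E b)` permutes the `N b`** -/
theorem perm_of {g : G} (hgU : g ∈ normalizer (U : Set G))
    (hgE : g ∈ normalizer ((⨆ c, E c : Subgroup G) : Set G)) (b : ι) : ∃ c, MulAut.conj g • N b = N c := by
  have hU : MulAut.conj g • N b ≤ U := by
    intro z hz
    rw [mem_cs] at hz
    have h1 := (mem_normalizer_iff.1 hgU _).1 (h.NU b hz)
    have e : g * (g⁻¹ * z * g) * g⁻¹ = z := by group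
    rwa [e] at h1
  obtain ⟨c, hc⟩ := le_of_moved h irr hU (norm_cs hgE (E_nN h b)) (fun h1 =>
    mv b ((inf_le_right.trans (le_iSup E b)).trans (cent_cs hgE h1)))
  refine ⟨c, le_antisymm ?_ hc⟩
  have h2 : MulAut.conj g⁻¹ • N c ≤ N b := by
    intro z hz
    rw [mem_cs, inv_inv] at hz
    have h3 := hc hz
    rw [mem_cs] at h3
    have e : g⁻¹ * (g * z * g⁻¹) * g = z := by group
    rwa [e] at h3
  have h4 := irr b _ h2 ((le_iSup E b).trans (norm_cs (inv_mem hgE) (E_nN h c))) ?_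
  · intro z hz
    rw [mem_cs] at hz
    have h3 := h4 hz
    rw [mem_cs] at h3
    have e : g⁻¹⁻¹ * (g⁻¹ * z * g) * g⁻¹ = z := by group
    rwa [e] at h3
  · intro hbot
    apply h.ne c
    rw [eq_bot_iff]
    intro z hz
    have h3 : g⁻¹ * z * g⁻¹⁻¹ ∈ MulAut.conj g⁻¹ • N c := by
      rw [mem_cs]
      have e : g⁻¹⁻¹ * (g⁻¹ * z * g⁻¹⁻¹) * g⁻¹ = z := by group
      rwa [e]
    rw [hbot, mem_bot] at h3
    rw [mem_bot]
    calc z = g * (g⁻¹ * z * g⁻¹⁻¹) * g⁻¹ := by group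
      _ = 1 := by rw [h3]; group

/-- **`d` normalises every block** -/
theorem stab {d : G} (hdU : d ∈ normalizer (U : Set G)) (hdE : d ∈ normalizer ((⨆ c, E c : Subgroup G) : Set G))
    (hcom : ∀ b, ∀ j ∈ S ⊓ E b, ∀ w ∈ N b, Commute (j * d * j⁻¹ * d⁻¹) (d * w * d⁻¹ * w⁻¹)) (b : ι) :
    MulAut.conj d • N b = N b := by
  obtain ⟨c, hc⟩ := perm_of h irr mv hdU hdE b
  by_cases hcb : c = b
  · rw [hcb] at hc
    exact hc
  obtain ⟨b', hb'⟩ := perm_of h irr mv (inv_mem hdU) (inv_mem hdE) b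
  have hbb : b' ≠ b := by
    intro e
    rw [e] at hb'
    apply hcb
    apply h.Ninj
    rw [← hc]
    conv_lhs => rw [← hb']
    rw [map_inv, smul_inv_smul]
  exfalso
  refine mv b fun a ha => ?_
  rw [mem_cent_iff]
  intro w hw
  have hv : ∀ y ∈ N b, d * y * d⁻¹ ∈ N c := fun y hy => (conj_smul hc).1 hy
  -- `a` centralises `N c`
  have k1 : ∀ y ∈ N c, a * y * a⁻¹ = y := mem_cent_iff.1 (h.EC b c (Ne.symm hcb) ha.2)
  -- `d a⁻¹ d⁻¹` centralises `N b`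
  have k2 : (d * a⁻¹ * d⁻¹) * w * (d * a⁻¹ * d⁻¹)⁻¹ = w := by
    have h1 : d⁻¹ * w * d⁻¹⁻¹ ∈ N b' := (conj_smul hb').1 hw
    have h2 := mem_cent_iff.1 (h.EC b b' (Ne.symm hbb) (inv_mem ha.2)) _ h1
    calc (d * a⁻¹ * d⁻¹) * w * (d * a⁻¹ * d⁻¹)⁻¹ = d * (a⁻¹ * (d⁻¹ * w * d⁻¹⁻¹) * a⁻¹⁻¹) * d⁻¹ := by group
      _ = d * (d⁻¹ * w * d⁻¹⁻¹) * d⁻¹ := by rw [h2]
      _ = w := by group
  have haN : a⁻¹ * w * a⁻¹⁻¹ ∈ N b := (mem_normalizer_iff.1 (h.EN b (inv_mem ha.2)) w).1 hw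
  have haN' : a * w * a⁻¹ ∈ N b := (mem_normalizer_iff.1 (h.EN b ha.2) w).1 hw
  set x : G := a * d * a⁻¹ * d⁻¹ with hx
  have x1 : x * w * x⁻¹ = a * w * a⁻¹ := by
    calc x * w * x⁻¹ = a * ((d * a⁻¹ * d⁻¹) * w * (d * a⁻¹ * d⁻¹)⁻¹) * a⁻¹ := by rw [hx]; group
      _ = _ := by rw [k2]
  have x2 : x * (d * w * d⁻¹) * x⁻¹ = d * (a⁻¹ * w * a⁻¹⁻¹) * d⁻¹ := by
    calc x * (d * w * d⁻¹) * x⁻¹ = a * (d * (a⁻¹ * w * a⁻¹⁻¹) * d⁻¹) * a⁻¹ := by rw [hx]; group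
      _ = _ := k1 _ (hv _ haN)
  have h3 := (hcom b a ha w hw).eq
  rw [← hx] at h3
  have h4 : (d * (a⁻¹ * w * a⁻¹⁻¹) * d⁻¹) * (a * w * a⁻¹)⁻¹ = d * w * d⁻¹ * w⁻¹ := by
    calc (d * (a⁻¹ * w * a⁻¹⁻¹) * d⁻¹) * (a * w * a⁻¹)⁻¹
        = (x * (d * w * d⁻¹) * x⁻¹) * (x * w * x⁻¹)⁻¹ := by rw [x1, x2]
      _ = x * (d * w * d⁻¹ * w⁻¹) * x⁻¹ := by group
      _ = _ := by rw [h3, mul_inv_cancel_right]
  have h5 : (d * w * d⁻¹)⁻¹ * (d * (a⁻¹ * w * a⁻¹⁻¹) * d⁻¹) = w⁻¹ * (a * w * a⁻¹) := by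
    calc (d * w * d⁻¹)⁻¹ * (d * (a⁻¹ * w * a⁻¹⁻¹) * d⁻¹)
        = (d * w * d⁻¹)⁻¹ * ((d * (a⁻¹ * w * a⁻¹⁻¹) * d⁻¹) * (a * w * a⁻¹)⁻¹) * (a * w * a⁻¹) := by group
      _ = (d * w * d⁻¹)⁻¹ * (d * w * d⁻¹ * w⁻¹) * (a * w * a⁻¹) := by rw [h4]
      _ = _ := by group
  have h6 : w⁻¹ * (a * w * a⁻¹) ∈ N b ⊓ Co N R₀ b := by
    refine mem_inf.2 ⟨mul_mem (inv_mem hw) haN', ?_⟩
    rw [← h5]
    exact h.N_le_Co hcb (mul_mem (inv_mem (hv w hw)) (hv _ haN))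
  rw [show N b ⊓ Co N R₀ b = ⊥ from h.ind b, mem_bot, inv_mul_eq_one] at h6
  exact h6.symm

/-- `R₀ = C_U(⨆ E b)` -/
theorem R_eq [Finite ι] : R₀ = U ⊓ centralizer ((⨆ b, E b : Subgroup G) : Set G) := by
  apply le_antisymm
  · refine le_inf h.RU fun r hr => ?_
    rw [mem_centralizer_iff]
    intro x hx
    exact (mem_centralizer_iff.1 (iSup_le h.ER hx) r hr).symm
  · rintro x ⟨hxU, hxE⟩
    refine h.mem_R hxU fun b => ?_
    obtain ⟨n, hn⟩ := h.ex_comp b hxU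
    have h1 : n ∈ N b ⊓ centralizer (E b : Set G) := by
      refine mem_inf.2 ⟨hn.1, ?_⟩
      rw [mem_centralizer_iff]
      intro e he
      have h2 := h.comp_conj (h.EL b he) (smul_of_norm (h.EN b he)) hn
      have h3 : e * x * e⁻¹ = x := by
        rw [mul_inv_eq_iff_eq_mul]
        exact mem_centralizer_iff.1 hxE e (le_iSup E b he)
      rw [h3] at h2
      have h4 := h.uniq hn h2
      calc e * n = (e * n * e⁻¹) * e := by group
        _ = n * e := by rw [← h4]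
    have h2 : N b ⊓ centralizer (E b : Set G) = ⊥ := by
      by_contra hne
      refine mv b ?_
      have h3 := irr b _ inf_le_left (fun e he => norm_inf' (h.EN b he) (norm_centralizer (le_normalizer he))) hne
      refine inf_le_right.trans fun e he => ?_
      rw [mem_centralizer_iff]
      intro w hw
      exact (mem_centralizer_iff.1 (h3 hw).2 e he).symm
    rw [h2, mem_bot] at h1
    rw [← h1]
    exact hn

/-- `g ∈ N(U) ∩ N(⨆ E b)` normalises `R₀` -/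
theorem norm_R [Finite ι] {g : G} (hgU : g ∈ normalizer (U : Set G))
    (hgE : g ∈ normalizer ((⨆ c, E c : Subgroup G) : Set G)) : g ∈ normalizer (R₀ : Set G) := by
  rw [R_eq h irr mv]
  exact norm_inf' hgU (norm_centralizer hgE)

end one

/-! ### The element `d` -/

section two

variable (h : Dec S L U N E R₀)
include h

theorem cent_U {b : ι} {z : G} (h1 : z ∈ centralizer (N b : Set G)) (h2 : z ∈ centralizer (Co N R₀ b : Set G)) :
    z ∈ centralizer (U : Set G) := by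
  have h3 : N b ⊔ Co N R₀ b ≤ centralizer ({z} : Set G) := by
    refine sup_le ?_ ?_
    · intro y hy
      rw [mem_centralizer_iff]
      rintro _ rfl
      exact (mem_centralizer_iff.1 h1 y hy).symm
    · intro y hy
      rw [mem_centralizer_iff]
      rintro _ rfl
      exact (mem_centralizer_iff.1 h2 y hy).symm
  rw [h.sup_Co b] at h3
  rw [mem_centralizer_iff]
  intro y hy
  exact (mem_centralizer_iff.1 (h3 hy) z rfl).symm

theorem E_of {b : ι} {x : G} (hx : x ∈ ⨆ c, E c) (hc : x ∈ centralizer (Co N R₀ b : Set G)) : x ∈ E b := by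
  obtain ⟨y, hy, h1⟩ := act_of h hx b
  have h2 : y⁻¹ * x ∈ L ⊓ centralizer (U : Set G) := by
    refine mem_inf.2 ⟨mul_mem (inv_mem (h.EL b hy)) (iSup_le h.EL hx), cent_U h (b := b) ?_ ?_⟩
    · rw [mem_cent_iff]
      intro w hw
      calc y⁻¹ * x * w * (y⁻¹ * x)⁻¹ = y⁻¹ * (x * w * x⁻¹) * y := by group
        _ = y⁻¹ * (y * w * y⁻¹) * y := by rw [h1 w hw]
        _ = w := by group
    · exact mul_mem (inv_mem (ECo h b hy)) hc
  have e : x = y * (y⁻¹ * x) := by group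
  rw [e]
  exact mul_mem hy (h.CE b h2)

theorem E_eq (b : ι) : E b = (⨆ c, E c) ⊓ centralizer (Co N R₀ b : Set G) :=
  le_antisymm (le_inf (le_iSup E b) (ECo h b)) fun _ hx => E_of h (mem_inf.1 hx).1 (mem_inf.1 hx).2

omit h in
theorem norm_of_smul {Y : Subgroup G} {g : G} (hg : MulAut.conj g • Y = Y) : g ∈ normalizer (Y : Set G) := by
  rw [mem_normalizer_iff]
  intro z
  exact conj_smul hg

omit h in
theorem norm_Co {g : G} (hN : ∀ b, MulAut.conj g • N b = N b) (hR : g ∈ normalizer (R₀ : Set G)) (b : ι) :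
    g ∈ normalizer (Co N R₀ b : Set G) := by
  refine norm_of_smul ?_
  unfold Co
  rw [smul_sup, smul_of_norm hR,
    show MulAut.conj g • (⨆ c : {c // c ≠ b}, N c) = ⨆ c : {c // c ≠ b}, MulAut.conj g • N c from
      Subgroup.map_iSup _ _]
  simp only [hN]

theorem norm_E {g : G} (hN : ∀ b, MulAut.conj g • N b = N b) (hR : g ∈ normalizer (R₀ : Set G))
    (hgE : g ∈ normalizer ((⨆ c, E c : Subgroup G) : Set G)) (b : ι) : g ∈ normalizer (E b : Set G) := by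
  rw [E_eq h b]
  exact norm_inf' hgE (norm_centralizer (norm_Co hN hR b))

theorem actT {g : G} (hN : ∀ b, MulAut.conj g • N b = N b) (hR : g ∈ normalizer (R₀ : Set G))
    (hgE : g ∈ normalizer ((⨆ c, E c : Subgroup G) : Set G))
    (hJ : g ∈ normalizer (((S ⊓ centralizer (R₀ : Set G)) ⊔ centralizer ((⨆ c, N c : Subgroup G) : Set G) :
      Subgroup G) : Set G)) (b : ι) :
    ∀ s ∈ S ⊓ E b, ∃ s' ∈ S ⊓ E b, ∀ w ∈ N b, g * s * g⁻¹ * w * (g * s * g⁻¹)⁻¹ = s' * w * s'⁻¹ := by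
  intro s hs
  have hsE : g * s * g⁻¹ ∈ E b := (mem_normalizer_iff.1 (norm_E h hN hR hgE b) s).1 hs.2
  have hsJ : g * s * g⁻¹ ∈ (S ⊓ centralizer (R₀ : Set G)) ⊔ centralizer ((⨆ c, N c : Subgroup G) : Set G) :=
    (mem_normalizer_iff.1 hJ s).1 (mem_sup_left (mem_inf.2 ⟨hs.1, h.ER b hs.2⟩))
  have hn : S ⊓ centralizer (R₀ : Set G) ≤
      normalizer ((centralizer ((⨆ c, N c : Subgroup G) : Set G) : Subgroup G) : Set G) :=
    fun x hx => norm_centralizer (le_norm_B h (h.SL hx.1))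
  obtain ⟨j, hj, c, hc, e⟩ := mem_sup_of hn hsJ
  have hjc : c = j⁻¹ * (g * s * g⁻¹) := by rw [e]; group
  have hcU : c ∈ L ⊓ centralizer (U : Set G) := by
    refine mem_inf.2 ⟨?_, ?_⟩
    · rw [hjc]
      exact mul_mem (inv_mem (h.SL hj.1)) (h.EL b hsE)
    · have h3 : (⨆ c, N c) ⊔ R₀ ≤ centralizer ({c} : Set G) := by
        refine sup_le ?_ ?_
        · intro y hy
          rw [mem_centralizer_singleton_iff]
          exact mem_centralizer_iff.1 hc y hy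
        · intro y hy
          rw [mem_centralizer_singleton_iff]
          have h4 : c ∈ centralizer (R₀ : Set G) := by
            rw [hjc]
            exact mul_mem (inv_mem hj.2) (h.ER b hsE)
          exact mem_centralizer_iff.1 h4 y hy
      rw [h.sup] at h3
      rw [mem_centralizer_iff]
      intro y hy
      exact (mem_centralizer_iff.1 (h3 hy) c rfl).symm
  have hjE : j ∈ E b := by
    have e2 : j = (g * s * g⁻¹) * c⁻¹ := by rw [e]; group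
    rw [e2]
    exact mul_mem hsE (inv_mem (h.CE b hcU))
  refine ⟨j, mem_inf.2 ⟨hj.1, hjE⟩, fun w hw => ?_⟩
  have h5 : c * w * c⁻¹ = w := mem_cent_iff.1 hc w (le_iSup N b hw)
  calc g * s * g⁻¹ * w * (g * s * g⁻¹)⁻¹ = j * (c * w * c⁻¹) * j⁻¹ := by rw [e]; group
    _ = _ := by rw [h5]

/-- **the field `bad`** -/
theorem bad [Finite ι] (irr : ∀ b, ∀ W : Subgroup G, W ≤ N b → E b ≤ normalizer (W : Set G) → W ≠ ⊥ → N b ≤ W)
    (mv : ∀ b, ¬ S ⊓ E b ≤ centralizer (N b : Set G)) (hsq : ∀ x ∈ U, x ^ 2 = 1) {e : G} {l : ι → Subgroup G}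
    (k : ∀ b, (Rt (N b) (l b) (S ⊓ E b) ∧ ∃ n ∈ l b, n ≠ 1 ∧ IsC N R₀ b e n) ∨ Sml S (N b) (E b))
    {d : G} (hd : Odd (orderOf d)) (hdU : d ∈ normalizer (U : Set G))
    (hdE : d ∈ normalizer ((⨆ c, E c : Subgroup G) : Set G)) (hde : d * e = e * d)
    (hdJ : d ∈ normalizer (((S ⊓ centralizer (R₀ : Set G)) ⊔ centralizer ((⨆ c, N c : Subgroup G) : Set G) :
      Subgroup G) : Set G))
    (hcom : ∀ j ∈ S ⊓ centralizer (R₀ : Set G), ∀ w ∈ ⨆ c, N c,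
      Commute (j * d * j⁻¹ * d⁻¹) (d * w * d⁻¹ * w⁻¹)) :
    d ∈ centralizer ((⨆ c, N c : Subgroup G) : Set G) := by
  have hcom' : ∀ b, ∀ j ∈ S ⊓ E b, ∀ w ∈ N b, Commute (j * d * j⁻¹ * d⁻¹) (d * w * d⁻¹ * w⁻¹) :=
    fun b j hj w hw => hcom j (mem_inf.2 ⟨hj.1, h.ER b hj.2⟩) w (le_iSup N b hw)
  have hN := stab h irr mv hdU hdE hcom'
  have hR := norm_R h irr mv hdU hdE
  have hNi : ∀ b, MulAut.conj d⁻¹ • N b = N b := fun b => by
    conv_lhs => rw [← hN b]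
    rw [map_inv, inv_smul_smul]
  have hT := actT h hN hR hdE hdJ
  have hTi := actT h hNi (inv_mem hR) (inv_mem hdE) (inv_mem hdJ)
  have hNab : ∀ b, N b ≤ centralizer (N b : Set G) := fun b => ((h.NU b).trans h.ab).trans (centralizer_le (h.NU b))
  have key : ∀ b, d ∈ centralizer (N b : Set G) := by
    intro b
    rcases k b with ⟨hr, n, hn, hn1, hc⟩ | hs
    · rw [mem_cent_iff]
      refine hr.fix (hNab b) (fun x hx => hsq x (h.NU b hx)) hd (norm_of_smul (hN b)) (hT b) hn hn1 ?_ (hcom' b)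
      -- `d` centralises the component
      have h1 : IsC N R₀ b e (d * n * d⁻¹) := by
        refine ⟨(mem_normalizer_iff.1 (norm_of_smul (hN b)) n).1 hc.1, ?_⟩
        have h2 := (mem_normalizer_iff.1 (norm_Co hN hR b) _).1 hc.2
        have e1 : (d * n * d⁻¹)⁻¹ * e = d * (n⁻¹ * e) * d⁻¹ := by
          calc (d * n * d⁻¹)⁻¹ * e = d * n⁻¹ * d⁻¹ * (d * e * d⁻¹) := by rw [hde]; group
            _ = _ := by group
        rw [e1]
        exact h2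
      exact (h.uniq hc h1).symm
    · refine hs d hd (norm_of_smul (hN b)) (norm_E h hN hR hdE b) ?_ (hcom' b)
      have hnn : S ⊓ E b ≤ normalizer ((centralizer (N b : Set G) : Subgroup G) : Set G) :=
        fun x hx => norm_centralizer (h.EN b hx.2)
      have gen : ∀ g : G, g ∈ normalizer (N b : Set G) →
          (∀ s ∈ S ⊓ E b, ∃ s' ∈ S ⊓ E b, ∀ w ∈ N b, g * s * g⁻¹ * w * (g * s * g⁻¹)⁻¹ = s' * w * s'⁻¹) →
          ∀ z ∈ (S ⊓ E b) ⊔ centralizer (N b : Set G), g * z * g⁻¹ ∈ (S ⊓ E b) ⊔ centralizer (N b : Set G) := by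
        intro g hg hgT z hz
        obtain ⟨s, hs, c, hc, e⟩ := mem_sup_of hnn hz
        obtain ⟨s', hs', h2⟩ := hgT s hs
        have e1 : g * z * g⁻¹ = s' * (s'⁻¹ * (g * s * g⁻¹)) * (g * c * g⁻¹) := by rw [e]; group
        rw [e1]
        refine mul_mem (mul_mem (mem_sup_left hs') (mem_sup_right ?_))
          (mem_sup_right ((mem_normalizer_iff.1 (norm_centralizer hg) c).1 hc))
        rw [mem_cent_iff]
        intro w hw
        calc s'⁻¹ * (g * s * g⁻¹) * w * (s'⁻¹ * (g * s * g⁻¹))⁻¹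
            = s'⁻¹ * (g * s * g⁻¹ * w * (g * s * g⁻¹)⁻¹) * s' := by group
          _ = s'⁻¹ * (s' * w * s'⁻¹) * s' := by rw [h2 w hw]
          _ = w := by group
      rw [mem_normalizer_iff]
      intro z
      refine ⟨gen d (norm_of_smul (hN b)) (hT b) z, fun hz => ?_⟩
      have h3 := gen d⁻¹ (inv_mem (norm_of_smul (hN b))) (hTi b) _ hz
      have e : d⁻¹ * (d * z * d⁻¹) * d⁻¹⁻¹ = z := by group
      rwa [e] at h3
  have h3 : (⨆ c, N c) ≤ centralizer ({d} : Set G) := by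
    refine iSup_le fun b y hy => ?_
    rw [mem_centralizer_iff]
    rintro _ rfl
    exact (mem_centralizer_iff.1 (key b) y hy).symm
  rw [mem_centralizer_iff]
  intro y hy
  exact (mem_centralizer_iff.1 (h3 hy) d rfl).symm

end two

end dec

/-! ### The form of `FrE.false_of` -/

section glue

open Cfsg.Agent.ZN (zc zl)
open Cfsg.Agent.Omega.NOThreeL.Star (YS)

variable [Finite G] {S : Sylow 2 G} {ι : Type v} [Finite ι]

/-- Frattini: `N_G(L) = L (N_G(L) ∩ N_G(S))`, `S ≤ L` -/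
theorem frat {L : Subgroup G} (hL : (S : Subgroup G) ≤ L) {d : G} (hd : d ∈ normalizer (L : Set G)) :
    ∃ x ∈ L, x⁻¹ * d ∈ normalizer ((S : Subgroup G) : Set G) := by
  have hdS : ((d • S : Sylow 2 G) : Subgroup G) ≤ L := by
    rintro _ ⟨y, hy, rfl⟩
    exact (mem_normalizer_iff.1 hd y).1 (hL hy)
  obtain ⟨x, hx⟩ := MulAction.exists_smul_eq L (S.subtype hL) ((d • S).subtype hdS)
  rw [Sylow.smul_subtype] at hx
  have h1 := Sylow.subtype_injective hx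
  refine ⟨x, x.2, ?_⟩
  refine Sylow.smul_eq_iff_mem_normalizer.1 ?_
  rw [mul_smul, ← h1]
  change (x : G)⁻¹ • (x : G) • S = S
  rw [inv_smul_smul]

/-- `N_G(L) ≤ N_G(⟨Z^L⟩)`, `S ≤ L` -/
theorem norm_zl {L : Subgroup G} (hL : (S : Subgroup G) ≤ L) {d : G} (hd : d ∈ normalizer (L : Set G)) :
    d ∈ normalizer (zl (S : Subgroup G) L : Set G) := by
  obtain ⟨x, hx, hn⟩ := frat hL hd
  have h1 : x⁻¹ * d ∈ normalizer (L : Set G) := mul_mem (inv_mem (le_normalizer hx)) hd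
  have h2 : x⁻¹ * d ∈ normalizer (zl (S : Subgroup G) L : Set G) := by
    have h3 := MinSimple.CosetFam.zl_conj (x⁻¹ * d) (S : Subgroup G) L
    rw [smul_of_norm hn, smul_of_norm h1] at h3
    exact norm_of_smul h3.symm
  have e : d = x * (x⁻¹ * d) := by group
  rw [e]
  exact mul_mem (MinSimple.VModule.le_normalizer_zl _ _ hx) h2

variable {N E : ι → Subgroup G} {R₀ R : Subgroup G}

/-- **the hypothesis `bad` of `FrE.false_of`** (`R ≤ R₀`; the `N b` may be all blocks or the blocks of one kind) -/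
theorem bad_of (h : Dec (S : Subgroup G) (YS (S : Subgroup G)) (zl (S : Subgroup G) (YS S)) N E R₀) (hR : R ≤ R₀)
    (irr : ∀ b, ∀ W : Subgroup G, W ≤ N b → E b ≤ normalizer (W : Set G) → W ≠ ⊥ → N b ≤ W)
    (mv : ∀ b, ¬ (S : Subgroup G) ⊓ E b ≤ centralizer (N b : Set G))
    (hsq : ∀ x ∈ zl (S : Subgroup G) (YS S), x ^ 2 = 1) {e : G} {l : ι → Subgroup G}
    (k : ∀ b, (Rt (N b) (l b) ((S : Subgroup G) ⊓ E b) ∧ ∃ n ∈ l b, n ≠ 1 ∧ IsC N R₀ b e n) ∨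
      Sml (S : Subgroup G) (N b) (E b))
    (hE : ∀ d ∈ normalizer (YS (S : Subgroup G) : Set G), d ∈ normalizer (zl (S : Subgroup G) (YS S) : Set G) →
      d ∈ normalizer (R : Set G) → d ∈ normalizer ((⨆ b, N b : Subgroup G) : Set G) →
      d ∈ normalizer ((⨆ b, E b : Subgroup G) : Set G)) :
    ∀ d ∈ centralizer ({e} : Set G), d ∈ normalizer (R : Set G) → d ∈ normalizer ((⨆ b, N b : Subgroup G) : Set G) →
      d ∈ normalizer (((S : Subgroup G) ⊓ centralizer (R : Set G) : Subgroup G) : Set G) →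
      d ∈ normalizer (YS (S : Subgroup G) : Set G) → Odd (orderOf d) →
      (∀ j ∈ (S : Subgroup G) ⊓ centralizer (R : Set G), ∀ w ∈ (⨆ b, N b : Subgroup G),
        (j * d * j⁻¹ * d⁻¹) * (d * w * d⁻¹ * w⁻¹) = (d * w * d⁻¹ * w⁻¹) * (j * d * j⁻¹ * d⁻¹)) →
      d ∈ centralizer ((⨆ b, N b : Subgroup G) : Set G) := by
  intro d hde hdR hdB hdJ hdY hd hcom
  have hdU := norm_zl h.SL hdY
  have hdE := hE d hdY hdU hdR hdB
  have hR₀ := norm_R h irr mv hdU hdE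
  have hJe : (S : Subgroup G) ⊓ centralizer (R₀ : Set G) =
      ((S : Subgroup G) ⊓ centralizer (R : Set G)) ⊓ centralizer (R₀ : Set G) :=
    le_antisymm (le_inf (inf_le_inf_left _ (centralizer_le hR)) inf_le_right) (inf_le_inf_right _ inf_le_left)
  refine bad h irr mv hsq k hd hdU hdE (mem_centralizer_singleton_iff.1 hde) ?_ ?_
  · have h1 : d ∈ normalizer (((S : Subgroup G) ⊓ centralizer (R₀ : Set G) : Subgroup G) : Set G) := by
      rw [hJe]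
      exact norm_inf' hdJ (norm_centralizer hR₀)
    refine norm_of_smul ?_
    rw [smul_sup, smul_of_norm h1, smul_of_norm (norm_centralizer hdB)]
  · intro j hj w hw
    exact hcom j (mem_inf.2 ⟨hj.1, centralizer_le hR hj.2⟩) w hw

end glue

end Cfsg.Agent.Omega.NOThreeL.RZ.TwoC.BadE
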