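import Cfsg.Agent.Mrg.Omega.NOThreeL.RZ.TwoC.Loc
import Cfsg.Agent.Mrg.Omega.NOThreeL.RZ.Nz


/-!
# [R-z], case (II) (helper513, #24309, #24705; helper616 #24761): the two sides, abstract frame

`S` a Sylow 2-subgroup, `Z = Ω₁(Z(S))`, `C = C_G(Z) = CZ S`, `O = O₂(C)`, `N = N_G(S)`; `L ≥ S` (`= LL S R`), `E` the group
generated by the block types, `V ∈ NN(S)` (`= ⟨Z^L⟩`), `1 ≠ Z₁ ≤ Z₀ ≤ Z`, `Z₁ ≤ R₁`, `B`: `Ab S L E Z₀ B V Z₁ R₁`.

* `K1 S L = ⟨L, C⟩ N`, `K2 S Z₁ = C_G(Z₁) N`; `U₁ = zl S K₁`, `W₂ = ⟨V^{K₂}⟩`, `NR = ⟨V^{C_G(R₁)}⟩`, `NB = ⟨Z₀^{C_G(B)}⟩`;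
* `locK1`, `locK2`, `K2_le` : `K₂ ≤ ⟨K₁ ∩ K₂, E⟩`; `cB_le` : `C_G(B) ≤ K₁`; `noOnR`, `noB`;
* **`Ab.twoD`** : `Side.TwoD`;
* `Ab.le_o2K1`, `Ab.le_o2R`, `Ab.le_o2K2`, `Ab.le_o2B` : where `A` and `F` lie.
-/

set_option autoImplicit false
set_option linter.unusedSectionVars false

namespace Cfsg.Agent.Omega.NOThreeL.RZ.TwoC

open Subgroup Cfsg
open Cfsg.Agent.ZN (o2 zc zl jj)
open Cfsg.Agent.ZN.ChoiceBase hiding mem_zc
open Cfsg.Agent.Omega.ML.Final (MLK)
open Cfsg.Agent.Omega.ML.GMod (hul hul_le hul_le_of le_hul cj_le_hul le_normalizer_hul nc ri_mono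
  normalizer_le_normalizer_o2)
open Cfsg.Agent.Omega.MinPar Cfsg.Agent.Omega.Frame Cfsg.Agent.Omega.FrameNOFF
open Cfsg.Agent.Omega.NO3b.Bang
open Cfsg.Agent.Omega.NO3S.EThree.ExactA (eab_iff eab_mono)
open Cfsg.Agent.Omega.EK3.Rank (NoOn)
open Cfsg.Agent.Omega.NoFF.Basic (comm_symm)
open Cfsg.Agent.Omega.GI (relIndex_congr relIndex_sup_of_comm)
open Cfsg.Agent.MinSimple.VModule (zc_le_zl le_normalizer_zl zl_le zc_le zc_sq zc_comm mem_zc le_centralizer_zc
  le_normalizer_o2 o2_isPGroup o2_le le_o2 normalizer_le_normalizer_zc)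
open Cfsg.Agent.Omega.NOThreeL.RZ.TwoC.Loc

universe u

variable {G : Type u} [Group G]

/-- `K₁ = ⟨L, C_G(Z)⟩ N_G(S)` -/
def K1 (S L : Subgroup G) : Subgroup G := (L ⊔ CZ S) ⊔ normalizer (S : Set G)

/-- `K₂ = C_G(Z₁) N_G(S)` -/
def K2 (S Z₁ : Subgroup G) : Subgroup G := centralizer (Z₁ : Set G) ⊔ normalizer (S : Set G)

theorem norm_hul [Finite G] {Z L K : Subgroup G} (h1 : K ≤ normalizer (Z : Set G)) (h2 : K ≤ normalizer (L : Set G)) :
    K ≤ normalizer (hul Z L : Set G) := by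
  intro k hk
  refine mem_normalizer_of_cj_le ?_
  rw [cj_le_iff]
  refine hul_le fun l hl => ?_
  rw [← cj_le_iff, cj_cj]
  have e : cj (k * l) Z = cj (k * l * k⁻¹) Z := by
    conv_rhs => rw [← cj_cj, cj_eq_of_mem_normalizer (h1 (K.inv_mem hk))]
  rw [e]
  exact cj_le_hul ((mem_normalizer_iff.1 (h2 hk) l).1 hl)

theorem hul_mono {Z L L' : Subgroup G} (h : L ≤ L') : hul Z L ≤ hul Z L' := hul_le fun _ hg => cj_le_hul (h hg)

theorem nS_CZ [Finite G] {S : Sylow 2 G} :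
    normalizer ((S : Subgroup G) : Set G) ≤ normalizer (CZ (S : Subgroup G) : Set G) :=
  (normalizer_le_normalizer_zc _).trans (nc _)

/-- **The abstract frame of case (II).** -/
structure Ab [Finite G] (S : Sylow 2 G) (L E Z₀ B V Z₁ R₁ : Subgroup G) : Prop where
  ctx : Ctx G
  SL : (S : Subgroup G) ≤ L
  nL : normalizer ((S : Subgroup G) : Set G) ≤ normalizer (L : Set G)
  nn : NN (S : Subgroup G) V
  ZV : zc (S : Subgroup G) ≤ V
  low : V ≤ o2 (CZ (S : Subgroup G))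
  LV : L ≤ normalizer (V : Set G)
  dich : ∀ P, IsParS (S : Subgroup G) P → P ≤ L ∨ P ≤ E
  EZ : E ≤ centralizer (Z₀ : Set G)
  EB : E ≤ normalizer (B : Set G)
  SB : (S : Subgroup G) ≤ normalizer (B : Set G)
  B2 : IsPGroup 2 B
  zB : zc (S : Subgroup G) ≤ (zc (S : Subgroup G) ⊓ B) ⊔ Z₀
  BN : B ≤ hul V (centralizer (R₁ : Set G))
  Z0 : Z₀ ≤ zc (S : Subgroup G)
  ne1 : Z₁ ≠ ⊥
  le1 : Z₁ ≤ Z₀
  n1 : normalizer ((S : Subgroup G) : Set G) ≤ normalizer (Z₁ : Set G)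
  R2 : IsPGroup 2 R₁
  ZR : Z₁ ≤ R₁
  LR : L ≤ normalizer (R₁ : Set G)
  nl : ∀ U : Subgroup G, IsPGroup 2 U → L ≤ normalizer (U : Set G) →
    centralizer (Z₀ : Set G) ≤ normalizer (U : Set G) → U = ⊥
  loc : ¬ NonLoc L (CZ (S : Subgroup G))

namespace Ab

variable [Finite G] {S : Sylow 2 G} {L E Z₀ B V Z₁ R₁ : Subgroup G} (h : Ab S L E Z₀ B V Z₁ R₁)
include h

theorem Z1_le : Z₁ ≤ zc (S : Subgroup G) := h.le1.trans h.Z0

theorem zc_ne : zc (S : Subgroup G) ≠ ⊥ := fun e => h.ne1 (le_bot_iff.1 (e ▸ h.Z1_le))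

theorem S_le_K1 : (S : Subgroup G) ≤ K1 (S : Subgroup G) L := (le_CZ S).trans (le_sup_right.trans le_sup_left)

theorem C_le_K1 : CZ (S : Subgroup G) ≤ K1 (S : Subgroup G) L := le_sup_right.trans le_sup_left

theorem L_le_K1 : L ≤ K1 (S : Subgroup G) L := le_sup_left.trans le_sup_left

/-- `K₁` is local -/
theorem locK1 : IsLoc (S : Subgroup G) (K1 (S : Subgroup G) L) := by
  have h1 : o2 (L ⊔ CZ (S : Subgroup G)) ≠ ⊥ := by
    intro e
    apply h.loc
    intro U hU hA hB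
    by_contra hne
    refine o2_ne_bot_of_le hU hne ?_ (sup_le hA hB) e
    exact (le_of_le_normalizer S hU ((le_CZ S).trans hB)).trans ((le_CZ S).trans le_sup_right)
  refine isLoc_of_le_normalizer S h.S_le_K1 (o2_isPGroup (L ⊔ CZ (S : Subgroup G))) h1 ?_
  refine sup_le (le_normalizer_o2 _) ?_
  refine le_trans ?_ (normalizer_le_normalizer_o2 _)
  exact le_normalizer_sup h.nL nS_CZ

theorem kg {X : Subgroup G} (hL : IsLoc (S : Subgroup G) X) : IsKGroup X :=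
  ML.GNN.kgroup_of_isLoc h.ctx h.ctx.not_isPGroup hL

/-- `K₂` is local -/
theorem locK2 : IsLoc (S : Subgroup G) (K2 (S : Subgroup G) Z₁) := by
  refine isLoc_of_le_normalizer S ?_ (S.isPGroup'.to_le (h.Z1_le.trans (zc_le _))) h.ne1 ?_
  · exact (le_normalizer : (S : Subgroup G) ≤ _).trans le_sup_right
  · exact sup_le (centralizer_le_normalizer _) h.n1

theorem C_le_K2 : CZ (S : Subgroup G) ≤ K2 (S : Subgroup G) Z₁ := (centralizer_le h.Z1_le).trans le_sup_left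

theorem E_le : E ≤ K2 (S : Subgroup G) Z₁ := (h.EZ.trans (centralizer_le h.le1)).trans le_sup_left

/-- **`K₂ ≤ ⟨K₁ ∩ K₂, E⟩`** -/
theorem K2_le : K2 (S : Subgroup G) Z₁ ≤ (K1 (S : Subgroup G) L ⊓ K2 (S : Subgroup G) Z₁) ⊔ E := by
  refine h.locK2.le_of_forall S (le_trans ?_ le_sup_left) fun P hP hPK => ?_
  · exact le_inf (inf_le_right.trans le_sup_right) inf_le_left
  · by_cases hz : P ≤ normalizer (zc (S : Subgroup G) : Set G)
    · exact (le_inf ((Nz.le_centralizer_of hP hz).trans h.C_le_K1) hPK).trans le_sup_left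
    rcases h.dich P ⟨hP, hz⟩ with h1 | h1
    · exact (le_inf (h1.trans h.L_le_K1) hPK).trans le_sup_left
    · exact h1.trans le_sup_right

/-- `⟨K₁, K₂⟩` is nonlocal -/
theorem nonlocK {U : Subgroup G} (hU : IsPGroup 2 U) (h1 : K1 (S : Subgroup G) L ≤ normalizer (U : Set G))
    (h2 : K2 (S : Subgroup G) Z₁ ≤ normalizer (U : Set G)) : U = ⊥ :=
  h.nl U hU (h.L_le_K1.trans h1) (((centralizer_le h.le1).trans le_sup_left).trans h2)

/-- `L` normalises `⟨V^{C_G(R₁)}⟩` -/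
theorem nNR : L ≤ normalizer (hul V (centralizer (R₁ : Set G)) : Set G) := norm_hul h.LV (h.LR.trans (nc _))

theorem R1_ne : R₁ ≠ ⊥ := fun e => h.ne1 (le_bot_iff.1 (e ▸ h.ZR))

/-- `C_G(R₁) S` is local -/
theorem locR : IsLoc (S : Subgroup G) (centralizer (R₁ : Set G) ⊔ (S : Subgroup G)) :=
  isLoc_of_le_normalizer S le_sup_right h.R2 h.R1_ne (sup_le (centralizer_le_normalizer _) (h.SL.trans h.LR))

theorem hul_R : hul V (centralizer (R₁ : Set G) ⊔ (S : Subgroup G)) = hul V (centralizer (R₁ : Set G)) := by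
  refine le_antisymm (hul_le_of (le_hul _ _) ?_) (hul_mono le_sup_left)
  exact sup_le (le_normalizer_hul _ _) (h.SL.trans h.nNR)

theorem B_ne : B ≠ ⊥ := by
  intro e
  have h1 : zc (S : Subgroup G) ≤ Z₀ := by
    have := h.zB
    rw [e, inf_bot_eq, bot_sup_eq] at this
    exact this
  refine h.locK1.o2_ne (h.nl _ (o2_isPGroup _) (h.L_le_K1.trans (le_normalizer_o2 _)) ?_)
  exact ((centralizer_le h1).trans h.C_le_K1).trans (le_normalizer_o2 _)

theorem cent_Z {X : Subgroup G} (h1 : X ≤ centralizer (B : Set G)) (h2 : X ≤ centralizer (Z₀ : Set G)) :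
    X ≤ centralizer (zc (S : Subgroup G) : Set G) := by
  refine comm_symm (h.zB.trans (sup_le ?_ (comm_symm h2)))
  exact inf_le_right.trans (comm_symm h1)

/-- `C_G(B) S` is local -/
theorem locB : IsLoc (S : Subgroup G) (centralizer (B : Set G) ⊔ (S : Subgroup G)) :=
  isLoc_of_le_normalizer S le_sup_right h.B2 h.B_ne (sup_le (centralizer_le_normalizer _) h.SB)

/-- **`C_G(B) ≤ K₁`** -/
theorem cB_le : centralizer (B : Set G) ≤ K1 (S : Subgroup G) L := by
  refine le_trans (le_sup_left : _ ≤ centralizer (B : Set G) ⊔ (S : Subgroup G)) ?_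
  refine h.locB.le_of_forall S (inf_le_right.trans le_sup_right) fun P hP hPX => ?_
  by_cases hz : P ≤ normalizer (zc (S : Subgroup G) : Set G)
  · exact (Nz.le_centralizer_of hP hz).trans h.C_le_K1
  rcases h.dich P ⟨hP, hz⟩ with h1 | h1
  · exact h1.trans h.L_le_K1
  · -- `P = C_P(B) S` centralises `Z`
    have e : P ≤ (P ⊓ centralizer (B : Set G)) ⊔ (S : Subgroup G) := by
      intro p hp
      have h2 : p ∈ ((centralizer (B : Set G) ⊔ (S : Subgroup G) : Subgroup G) : Set G) := hPX hp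
      rw [coe_mul_of_right_le_normalizer_left _ _ (h.SB.trans (nc _)), Set.mem_mul] at h2
      obtain ⟨c, hc, t, ht, rfl⟩ := h2
      refine mul_mem_sup ⟨?_, hc⟩ ht
      have e2 : c = c * t * t⁻¹ := by group
      rw [e2]
      exact P.mul_mem hp (P.inv_mem (hP.le ht))
    have h2 : P ≤ CZ (S : Subgroup G) := by
      refine e.trans (sup_le ?_ (le_CZ S))
      exact h.cent_Z inf_le_right (inf_le_left.trans (h1.trans h.EZ))
    exact h2.trans h.C_le_K1

/-- `⟨Z^{C_G(B) S}⟩ = ⟨Z₀^{C_G(B)}⟩ (Z ∩ B)` -/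
theorem zl_B : zl (S : Subgroup G) (centralizer (B : Set G) ⊔ (S : Subgroup G)) =
    hul Z₀ (centralizer (B : Set G)) ⊔ (zc (S : Subgroup G) ⊓ B) := by
  apply le_antisymm
  · refine zl_le ?_ ?_
    · exact h.zB.trans (sup_le le_sup_right ((le_hul _ _).trans le_sup_left))
    · have hSZ0 : (S : Subgroup G) ≤ normalizer (Z₀ : Set G) :=
        ((le_CZ S).trans (centralizer_le h.Z0)).trans (centralizer_le_normalizer _)
      refine sup_le (le_normalizer_sup (le_normalizer_hul _ _) ?_) (le_normalizer_sup ?_ ?_)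
      · exact (centralizer_le inf_le_right).trans (centralizer_le_normalizer _)
      · exact norm_hul hSZ0 (h.SB.trans (nc _))
      · exact ((le_CZ S).trans (centralizer_le inf_le_left)).trans (centralizer_le_normalizer _)
  · refine sup_le ?_ (inf_le_left.trans (zc_le_zl _ _))
    refine hul_le_of (h.Z0.trans (zc_le_zl _ _)) (le_sup_left.trans (le_normalizer_zl _ _))

theorem hRW : hul V (centralizer (R₁ : Set G)) ≤ hul V (K2 (S : Subgroup G) Z₁) :=
  hul_mono ((centralizer_le h.ZR).trans le_sup_left)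

theorem B_le_W : B ≤ hul V (K2 (S : Subgroup G) Z₁) := h.BN.trans h.hRW

/-! ### Where `A` and `F` lie -/

/-- `A ∈ AA(C_O(U₁))`: `A ≤ O₂(K₁)` -/
theorem le_o2K1 : o2 (CZ (S : Subgroup G)) ⊓ centralizer (zl (S : Subgroup G) (K1 (S : Subgroup G) L) : Set G) ≤
    o2 (K1 (S : Subgroup G) L) :=
  inf_cent_le h.S_le_K1 (zc_le_zl _ _) (le_normalizer_zl _ _)

/-- `A ∈ AA(C_O(W₂))`: `A ≤ O₂(K₂)` -/
theorem le_o2K2 : o2 (CZ (S : Subgroup G)) ⊓ centralizer (hul V (K2 (S : Subgroup G) Z₁) : Set G) ≤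
    o2 (K2 (S : Subgroup G) Z₁) :=
  inf_cent_le h.locK2.le (h.ZV.trans (le_hul _ _)) (le_normalizer_hul _ _)

/-- `F = C_A(NR) ≤ O₂(C_G(R₁) S)` -/
theorem le_o2R : o2 (CZ (S : Subgroup G)) ⊓ centralizer (hul V (centralizer (R₁ : Set G)) : Set G) ≤
    o2 (centralizer (R₁ : Set G) ⊔ (S : Subgroup G)) := by
  rw [← h.hul_R]
  exact inf_cent_le le_sup_right (h.ZV.trans (le_hul _ _)) (le_normalizer_hul _ _)

/-- `F = C_A(NB) ≤ O₂(C_G(B) S)` if `F` centralises `B` -/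
theorem le_o2B {F : Subgroup G} (hF : F ≤ o2 (CZ (S : Subgroup G))) (hFN : F ≤ centralizer (hul Z₀ (centralizer (B : Set G)) : Set G))
    (hFB : F ≤ centralizer (B : Set G)) : F ≤ o2 (centralizer (B : Set G) ⊔ (S : Subgroup G)) := by
  refine le_trans (le_inf hF ?_) (inf_cent_le (W := zl (S : Subgroup G) (centralizer (B : Set G) ⊔ (S : Subgroup G)))
    le_sup_right (zc_le_zl _ _) (le_normalizer_zl _ _))
  rw [h.zl_B]
  exact comm_symm (sup_le (comm_symm hFN) (inf_le_right.trans (comm_symm hFB)))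

variable (hM : MLK.{u, u})
include hM

/-- `(NO)` on `⟨V^{C_G(R₁)}⟩` -/
theorem noOnR : NoOn (o2 (CZ (S : Subgroup G))) (hul V (centralizer (R₁ : Set G))) := by
  rw [← h.hul_R]
  exact noOn_hul hM h.ctx h.locR (h.kg h.locR) h.nn h.low h.ZV

/-- `(NO)` on `⟨Z₀^{C_G(B)}⟩` for the elementary abelian `A ≤ O` centralising `B` -/
theorem noB {A : Subgroup G} (hel : IsElementaryAbelian 2 A) (hA : A ≤ o2 (CZ (S : Subgroup G)))
    (hAB : A ≤ centralizer (B : Set G)) :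
    (centralizer (hul Z₀ (centralizer (B : Set G)) : Set G)).relIndex A ≤
      (centralizer (A : Set G)).relIndex (hul Z₀ (centralizer (B : Set G))) := by
  have hX := h.locB
  have h1 := gml hM h.ctx hX (h.kg hX) hA (eab_iff.1 hel).2
  have hzc := hX.zl_le S h.ctx.char2
  rw [h.zl_B] at h1 hzc
  set NB : Subgroup G := hul Z₀ (centralizer (B : Set G)) with hNB
  have hAZ : A ≤ centralizer ((zc (S : Subgroup G) ⊓ B : Subgroup G) : Set G) := hAB.trans (centralizer_le inf_le_right)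
  have e1 : (centralizer ((NB ⊔ (zc (S : Subgroup G) ⊓ B) : Subgroup G) : Set G)).relIndex A =
      (centralizer (NB : Set G)).relIndex A := by
    refine relIndex_congr (le_antisymm (inf_le_inf_left _ (centralizer_le (SetLike.coe_subset_coe.2 le_sup_left))) ?_)
    refine le_inf inf_le_left (comm_symm (sup_le (comm_symm inf_le_right) (comm_symm (inf_le_left.trans hAZ))))
  have e2 : (centralizer (A : Set G)).relIndex (NB ⊔ (zc (S : Subgroup G) ⊓ B)) = (centralizer (A : Set G)).relIndex NB := by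
    refine relIndex_sup_of_comm (comm_symm hAZ) ?_
    intro x hx
    rw [mem_centralizer_iff]
    intro y hy
    exact zc_comm _ _ (hzc (le_sup_right (a := NB) hy)) _ (hzc (le_sup_left (b := zc (S : Subgroup G) ⊓ B) hx))
  rwa [e1, e2] at h1

/-- **The two sides.** -/
theorem twoD :
    Side.TwoD (o2 (CZ (S : Subgroup G))) (CZ (S : Subgroup G) ⊔ normalizer ((S : Subgroup G) : Set G))
      (K1 (S : Subgroup G) L) (K2 (S : Subgroup G) Z₁) L E
      (zl (S : Subgroup G) (K1 (S : Subgroup G) L)) (hul V (K2 (S : Subgroup G) Z₁))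
      (hul V (centralizer (R₁ : Set G))) (hul Z₀ (centralizer (B : Set G))) := by
  have l1 := h.locK1
  have l2 := h.locK2
  have hnn := nn_hul hM h.ctx l2 (h.kg l2) h.nn h.low
  have hO1 : o2 (K1 (S : Subgroup G) L) ≤ o2 (CZ (S : Subgroup G)) := o2_le_o2 S (le_CZ S) h.C_le_K1
  have hO2 : o2 (K2 (S : Subgroup G) Z₁) ≤ o2 (CZ (S : Subgroup G)) := o2_le_o2 S (le_CZ S) h.C_le_K2
  have hz1 := l1.zl_le S h.ctx.char2
  exact
  { OD := (o2_le _).trans le_sup_left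
    DO := sup_le (le_normalizer_o2 _) (nS_CZ.trans (normalizer_le_normalizer_o2 _))
    D1 := sup_le h.C_le_K1 le_sup_right
    D2 := sup_le h.C_le_K2 le_sup_right
    e1 := h.L_le_K1
    g1 := sup_le (sup_le le_sup_right (le_sup_left.trans le_sup_left)) (le_sup_right.trans le_sup_left)
    e2 := h.E_le
    g2 := h.K2_le
    el1 := eab_iff.2 ⟨fun x hx => mem_centralizer_iff.2 fun y hy => zc_comm _ _ (hz1 hy) _ (hz1 hx),
      fun x hx => zc_sq _ _ (hz1 hx)⟩
    el2 := hul_eab hM h.ctx l2 (h.kg l2) h.nn h.low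
    UO := (hz1.trans (zc_le _)).trans hO1
    WO := hnn.le.trans hO2
    KU := le_normalizer_zl _ _
    KW := le_normalizer_hul _ _
    q1 := norm_inf h.C_le_K1 (zc_le_zl _ _) (le_normalizer_zl _ _)
    q2 := norm_inf h.C_le_K2 (h.ZV.trans (le_hul _ _)) (le_normalizer_hul _ _)
    core1 := by
      intro X hX hn
      have h1 : X ≤ o2 (K1 (S : Subgroup G) L) :=
        le_o2 (hX.trans ((o2_le _).trans h.C_le_K1)) ((o2_isPGroup _).to_le hX) hn
      intro x hx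
      rw [mem_centralizer_iff]
      intro y hy
      exact ((mem_zc.1 (hz1 hy)).2.1 _ (h1 hx)).symm
    no1 := fun A hel hA => gml hM h.ctx l1 (h.kg l1) hA (eab_iff.1 hel).2
    no2 := noOn_hul hM h.ctx l2 (h.kg l2) h.nn h.low h.ZV
    RW := h.hRW
    ER := h.nNR
    noR := fun A hA => h.noOnR hM A hA.1 (hA.2.1.trans inf_le_left)
    BU := hul_le_of (h.Z0.trans (zc_le_zl _ _)) (h.cB_le.trans (le_normalizer_zl _ _))
    EB := norm_hul (h.EZ.trans (centralizer_le_normalizer _)) (h.EB.trans (nc _))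
    noB := fun A hA => h.noB hM hA.1 (hA.2.1.trans inf_le_left)
      ((hA.2.1.trans inf_le_right).trans (centralizer_le h.B_le_W))
    nonloc := fun X hX h1 h2 => h.nonlocK ((o2_isPGroup _).to_le hX) h1 h2
    ne := fun e => h.zc_ne (le_bot_iff.1 (e ▸ zc_le_zl _ _)) }

end Ab

end Cfsg.Agent.Omega.NOThreeL.RZ.TwoC
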