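import Cfsg.Agent.Mrg.Omega.NOThreeL.RZ.TwoC.AbP
import Cfsg.Agent.Mrg.Omega.KL.StarR.GrpR
import Cfsg.Agent.Mrg.Omega.KL.Star.ViaRed
import Cfsg.Agent.Mrg.Omega.NOThreeL.RZ.TwoC.Ab

section


/-!
# [K], [H], [I3], [R-z]: both sides of the frame `FrV` are impossible (bb #25243 (5), #25865, #25809, #26172)

* `QQ S R B J`, `BadG Q J Y`;
* **`FrV.alpha`** : side 2, `GInR C_G(Z₀) S F C_S(B) Q W₂ (B ∩ Z) Z R`;
* **`FrV.beta`** : side 1, `GInR C_G(e) S F C_S(R) Q X₁ (R ∩ Z) Z B`;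
* **`FrV.false_of`**;  `FrE.toV`, **`FrE.dead`** : helper652's frame `FrE` is impossible.
-/

set_option autoImplicit false
set_option linter.unusedSectionVars false

namespace Cfsg.Agent.Omega.NOThreeL.RZ.TwoC

open Subgroup Cfsg
open Cfsg.Agent.ZN (o2 zc zl jj)
open Cfsg.Agent.ZN.ChoiceBase hiding mem_zc
open Cfsg.Agent.Omega.ML.Final (MLK)
open Cfsg.Agent.Omega.ML.GMod (hul hul_le hul_le_of le_hul cj_le_hul le_normalizer_hul nc ri_mono
  normalizer_le_normalizer_o2)
open Cfsg.Agent.Omega.MinPar Cfsg.Agent.Omega.Frame Cfsg.Agent.Omega.FrameNOFF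
open Cfsg.Agent.Omega.NO3b.Bang (le_normalizer_sup cent_symm)
open Cfsg.Agent.Omega.NOThreeL.Star (YS le_YS S_le_YS zl_mono)
open Cfsg.Agent.Omega.NO3S.EThree.ExactA (eab_iff eab_mono)
open Cfsg.Agent.Omega.NoFF.Basic (comm_symm V V_le Z_le_V mem_conj)
open Cfsg.Agent.Omega.GI (relIndex_congr relIndex_sup_of_comm)
open Cfsg.Agent.MinSimple.VModule (zc_le_zl le_normalizer_zl zl_le zc_le zc_sq zc_comm mem_zc le_centralizer_zc
  le_normalizer_o2 o2_isPGroup o2_le le_o2 normalizer_le_normalizer_zc)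
open Cfsg.Agent.MinSimple.Basic (not_dvd_relIndex)
open Cfsg.Agent.MinSimple.MinParabolic (IsMinPar)
open Cfsg.Agent.Omega.NOThreeL.RZ.TwoC.Loc (gml o2C_le inf_cent_le norm_inf)
open Cfsg.Agent.Omega.NOThreeL.RZ.TwoC.SideP (NoA TwoP exch_inf)
open Cfsg.Agent.Omega.NO3b.EndX (RedP)
open Cfsg.Agent.Omega.KL.StarR (GInR)
open scoped Pointwise

universe u

variable {G : Type u} [Group G]

/-- the elements of `⟨Y, N(S)⟩` which normalise `R`, `B` and `J` -/
def QQ (S R B J : Subgroup G) : Subgroup G :=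
  (YS S ⊔ normalizer (S : Set G)) ⊓ normalizer (R : Set G) ⊓ normalizer (B : Set G) ⊓ normalizer (J : Set G)

/-- an element `d` of odd order of `Q` with `[[Y, d], [J, d]] = 1` centralises `Y` -/
def BadG (Q J Y : Subgroup G) : Prop :=
  ∀ d ∈ Q, Odd (orderOf d) →
    (∀ j ∈ J, ∀ w ∈ Y, (j * d * j⁻¹ * d⁻¹) * (d * w * d⁻¹ * w⁻¹) = (d * w * d⁻¹ * w⁻¹) * (j * d * j⁻¹ * d⁻¹)) →
    d ∈ centralizer (Y : Set G)

/-- `⟨Z^L⟩` in the two notations -/
theorem v_eq (S L : Subgroup G) : V (zc S) L = zl S L := by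
  apply le_antisymm
  · refine V_le fun g hg => ?_
    have h1 : cj g (zl S L) = zl S L := cj_eq_of_mem_normalizer (le_normalizer_zl S L hg)
    calc MulAut.conj g • zc S = cj g (zc S) := rfl
      _ ≤ cj g (zl S L) := cj_mono g (zc_le_zl S L)
      _ = _ := h1
  · exact iSup_le fun g => Z_le_V g.2

namespace FrV

variable [Finite G] {S : Sylow 2 G} {R B Z₀ : Subgroup G} {e : G} (h : FrV S R B Z₀ e)
include h

/-- `C ∩ Q` for the two sides -/
theorem nS_QQ {X J K : Subgroup G} (hX : K ⊓ normalizer ((S : Subgroup G) : Set G) ≤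
    normalizer (R : Set G) ⊓ normalizer (B : Set G)) (hJ : J = (S : Subgroup G) ⊓ centralizer (X : Set G))
    (hN : normalizer (R : Set G) ⊓ normalizer (B : Set G) ≤ normalizer (X : Set G)) :
    K ⊓ normalizer ((S : Subgroup G) : Set G) ≤ QQ (S : Subgroup G) R B J := by
  intro g hg
  have h1 := hX hg
  have h2 : g ∈ normalizer (((S : Subgroup G) ⊓ centralizer (X : Set G) : Subgroup G) : Set G) := by
    rw [mem_normalizer_iff_cj, cj_inf, cj_centralizer, cj_eq_of_mem_normalizer hg.2,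
      cj_eq_of_mem_normalizer (hN h1)]
  exact ⟨⟨⟨le_sup_right (a := YS (S : Subgroup G)) hg.2, h1.1⟩, h1.2⟩, hJ ▸ h2⟩

theorem par_QQ {X P : Subgroup G} (nX : YS (S : Subgroup G) ≤ normalizer (X : Set G))
    (hP : IsParS (S : Subgroup G) P) (h1 : (S : Subgroup G) ⊓ centralizer (X : Set G) ≤ o2 P) :
    P ≤ QQ (S : Subgroup G) R B ((S : Subgroup G) ⊓ centralizer (X : Set G)) :=
  le_inf (le_inf (le_inf ((le_YS hP).trans le_sup_left) ((le_YS hP).trans h.nR)) ((le_YS hP).trans h.nB))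
    (h.nJ nX hP h1)

/-- `O₂(C_G(X)) ≤ O₂(C_G(X) S)` -/
theorem o2_sup {X K : Subgroup G} (nX : YS (S : Subgroup G) ≤ normalizer (X : Set G))
    (hK : centralizer (X : Set G) ≤ K) :
    o2 (centralizer (X : Set G)) ≤ o2 (K ⊓ centralizer (X : Set G) ⊔ (S : Subgroup G)) := by
  rw [inf_eq_right.2 hK]
  refine le_o2 ((o2_le _).trans le_sup_left) (o2_isPGroup _) (sup_le (le_normalizer_o2 _) ?_)
  exact ((h.S_le_ys.trans nX).trans (nc _)).trans (normalizer_le_normalizer_o2 _)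

variable (hM : MLK.{u, u}) (hR : RedP.{u, u}) (hE : ML.Ex.Two.Ext.{u, u})
include hM hR hE

/-- **side 2** -/
theorem alpha
    (b2 : R ⊓ zc (S : Subgroup G) ≤ Z₀ ∨
      BadG (centralizer (Z₀ : Set G) ⊓ QQ (S : Subgroup G) R B ((S : Subgroup G) ⊓ centralizer (B : Set G)))
        ((S : Subgroup G) ⊓ centralizer (B : Set G)) R)
    {A F : Subgroup G} (hA : A ∈ AA (o2 (CZ (S : Subgroup G)))) (hAK : A ≤ o2 (centralizer ({e} : Set G)))
    (hFA : F ≤ A) (hFR : F ≤ o2 (centralizer (R : Set G)))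
    (hm : ¬ F ≤ centralizer (hul (zl (S : Subgroup G) (YS S)) (centralizer (Z₀ : Set G)) : Set G))
    (he : (centralizer (hul (zl (S : Subgroup G) (YS S)) (centralizer (Z₀ : Set G)) : Set G)).relIndex F =
      (centralizer (F : Set G)).relIndex (hul (zl (S : Subgroup G) (YS S)) (centralizer (Z₀ : Set G)))) : False := by
  set W : Subgroup G := hul (zl (S : Subgroup G) (YS S)) (centralizer (Z₀ : Set G)) with hW
  obtain ⟨w0, w1, w2, -⟩ := h.W2 hM
  rw [← hW] at w0 w1 w2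
  have hFO : F ≤ o2 (CZ (S : Subgroup G)) := hFA.trans hA.2.1
  have hFS : F ≤ (S : Subgroup G) := hFO.trans o2C_le
  have hSK : (S : Subgroup G) ≤ centralizer (Z₀ : Set G) := (le_CZ S).trans h.C2
  have hZB : (S : Subgroup G) ≤ centralizer ((B ⊓ zc (S : Subgroup G) : Subgroup G) : Set G) :=
    (le_CZ S).trans (centralizer_le inf_le_right)
  have hVW : zl (S : Subgroup G) (YS S) ≤ W := le_hul _ _
  have hU := h.lK2.zl_le S h.ctx.char2
  have hUO : zl (S : Subgroup G) (centralizer (Z₀ : Set G)) ≤ o2 (CZ (S : Subgroup G)) :=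
    (hU.trans (zc_le _)).trans (o2_le_o2 S (le_CZ S) h.C2)
  have hUel : IsElementaryAbelian 2 (zl (S : Subgroup G) (centralizer (Z₀ : Set G))) :=
    eab_iff.2 ⟨fun x hx => mem_centralizer_iff.2 fun y hy => zc_comm _ _ (hU hy) _ (hU hx), fun x hx => zc_sq _ _ (hU hx)⟩
  have hno : NoA (o2 (CZ (S : Subgroup G))) (zl (S : Subgroup G) (centralizer (Z₀ : Set G))) :=
    fun A' hA' => gml hM h.ctx h.lK2 (h.kg h.lK2) hA'.2.1 (eab_iff.1 hA'.1).2
  have hUW : zl (S : Subgroup G) (centralizer (Z₀ : Set G)) ≤ W := zl_le ((zc_le_zl _ _).trans hVW) (le_normalizer_hul _ _)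
  -- `C_A(U₂)` centralises `W₂`
  have hker : A ⊓ centralizer (zl (S : Subgroup G) (centralizer (Z₀ : Set G)) : Set G) ≤ centralizer (W : Set G) := by
    have h1 := exch_inf hUel hUO hno hA
    exact le_sup_left.trans (((eab_iff.1 h1.1).1).trans (centralizer_le (w0 _ h1)))
  have hgml : ∀ C : Subgroup G, C ≤ F → (centralizer (W : Set G)).relIndex C ≤ (centralizer (C : Set G)).relIndex W := by
    intro C hC
    have e1 : (centralizer (W : Set G)).relIndex C =
        (centralizer (zl (S : Subgroup G) (centralizer (Z₀ : Set G)) : Set G)).relIndex C :=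
      relIndex_congr (le_antisymm (inf_le_inf_left _ (centralizer_le hUW))
        (le_inf inf_le_left ((inf_le_inf_right _ (hC.trans hFA)).trans hker)))
    rw [e1]
    exact (gml hM h.ctx h.lK2 (h.kg h.lK2) (hC.trans hFO) (eab_iff.1 (eab_mono hA.1 (hC.trans hFA))).2).trans
      (ri_mono _ hUW)
  have hEN : normalizer (R : Set G) ⊓ normalizer (B : Set G) ≤ normalizer (B : Set G) := inf_le_right
  have hG : GInR (centralizer (Z₀ : Set G)) (S : Subgroup G) F ((S : Subgroup G) ⊓ centralizer (B : Set G))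
      (QQ (S : Subgroup G) R B ((S : Subgroup G) ⊓ centralizer (B : Set G))) W (B ⊓ zc (S : Subgroup G))
      (zc (S : Subgroup G)) R :=
    { CM := le_normalizer_hul _ _
      sqM := (eab_iff.1 w1).2
      TC := hSK
      two := S.isPGroup'
      syl := not_dvd_relIndex S hSK
      ZM := inf_le_left.trans (h.BV.trans hVW)
      ZM' := (zc_le_zl _ _).trans hVW
      YM := h.RV.trans hVW
      TZ := hZB
      TZ' := le_centralizer_zc _
      NZ := by
        intro g hg
        have h1 := h.sZ hg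
        rw [mem_normalizer_iff_cj, cj_inf, cj_eq_of_mem_normalizer h1.2,
          cj_eq_of_mem_normalizer (normalizer_le_normalizer_zc _ hg.2)]
      NQ := h.nS_QQ h.sZ rfl hEN
      QY := inf_le_right.trans ((inf_le_left.trans inf_le_left).trans inf_le_right)
      QJ := inf_le_right.trans inf_le_right
      JT := inf_le_left
      AT := hFS
      par := by
        intro P hP0 hPK
        have hP := h.lK2.isPar S hP0 hPK
        rcases h.le_of_par hP with h1 | ⟨h1, _⟩
        · exact Or.inl (h1.trans (centralizer_le inf_le_right))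
        · rcases h.altX h.nB h1 with h2 | h2
          · exact Or.inr (Or.inr ⟨h.le_o2_two hFO hFR hP, h2, h.par_QQ h.nB h1 h2⟩)
          · exact Or.inl (h.le_of_alt h2)
      sep := by
        intro g _ hgQ _ z hz y hy hc
        have hc' : g * (y * z) = y * z * g := by
          have h3 : y * z = z * y := by
            have h4 := h.vc (h.RV hy)
            exact ((mem_centralizer_iff.1 h4) z (h.BV hz.1)).symm
          rw [h3]
          exact hc
        exact (h.sep hgQ.1.1.2 hgQ.1.2 hy hz.1 hc').2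
      hb := by
        rcases b2 with h1 | h1
        · right
          intro v hv
          have h2 : v ∈ Z₀ := h1 ⟨hv.1, h.fixV (h.RV hv.1) fun s hs => mem_centralizer_iff.1 hv.2 s hs⟩
          rw [mem_centralizer_iff]
          intro k hk
          exact ((mem_centralizer_iff.1 hk) v h2).symm
        · left
          intro d hdC hdQ hdo hcom
          exact h1 d ⟨hdC, hdQ⟩ hdo hcom
      sqA := (eab_iff.1 (eab_mono hA.1 hFA)).2
      AZ := by
        refine (le_inf (hFA.trans hAK) (le_inf (hFS.trans hSK) (hFS.trans hZB))).trans ?_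
        rw [inf_comm]
        refine le_o2 inf_le_left ((o2_isPGroup _).to_le inf_le_right) ?_
        refine le_trans (le_inf Subgroup.le_normalizer ?_) inf_normalizer_le_normalizer_inf
        refine (inf_le_right.trans (centralizer_le ?_)).trans (le_normalizer_o2 _)
        exact Set.singleton_subset_iff.2 ⟨h.eB, h.eZ⟩
      AY := hFR.trans (h.o2_sup h.nR h.RK)
      nk := by
        rw [v_eq]
        exact (inf_le_inf_right _ hFA).trans hker
      mv := hm
      no := hgml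
      le := he.ge
      K := h.kg h.lK2 }
  obtain ⟨X, N, _, _, _, _, _, T', A', J', Q', Z₁, Y', h1⟩ := hG.inpR
  exact h1.false_of hM hR hE

/-- **side 1** -/
theorem beta
    (b1 : BadG (centralizer ({e} : Set G) ⊓ QQ (S : Subgroup G) R B ((S : Subgroup G) ⊓ centralizer (R : Set G)))
      ((S : Subgroup G) ⊓ centralizer (R : Set G)) B)
    {X₁ F : Subgroup G} (hX : IsElementaryAbelian 2 X₁) (hXn : centralizer ({e} : Set G) ≤ normalizer (X₁ : Set G))
    (hVX : zl (S : Subgroup G) (YS S) ≤ X₁) (hUX : zl (S : Subgroup G) (centralizer ({e} : Set G)) ≤ X₁)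
    (hF : F ∈ AA (o2 (CZ (S : Subgroup G)))) (hF2 : F ≤ o2 (centralizer (Z₀ : Set G)))
    (hFB : F ≤ o2 (centralizer (B : Set G)))
    (hm : ¬ F ≤ centralizer (zl (S : Subgroup G) (centralizer ({e} : Set G)) : Set G))
    (hk : F ⊓ centralizer (zl (S : Subgroup G) (centralizer ({e} : Set G)) : Set G) ≤ centralizer (X₁ : Set G))
    (he : (centralizer (X₁ : Set G)).relIndex F = (centralizer (F : Set G)).relIndex X₁) : False := by
  have hFO : F ≤ o2 (CZ (S : Subgroup G)) := hF.2.1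
  have hFR : F ≤ centralizer (R : Set G) := h.hA F hF hF2
  have hFS : F ≤ (S : Subgroup G) := hFO.trans o2C_le
  have hSK : (S : Subgroup G) ≤ centralizer ({e} : Set G) := (le_CZ S).trans h.C1
  have hZR : (S : Subgroup G) ≤ centralizer ((R ⊓ zc (S : Subgroup G) : Subgroup G) : Set G) :=
    (le_CZ S).trans (centralizer_le inf_le_right)
  have hgml : ∀ C : Subgroup G, C ≤ F → (centralizer (X₁ : Set G)).relIndex C ≤ (centralizer (C : Set G)).relIndex X₁ := by
    intro C hC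
    have e1 : (centralizer (X₁ : Set G)).relIndex C =
        (centralizer (zl (S : Subgroup G) (centralizer ({e} : Set G)) : Set G)).relIndex C :=
      relIndex_congr (le_antisymm (inf_le_inf_left _ (centralizer_le hUX))
        (le_inf inf_le_left ((inf_le_inf_right _ hC).trans hk)))
    rw [e1]
    exact (gml hM h.ctx h.lK1 (h.kg h.lK1) (hC.trans hFO) (eab_iff.1 (eab_mono hF.1 hC)).2).trans (ri_mono _ hUX)
  have hG : GInR (centralizer ({e} : Set G)) (S : Subgroup G) F ((S : Subgroup G) ⊓ centralizer (R : Set G))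
      (QQ (S : Subgroup G) R B ((S : Subgroup G) ⊓ centralizer (R : Set G))) X₁ (R ⊓ zc (S : Subgroup G))
      (zc (S : Subgroup G)) B :=
    { CM := hXn
      sqM := (eab_iff.1 hX).2
      TC := hSK
      two := S.isPGroup'
      syl := not_dvd_relIndex S hSK
      ZM := inf_le_left.trans (h.RV.trans hVX)
      ZM' := (zc_le_zl _ _).trans hVX
      YM := h.BV.trans hVX
      TZ := hZR
      TZ' := le_centralizer_zc _
      NZ := by
        intro g hg
        have h1 := h.sE hg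
        rw [mem_normalizer_iff_cj, cj_inf, cj_eq_of_mem_normalizer h1.1,
          cj_eq_of_mem_normalizer (normalizer_le_normalizer_zc _ hg.2)]
      NQ := h.nS_QQ h.sE rfl inf_le_left
      QY := inf_le_right.trans (inf_le_left.trans inf_le_right)
      QJ := inf_le_right.trans inf_le_right
      JT := inf_le_left
      AT := hFS
      par := by
        intro P hP0 hPK
        have hP := h.lK1.isPar S hP0 hPK
        rcases h.le_of_par hP with h1 | ⟨h1, _⟩
        · exact Or.inl (h1.trans (centralizer_le inf_le_right))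
        · rcases h.altX h.nR h1 with h2 | h2
          · exact Or.inr (Or.inr ⟨h.le_o2_one hFO hFR hF2 hP, h2, h.par_QQ h.nR h1 h2⟩)
          · exact Or.inl (h.le_of_alt h2)
      sep := by
        intro g _ hgQ _ z hz y hy hc
        exact (h.sep hgQ.1.1.2 hgQ.1.2 hz.1 hy hc).1
      hb := Or.inl fun d hdC hdQ hdo hcom => b1 d ⟨hdC, hdQ⟩ hdo hcom
      sqA := (eab_iff.1 hF.1).2
      AZ := by
        refine (le_inf hF2 (le_inf (hFS.trans hSK) (hFS.trans hZR))).trans ?_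
        rw [inf_comm]
        refine le_o2 inf_le_left ((o2_isPGroup _).to_le inf_le_right) ?_
        refine le_trans (le_inf Subgroup.le_normalizer ?_) inf_normalizer_le_normalizer_inf
        exact (inf_le_right.trans (centralizer_le h.Z0R)).trans (le_normalizer_o2 _)
      AY := hFB.trans (h.o2_sup h.nB h.BK)
      nk := by
        rw [v_eq]
        exact hk
      mv := fun hc => hm (hc.trans (centralizer_le hUX))
      no := hgml
      le := he.ge
      K := h.kg h.lK1 }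
  obtain ⟨X, N, _, _, _, _, _, T', A', J', Q', Z₁, Y', h1⟩ := hG.inpR
  exact h1.false_of hM hR hE

/-- **The frame is impossible.** -/
theorem false_of
    (b1 : BadG (centralizer ({e} : Set G) ⊓ QQ (S : Subgroup G) R B ((S : Subgroup G) ⊓ centralizer (R : Set G)))
      ((S : Subgroup G) ⊓ centralizer (R : Set G)) B)
    (b2 : R ⊓ zc (S : Subgroup G) ≤ Z₀ ∨
      BadG (centralizer (Z₀ : Set G) ⊓ QQ (S : Subgroup G) R B ((S : Subgroup G) ⊓ centralizer (B : Set G)))
        ((S : Subgroup G) ⊓ centralizer (B : Set G)) R) : False := by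
  rcases h.main hM with ⟨A, hA, -, hAK, F, hFA, hFR, hm, he⟩ | ⟨X₁, hX, hXn, hVX, hUX, -, F, hF, -, hF2, hFB, hm, -, hk, he⟩
  · exact h.alpha hM hR hE b2 hA hAK hFA hFR hm he
  · exact h.beta hM hR hE b1 hX hXn hVX hUX hF hF2 hFB hm hk he

end FrV

/-- `FrE` is the case `Z₀ = R ∩ Z` -/
theorem FrE.toV [Finite G] {S : Sylow 2 G} {R B : Subgroup G} {e : G} (h : FrE S R B e) :
    FrV S R B (R ⊓ zc (S : Subgroup G)) e :=
  { ctx := h.ctx, full := h.full, nR := h.nR, nB := h.nB, sE := h.sE, sZ := h.sZ, RV := h.RV, BV := h.BV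
    Z0R := le_rfl, ne := h.ne, hA := fun A hA _ => h.hA A hA, low := h.low, vc := h.vc, vs := h.vs, eZ := h.eZ
    eB := h.eB, e1 := h.e1, tr := h.tr, spl := h.spl }

/-- **`FrE` is impossible.** -/
theorem FrE.dead [Finite G] {S : Sylow 2 G} {R B : Subgroup G} {e : G} (h : FrE S R B e) (hM : MLK.{u, u})
    (hR : RedP.{u, u}) (hE : ML.Ex.Two.Ext.{u, u})
    (b1 : BadG (centralizer ({e} : Set G) ⊓ QQ (S : Subgroup G) R B ((S : Subgroup G) ⊓ centralizer (R : Set G)))
      ((S : Subgroup G) ⊓ centralizer (R : Set G)) B) : False :=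
  h.toV.false_of hM hR hE b1 (Or.inl le_rfl)

end Cfsg.Agent.Omega.NOThreeL.RZ.TwoC

end

section


/-!
# [R-z], case (II) (helper513 #24309, #24705; helper885 #24934; helper960 #24850): the two sides, any `K₁`, `K₂`

`S`, `Z`, `C = CZ S`, `O = O₂(C)` as in `Ab.lean`; `K₁, K₂ ≥ C` local, `K₁ ≤ ⟨C, E₁⟩`, `E₁` normalises `NR = ⟨V^{C_G(R₁)}⟩`,
`E₂ ≤ K₂` normalises `Z₀` and `B`, `⟨K₁, E₂⟩` nonlocal: `AbK S K₁ K₂ E₁ E₂ Z₀ B V R₁`. E.g. `K₁ = ⟨L, C⟩` or `⟨L, C⟩ N_G(S)`
or `C_G(e)` (`E₁ = (K₁ ∩ Y) (K₁ ∩ N_G(S))`), `K₂ = C_G(Z₁)` or `C_G(Z₁) N_G(S)`, `E₂ = C_Y(R)` or the block types.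

* **`AbK.twoD`** : `Side.TwoD` (with `⟨C, E₂⟩` in the place of `K₂`), `U₁ = zl S K₁`, `W₂ = ⟨V^{K₂}⟩`, `NB = ⟨Z₀^{C_G(B)}⟩`;
* `AbK.le_o2K1`, `AbK.le_o2K2`, `AbK.le_o2R`, `AbK.le_o2B` : where `A` and `F` lie.
-/

set_option autoImplicit false
set_option linter.unusedSectionVars false

namespace Cfsg.Agent.Omega.NOThreeL.RZ.TwoC

open Subgroup Cfsg
open Cfsg.Agent.ZN (o2 zc zl jj)
open Cfsg.Agent.ZN.ChoiceBase hiding mem_zc
open Cfsg.Agent.Omega.ML.Final (MLK)
open Cfsg.Agent.Omega.ML.GMod (hul hul_le hul_le_of le_hul cj_le_hul le_normalizer_hul nc ri_mono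
  normalizer_le_normalizer_o2)
open Cfsg.Agent.Omega.MinPar Cfsg.Agent.Omega.Frame Cfsg.Agent.Omega.FrameNOFF
open Cfsg.Agent.Omega.NO3b.Bang
open Cfsg.Agent.Omega.NO3S.EThree.ExactA (eab_iff eab_mono)
open Cfsg.Agent.Omega.EK3.Rank (NoOn)
open Cfsg.Agent.Omega.NoFF.Basic (comm_symm)
open Cfsg.Agent.Omega.GI (relIndex_congr relIndex_sup_of_comm)
open Cfsg.Agent.MinSimple.VModule (zc_le_zl le_normalizer_zl zl_le zc_le zc_sq zc_comm mem_zc le_centralizer_zc
  le_normalizer_o2 o2_isPGroup o2_le le_o2 normalizer_le_normalizer_zc)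
open Cfsg.Agent.Omega.NOThreeL.RZ.TwoC.Loc

universe u

variable {G : Type u} [Group G]

/-- **The abstract frame of case (II), `K₁`, `K₂` variables.** -/
structure AbK [Finite G] (S : Sylow 2 G) (K₁ K₂ E₁ E₂ Z₀ B V R₁ : Subgroup G) : Prop where
  ctx : Ctx G
  l1 : IsLoc (S : Subgroup G) K₁
  l2 : IsLoc (S : Subgroup G) K₂
  C1 : CZ (S : Subgroup G) ≤ K₁
  C2 : CZ (S : Subgroup G) ≤ K₂
  e1 : E₁ ≤ K₁
  g1 : K₁ ≤ CZ (S : Subgroup G) ⊔ E₁
  EN : E₁ ≤ normalizer (hul V (centralizer (R₁ : Set G)) : Set G)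
  e2 : E₂ ≤ K₂
  EZ : E₂ ≤ normalizer (Z₀ : Set G)
  EB : E₂ ≤ normalizer (B : Set G)
  nn : NN (S : Subgroup G) V
  ZV : zc (S : Subgroup G) ≤ V
  low : V ≤ o2 (CZ (S : Subgroup G))
  R2 : IsPGroup 2 R₁
  R1 : R₁ ≠ ⊥
  SR : (S : Subgroup G) ≤ normalizer (R₁ : Set G)
  RK : centralizer (R₁ : Set G) ≤ K₂
  B2 : IsPGroup 2 B
  B1 : B ≠ ⊥
  SB : (S : Subgroup G) ≤ normalizer (B : Set G)
  zB : zc (S : Subgroup G) ≤ (zc (S : Subgroup G) ⊓ B) ⊔ Z₀
  Z0 : Z₀ ≤ zc (S : Subgroup G)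
  BW : B ≤ hul V K₂
  BU : hul Z₀ (centralizer (B : Set G)) ≤ zl (S : Subgroup G) K₁
  nl : ∀ U : Subgroup G, IsPGroup 2 U → K₁ ≤ normalizer (U : Set G) → E₂ ≤ normalizer (U : Set G) → U = ⊥

namespace AbK

variable [Finite G] {S : Sylow 2 G} {K₁ K₂ E₁ E₂ Z₀ B V R₁ : Subgroup G} (h : AbK S K₁ K₂ E₁ E₂ Z₀ B V R₁)
include h

theorem kg {X : Subgroup G} (hL : IsLoc (S : Subgroup G) X) : IsKGroup X :=
  ML.GNN.kgroup_of_isLoc h.ctx h.ctx.not_isPGroup hL

theorem zc_ne : zc (S : Subgroup G) ≠ ⊥ :=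
  MinSimple.Basic.zc_ne_bot S.isPGroup' (h.ctx.sylow_ne_bot S)

/-- `C_G(R₁) S` is local -/
theorem locR : IsLoc (S : Subgroup G) (centralizer (R₁ : Set G) ⊔ (S : Subgroup G)) :=
  isLoc_of_le_normalizer S le_sup_right h.R2 h.R1 (sup_le (centralizer_le_normalizer _) h.SR)

theorem hul_R : hul V (centralizer (R₁ : Set G) ⊔ (S : Subgroup G)) = hul V (centralizer (R₁ : Set G)) := by
  refine le_antisymm (hul_le_of (le_hul _ _) ?_) (hul_mono le_sup_left)
  exact sup_le (le_normalizer_hul _ _) (norm_hul h.nn.norm (h.SR.trans (nc _)))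

/-- `C_G(B) S` is local -/
theorem locB : IsLoc (S : Subgroup G) (centralizer (B : Set G) ⊔ (S : Subgroup G)) :=
  isLoc_of_le_normalizer S le_sup_right h.B2 h.B1 (sup_le (centralizer_le_normalizer _) h.SB)

/-- `⟨Z^{C_G(B) S}⟩ = ⟨Z₀^{C_G(B)}⟩ (Z ∩ B)` -/
theorem zl_B : zl (S : Subgroup G) (centralizer (B : Set G) ⊔ (S : Subgroup G)) =
    hul Z₀ (centralizer (B : Set G)) ⊔ (zc (S : Subgroup G) ⊓ B) := by
  apply le_antisymm
  · refine zl_le ?_ ?_
    · exact h.zB.trans (sup_le le_sup_right ((le_hul _ _).trans le_sup_left))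
    · have hSZ0 : (S : Subgroup G) ≤ normalizer (Z₀ : Set G) :=
        ((le_CZ S).trans (centralizer_le h.Z0)).trans (centralizer_le_normalizer _)
      refine sup_le (le_normalizer_sup (le_normalizer_hul _ _) ?_) (le_normalizer_sup ?_ ?_)
      · exact (centralizer_le inf_le_right).trans (centralizer_le_normalizer _)
      · exact norm_hul hSZ0 (h.SB.trans (nc _))
      · exact ((le_CZ S).trans (centralizer_le inf_le_left)).trans (centralizer_le_normalizer _)
  · refine sup_le ?_ (inf_le_left.trans (zc_le_zl _ _))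
    refine hul_le_of (h.Z0.trans (zc_le_zl _ _)) (le_sup_left.trans (le_normalizer_zl _ _))

theorem hRW : hul V (centralizer (R₁ : Set G)) ≤ hul V K₂ := hul_mono h.RK

/-! ### Where `A` and `F` lie -/

/-- `A ∈ AA(C_O(U₁))`: `A ≤ O₂(K₁)` -/
theorem le_o2K1 : o2 (CZ (S : Subgroup G)) ⊓ centralizer (zl (S : Subgroup G) K₁ : Set G) ≤ o2 K₁ :=
  inf_cent_le h.l1.le (zc_le_zl _ _) (le_normalizer_zl _ _)

/-- `A ∈ AA(C_O(W₂))`: `A ≤ O₂(K₂)` -/
theorem le_o2K2 : o2 (CZ (S : Subgroup G)) ⊓ centralizer (hul V K₂ : Set G) ≤ o2 K₂ :=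
  inf_cent_le h.l2.le (h.ZV.trans (le_hul _ _)) (le_normalizer_hul _ _)

/-- `F = C_A(NR) ≤ O₂(C_G(R₁) S)` -/
theorem le_o2R : o2 (CZ (S : Subgroup G)) ⊓ centralizer (hul V (centralizer (R₁ : Set G)) : Set G) ≤
    o2 (centralizer (R₁ : Set G) ⊔ (S : Subgroup G)) := by
  rw [← h.hul_R]
  exact inf_cent_le le_sup_right (h.ZV.trans (le_hul _ _)) (le_normalizer_hul _ _)

/-- `F = C_A(NB) ≤ O₂(C_G(B) S)` if `F` centralises `B` -/
theorem le_o2B {F : Subgroup G} (hF : F ≤ o2 (CZ (S : Subgroup G)))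
    (hFN : F ≤ centralizer (hul Z₀ (centralizer (B : Set G)) : Set G)) (hFB : F ≤ centralizer (B : Set G)) :
    F ≤ o2 (centralizer (B : Set G) ⊔ (S : Subgroup G)) := by
  refine le_trans (le_inf hF ?_) (inf_cent_le (W := zl (S : Subgroup G) (centralizer (B : Set G) ⊔ (S : Subgroup G)))
    le_sup_right (zc_le_zl _ _) (le_normalizer_zl _ _))
  rw [h.zl_B]
  exact comm_symm (sup_le (comm_symm hFN) (inf_le_right.trans (comm_symm hFB)))

variable (hM : MLK.{u, u})
include hM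

/-- `(NO)` on `⟨V^{C_G(R₁)}⟩` -/
theorem noOnR : NoOn (o2 (CZ (S : Subgroup G))) (hul V (centralizer (R₁ : Set G))) := by
  rw [← h.hul_R]
  exact noOn_hul hM h.ctx h.locR (h.kg h.locR) h.nn h.low h.ZV

/-- `(NO)` on `⟨Z₀^{C_G(B)}⟩` for the elementary abelian `A ≤ O` centralising `B` -/
theorem noB {A : Subgroup G} (hel : IsElementaryAbelian 2 A) (hA : A ≤ o2 (CZ (S : Subgroup G)))
    (hAB : A ≤ centralizer (B : Set G)) :
    (centralizer (hul Z₀ (centralizer (B : Set G)) : Set G)).relIndex A ≤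
      (centralizer (A : Set G)).relIndex (hul Z₀ (centralizer (B : Set G))) := by
  have hX := h.locB
  have h1 := gml hM h.ctx hX (h.kg hX) hA (eab_iff.1 hel).2
  have hzc := hX.zl_le S h.ctx.char2
  rw [h.zl_B] at h1 hzc
  set NB : Subgroup G := hul Z₀ (centralizer (B : Set G)) with hNB
  have hAZ : A ≤ centralizer ((zc (S : Subgroup G) ⊓ B : Subgroup G) : Set G) := hAB.trans (centralizer_le inf_le_right)
  have e1 : (centralizer ((NB ⊔ (zc (S : Subgroup G) ⊓ B) : Subgroup G) : Set G)).relIndex A =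
      (centralizer (NB : Set G)).relIndex A := by
    refine relIndex_congr (le_antisymm (inf_le_inf_left _ (centralizer_le (SetLike.coe_subset_coe.2 le_sup_left))) ?_)
    refine le_inf inf_le_left (comm_symm (sup_le (comm_symm inf_le_right) (comm_symm (inf_le_left.trans hAZ))))
  have e2 : (centralizer (A : Set G)).relIndex (NB ⊔ (zc (S : Subgroup G) ⊓ B)) = (centralizer (A : Set G)).relIndex NB := by
    refine relIndex_sup_of_comm (comm_symm hAZ) ?_
    intro x hx
    rw [mem_centralizer_iff]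
    intro y hy
    exact zc_comm _ _ (hzc (le_sup_right (a := NB) hy)) _ (hzc (le_sup_left (b := zc (S : Subgroup G) ⊓ B) hx))
  rwa [e1, e2] at h1

/-- **The two sides.** -/
theorem twoD :
    Side.TwoD (o2 (CZ (S : Subgroup G))) (CZ (S : Subgroup G)) K₁ (CZ (S : Subgroup G) ⊔ E₂) E₁ E₂
      (zl (S : Subgroup G) K₁) (hul V K₂) (hul V (centralizer (R₁ : Set G))) (hul Z₀ (centralizer (B : Set G))) := by
  have l1 := h.l1
  have l2 := h.l2
  have hnn := nn_hul hM h.ctx l2 (h.kg l2) h.nn h.low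
  have hO1 : o2 K₁ ≤ o2 (CZ (S : Subgroup G)) := o2_le_o2 S (le_CZ S) h.C1
  have hO2 : o2 K₂ ≤ o2 (CZ (S : Subgroup G)) := o2_le_o2 S (le_CZ S) h.C2
  have hz1 := l1.zl_le S h.ctx.char2
  have hK2 : CZ (S : Subgroup G) ⊔ E₂ ≤ K₂ := sup_le h.C2 h.e2
  exact
  { OD := o2_le _
    DO := le_normalizer_o2 _
    D1 := h.C1
    D2 := le_sup_left
    e1 := h.e1
    g1 := h.g1
    e2 := le_sup_right
    g2 := sup_le ((le_inf h.C1 le_sup_left).trans le_sup_left) le_sup_right
    el1 := eab_iff.2 ⟨fun x hx => mem_centralizer_iff.2 fun y hy => zc_comm _ _ (hz1 hy) _ (hz1 hx),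
      fun x hx => zc_sq _ _ (hz1 hx)⟩
    el2 := hul_eab hM h.ctx l2 (h.kg l2) h.nn h.low
    UO := (hz1.trans (zc_le _)).trans hO1
    WO := hnn.le.trans hO2
    KU := le_normalizer_zl _ _
    KW := hK2.trans (le_normalizer_hul _ _)
    q1 := norm_inf h.C1 (zc_le_zl _ _) (le_normalizer_zl _ _)
    q2 := hK2.trans (norm_inf h.C2 (h.ZV.trans (le_hul _ _)) (le_normalizer_hul _ _))
    core1 := by
      intro X hX hn
      have h1 : X ≤ o2 K₁ := le_o2 (hX.trans ((o2_le _).trans h.C1)) ((o2_isPGroup _).to_le hX) hn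
      intro x hx
      rw [mem_centralizer_iff]
      intro y hy
      exact ((mem_zc.1 (hz1 hy)).2.1 _ (h1 hx)).symm
    no1 := fun A hel hA => gml hM h.ctx l1 (h.kg l1) hA (eab_iff.1 hel).2
    no2 := noOn_hul hM h.ctx l2 (h.kg l2) h.nn h.low h.ZV
    RW := h.hRW
    ER := h.EN
    noR := fun A hA => h.noOnR hM A hA.1 (hA.2.1.trans inf_le_left)
    BU := h.BU
    EB := norm_hul h.EZ (h.EB.trans (nc _))
    noB := fun A hA => h.noB hM hA.1 (hA.2.1.trans inf_le_left)
      ((hA.2.1.trans inf_le_right).trans (centralizer_le h.BW))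
    nonloc := fun X hX h1 h2 => h.nl X ((o2_isPGroup _).to_le hX) h1 (le_sup_right.trans h2)
    ne := fun e => h.zc_ne (le_bot_iff.1 (e ▸ zc_le_zl _ _)) }

end AbK

end Cfsg.Agent.Omega.NOThreeL.RZ.TwoC

end
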