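import Cfsg.Agent.Mrg.Omega.NOThreeL.RZ.TwoC.Ab
import Cfsg.Agent.Mrg.Omega.KL.StarX.Grp
import Cfsg.Agent.Mrg.Omega.NOThreeL.RZ.TwoC.AbP
import Cfsg.Agent.Mrg.Omega.KL.StarR.GrpR
import Cfsg.Agent.Mrg.Omega.KL.Star.ViaRed

section


/-!
# [R-z], case (II) (helper513, #24309 (4)): (alpha) is impossible

Over the abstract frame `Ab` of helper652, with `R₁ ≤ V`, `C_{R₁}(S) ≤ Z₁`, `N_G(S) ≤ N_G(R₁)`, `E ≤ C_G(R₁) S`:
no `A ∈ AA(C_O(U₁))` has `F = C_A(NR)` exact on `W₂` and `[F, W₂] ≠ 1`.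

* `cent_of_nn` : `W ∈ NN(T)`, `A ≤ T`, `|W : C_W(A)| ≤ |A : C_A(W)|` imply `[A, W] = 1`;
* `ker_of_exact` : `F` exact on `W`, `|F : C_F(U)| ≤ |U : C_U(F)|`, `U ≤ W ∈ NN(T)`, `C_F(U) ≤ T` imply `[C_F(U), W] = 1`;
* **`Ab.alpha`** : (alpha) is impossible, from `MLK`, `Ext` (`KL/StarX`: the L-types in `C_G(Z₁)` may move `Z` and `R₁`).
-/

set_option autoImplicit false
set_option linter.unusedSectionVars false

namespace Cfsg.Agent.Omega.NOThreeL.RZ.TwoC.Alpha

open Subgroup Cfsg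
open Cfsg.Agent.ZN (o2 zc zl jj)
open Cfsg.Agent.ZN.ChoiceBase hiding mem_zc
open Cfsg.Agent.Omega.ML.Final (MLK)
open Cfsg.Agent.Omega.ML.GMod (hul hul_le hul_le_of le_hul cj_le_hul le_normalizer_hul nc ri_mono
  normalizer_le_normalizer_o2)
open Cfsg.Agent.Omega.ML.GNN (card_mul)
open Cfsg.Agent.Omega.FFThm
open Cfsg.Agent.Omega.MinPar Cfsg.Agent.Omega.Frame Cfsg.Agent.Omega.FrameNOFF
open Cfsg.Agent.Omega.NO3b.Bang
open Cfsg.Agent.Omega.NO3S.EThree.ExactA (eab_iff eab_mono)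
open Cfsg.Agent.Omega.EK3.Rank (NoOn)
open Cfsg.Agent.Omega.NoFF.Basic (comm_symm Z_le_V V_le)
open Cfsg.Agent.MinSimple.VModule (zc_le_zl le_normalizer_zl zl_le zc_le zc_sq zc_comm mem_zc le_centralizer_zc
  le_normalizer_o2 o2_isPGroup o2_le le_o2 normalizer_le_normalizer_zc)
open Cfsg.Agent.MinSimple.Basic (not_dvd_relIndex)
open Cfsg.Agent.MinSimple.MinParabolic (IsMinPar)
open Cfsg.Agent.Omega.NOThreeL.RZ.TwoC.Loc
open Cfsg.Agent.Omega.KL.StarX (GInX)
open scoped Pointwise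

universe u

variable {G : Type u} [Group G] [Finite G]

/-- no offender in `T` -/
theorem cent_of_nn {T W A : Subgroup G} (hW : NN T W) (hA : A ≤ T) (hel : IsElementaryAbelian 2 A)
    (hle : (centralizer (A : Set G)).relIndex W ≤ (centralizer (W : Set G)).relIndex A) :
    A ≤ centralizer (W : Set G) := by
  by_contra hc
  refine hW.nff A hA ⟨offM_of_abel (eab_iff.1 hel).1 fun a ha => (eab_iff.1 hel).2 a ha, hc, ?_⟩
  have e1 : Nat.card ↥(A ⊓ centralizer (W : Set G)) * (centralizer (W : Set G)).relIndex A = Nat.card A := by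
    rw [← inf_relIndex_left]
    exact card_mul inf_le_left
  have e2 : Nat.card ↥(W ⊓ centralizer (A : Set G)) * (centralizer (A : Set G)).relIndex W = Nat.card W := by
    rw [← inf_relIndex_left]
    exact card_mul inf_le_left
  rw [← e1, ← e2]
  calc _ ≤ Nat.card ↥(W ⊓ centralizer (A : Set G)) * (centralizer (W : Set G)).relIndex A *
          Nat.card ↥(A ⊓ centralizer (W : Set G)) := by
          exact Nat.mul_le_mul_right _ (Nat.mul_le_mul_left _ hle)
      _ = _ := by ring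

/-- `C_F(U)` is trivial on `W` if `F` is exact on `W` -/
theorem ker_of_exact {T W U F : Subgroup G} (hW : NN T W) (hUW : U ≤ W) (hel : IsElementaryAbelian 2 F)
    (hF : F ⊓ centralizer (U : Set G) ≤ T)
    (he : (centralizer (W : Set G)).relIndex F = (centralizer (F : Set G)).relIndex W)
    (hno : (centralizer (U : Set G)).relIndex F ≤ (centralizer (F : Set G)).relIndex U) :
    F ⊓ centralizer (U : Set G) ≤ centralizer (W : Set G) := by
  set F₀ : Subgroup G := F ⊓ centralizer (U : Set G) with hF₀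
  refine cent_of_nn hW hF (eab_mono hel inf_le_left) ?_
  have hWU : centralizer (W : Set G) ≤ centralizer (U : Set G) := centralizer_le hUW
  have hFF : centralizer (F : Set G) ≤ centralizer (F₀ : Set G) := centralizer_le inf_le_left
  -- `|F : C_F(W)| = |F₀ : C(W)| |F : F₀|`
  have h1 : (centralizer (W : Set G)).relIndex F₀ * (centralizer (U : Set G)).relIndex F =
      (centralizer (W : Set G)).relIndex F := by
    have h2 := relIndex_inf_mul_relIndex (centralizer (W : Set G)) (centralizer (U : Set G)) F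
    rw [inf_eq_left.2 hWU, inf_comm] at h2
    exact h2
  -- `|W : C_W(F)| = |W : C_W(F₀)| |C_W(F₀) : C_W(F)|`
  have h3 : (centralizer (F : Set G)).relIndex (centralizer (F₀ : Set G) ⊓ W) *
      (centralizer (F₀ : Set G)).relIndex W = (centralizer (F : Set G)).relIndex W := by
    have h2 := relIndex_inf_mul_relIndex (centralizer (F : Set G)) (centralizer (F₀ : Set G)) W
    rw [inf_eq_left.2 hFF] at h2
    exact h2
  have h4 : (centralizer (F : Set G)).relIndex U ≤
      (centralizer (F : Set G)).relIndex (centralizer (F₀ : Set G) ⊓ W) :=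
    KL.TwoS.relIndex_mono (le_inf (comm_symm inf_le_right) hUW)
  have h5 : 0 < (centralizer (F : Set G)).relIndex U := Nat.pos_of_ne_zero (ML.GMod.ri_ne _ _)
  have h6 : (centralizer (F₀ : Set G)).relIndex W * (centralizer (F : Set G)).relIndex U ≤
      (centralizer (W : Set G)).relIndex F₀ * (centralizer (F : Set G)).relIndex U := by
    calc (centralizer (F₀ : Set G)).relIndex W * (centralizer (F : Set G)).relIndex U
        ≤ (centralizer (F : Set G)).relIndex (centralizer (F₀ : Set G) ⊓ W) *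
          (centralizer (F₀ : Set G)).relIndex W := by
          rw [mul_comm]
          exact Nat.mul_le_mul_right _ h4
      _ = (centralizer (W : Set G)).relIndex F₀ * (centralizer (U : Set G)).relIndex F := by rw [h3, ← he, h1]
      _ ≤ _ := Nat.mul_le_mul_left _ hno
  exact Nat.le_of_mul_le_mul_right h6 h5

/-- `⟨Z^L⟩` in the two notations -/
theorem zl_eq (S L : Subgroup G) : NoFF.Basic.V (zc S) L = zl S L := by
  apply le_antisymm
  · refine V_le fun g hg => ?_
    have h1 : cj g (zl S L) = zl S L := cj_eq_of_mem_normalizer (le_normalizer_zl S L hg)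
    calc MulAut.conj g • zc S = cj g (zc S) := rfl
      _ ≤ cj g (zl S L) := cj_mono g (zc_le_zl S L)
      _ = _ := h1
  · exact iSup_le fun g => Z_le_V g.2

variable {S : Sylow 2 G} {L E Z₀ B V Z₁ R₁ : Subgroup G}

/-- **(alpha) is impossible.** -/
theorem _root_.Cfsg.Agent.Omega.NOThreeL.RZ.TwoC.Ab.alpha (h : Ab S L E Z₀ B V Z₁ R₁) (hM : MLK.{u, u})
    (hX : ML.Ex.Two.Ext.{u, u}) (RV : R₁ ≤ V)
    (nR : normalizer ((S : Subgroup G) : Set G) ≤ normalizer (R₁ : Set G))
    (cR : R₁ ⊓ centralizer ((S : Subgroup G) : Set G) ≤ Z₁) (hE : E ≤ centralizer (R₁ : Set G) ⊔ (S : Subgroup G))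
    {A : Subgroup G}
    (hA : A ∈ AA (o2 (CZ (S : Subgroup G)) ⊓ centralizer (zl (S : Subgroup G) (K1 (S : Subgroup G) L) : Set G)))
    (hm : ¬ A ⊓ centralizer (hul V (centralizer (R₁ : Set G)) : Set G) ≤
      centralizer (hul V (K2 (S : Subgroup G) Z₁) : Set G))
    (he : (centralizer (hul V (K2 (S : Subgroup G) Z₁) : Set G)).relIndex
        (A ⊓ centralizer (hul V (centralizer (R₁ : Set G)) : Set G) : Subgroup G) =
      (centralizer ((A ⊓ centralizer (hul V (centralizer (R₁ : Set G)) : Set G) : Subgroup G) : Set G)).relIndex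
        (hul V (K2 (S : Subgroup G) Z₁))) : False := by
  set F : Subgroup G := A ⊓ centralizer (hul V (centralizer (R₁ : Set G)) : Set G) with hF
  set W : Subgroup G := hul V (K2 (S : Subgroup G) Z₁) with hW
  set H : Subgroup G := centralizer (Z₁ : Set G) with hH
  have l2 := h.locK2
  have hSH : (S : Subgroup G) ≤ H := (le_CZ S).trans (centralizer_le h.Z1_le)
  have hHK : H ≤ K2 (S : Subgroup G) Z₁ := le_sup_left
  have lH : IsLoc (S : Subgroup G) H :=
    isLoc_of_le_normalizer S hSH (S.isPGroup'.to_le (h.Z1_le.trans (zc_le _))) h.ne1 (centralizer_le_normalizer _)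
  have hAO : A ≤ o2 (CZ (S : Subgroup G)) := hA.2.1.trans inf_le_left
  have hFA : F ≤ A := inf_le_left
  have hFO : F ≤ o2 (CZ (S : Subgroup G)) := hFA.trans hAO
  have hFS : F ≤ (S : Subgroup G) := hFO.trans o2C_le
  have helF : IsElementaryAbelian 2 F := eab_mono hA.1 hFA
  have hnn := nn_hul hM h.ctx l2 (h.kg l2) h.nn h.low
  have hnW : K2 (S : Subgroup G) Z₁ ≤ normalizer (W : Set G) := le_normalizer_hul _ _
  have hZW : zc (S : Subgroup G) ≤ W := h.ZV.trans (le_hul _ _)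
  have hUW : zl (S : Subgroup G) H ≤ W := zl_le hZW (hHK.trans hnW)
  have hgml : ∀ B : Subgroup G, B ≤ F → (centralizer (zl (S : Subgroup G) H : Set G)).relIndex B ≤
      (centralizer (B : Set G)).relIndex (zl (S : Subgroup G) H) := fun B hB =>
    gml hM h.ctx lH (h.kg lH) (hB.trans hFO) (eab_iff.1 (eab_mono helF hB)).2
  -- `O ∩ C(⟨Z^H⟩) ≤ O₂(K₂)`
  have hnU : K2 (S : Subgroup G) Z₁ ≤ normalizer (zl (S : Subgroup G) H : Set G) := by
    have e : zl (S : Subgroup G) H = hul (zc (S : Subgroup G)) H :=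
      le_antisymm (zl_le (le_hul _ _) (le_normalizer_hul _ _)) (hul_le_of (zc_le_zl _ _) (le_normalizer_zl _ _))
    rw [e]
    refine sup_le (le_normalizer_hul _ _) ?_
    exact norm_hul (normalizer_le_normalizer_zc _) (h.n1.trans (nc _))
  have hker : F ⊓ centralizer (zl (S : Subgroup G) H : Set G) ≤ centralizer (W : Set G) := by
    refine ker_of_exact hnn hUW helF ?_ he (hgml F le_rfl)
    exact (inf_le_inf_right _ hFO).trans (inf_cent_le l2.le (zc_le_zl _ _) hnU)
  have hmv : ¬ F ≤ centralizer (zl (S : Subgroup G) H : Set G) := fun hc => hm ((le_inf le_rfl hc).trans hker)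
  have hRH : centralizer (R₁ : Set G) ≤ H := centralizer_le h.ZR
  have hEH : E ≤ H := h.EZ.trans (centralizer_le h.le1)
  refine (GInX.false_of hM hX (C := H) (T := (S : Subgroup G)) (A := F) (M := W) (D := K1 (S : Subgroup G) L)
    (Z := zc (S : Subgroup G)) (Y := R₁) ?_)
  rw [← zl_eq] at hmv hker hgml
  exact
  { CM := hHK.trans hnW
    sqM := hnn.sq
    TC := hSH
    two := S.isPGroup'
    syl := not_dvd_relIndex S hSH
    ZM := hZW
    TZ := le_centralizer_zc _
    YM := RV.trans (le_hul _ _)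
    NY := inf_le_right.trans nR
    cY := centralizer_le cR
    ND := inf_le_right.trans le_sup_right
    AD := by
      refine le_trans (le_inf ((le_inf hFO ?_).trans h.le_o2K1) (le_inf (hFS.trans hSH) (hFS.trans h.S_le_K1))) ?_
      · exact hFA.trans (hA.2.1.trans inf_le_right)
      · rw [inf_comm]
        refine le_o2 inf_le_left ((o2_isPGroup _).to_le inf_le_right) ?_
        exact le_trans (le_inf Subgroup.le_normalizer (inf_le_right.trans (le_normalizer_o2 _)))
          inf_normalizer_le_normalizer_inf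
    par := by
      intro P hP0 hPH
      have hP := lH.isPar S hP0 hPH
      by_cases hz : P ≤ normalizer (zc (S : Subgroup G) : Set G)
      · have h1 := Nz.le_centralizer_of hP hz
        exact Or.inr ⟨h1.trans h.C_le_K1, Or.inl h1⟩
      rcases h.dich P ⟨hP, hz⟩ with h1 | h1
      · exact Or.inr ⟨h1.trans h.L_le_K1, Or.inr (h1.trans h.LR)⟩
      · refine Or.inl ⟨fun hc => hz (hc.trans (centralizer_le_normalizer _)), fun g hg hgo => ?_⟩
        -- odd elements of `C(R₁) S`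
        have h2 : g ∈ centralizer (R₁ : Set G) ⊔ (S : Subgroup G) := hE (h1 hg)
        set X : Subgroup G := centralizer (R₁ : Set G) ⊔ (S : Subgroup G) with hXd
        have hSR : X ≤ normalizer (centralizer (R₁ : Set G) : Set G) :=
          sup_le Subgroup.le_normalizer ((Subgroup.le_normalizer.trans nR).trans (nc _))
        have h3 : ((centralizer (R₁ : Set G)).subgroupOf X).Normal := normal_subgroupOf_of_le_normalizer hSR
        have h4 : (centralizer (R₁ : Set G)).subgroupOf X ⊔ (S : Subgroup G).subgroupOf X = ⊤ := by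
          rw [← subgroupOf_sup le_sup_left le_sup_right, subgroupOf_self]
        have h5 := KL.Star.Core.mem_of_odd (K := (centralizer (R₁ : Set G)).subgroupOf X)
          (T := (S : Subgroup G).subgroupOf X) S.isPGroup'.comap_subtype h4 (g := ⟨g, h2⟩) (by rwa [orderOf_mk])
        exact h5
    low := by
      have e : H ⊓ centralizer (R₁ : Set G) = centralizer (R₁ : Set G) := inf_eq_right.2 hRH
      rw [e]
      exact (le_inf hFO inf_le_right).trans h.le_o2R
    AT := hFS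
    sqA := (eab_iff.1 helF).2
    mv := hmv
    ker := hker
    le := by
      have h1 := relIndex_inf_mul_relIndex (centralizer (W : Set G))
        (centralizer (NoFF.Basic.V (zc (S : Subgroup G)) H : Set G)) F
      have h2 : centralizer (W : Set G) ≤ centralizer (NoFF.Basic.V (zc (S : Subgroup G)) H : Set G) := by
        rw [zl_eq]
        exact centralizer_le hUW
      rw [inf_eq_left.2 h2, inf_comm] at h1
      have h3 : (centralizer (W : Set G)).relIndex
          (F ⊓ centralizer (NoFF.Basic.V (zc (S : Subgroup G)) H : Set G) : Subgroup G) = 1 := relIndex_eq_one.2 hker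
      rw [h3, one_mul] at h1
      rw [h1]
      exact he.ge
    no := hgml
    K := h.kg lH }

end Cfsg.Agent.Omega.NOThreeL.RZ.TwoC.Alpha

end

section


/-!
# [R-z] (helper133 #25243, helper855 #24885): the minimal parabolics over the frame `FrP`

* `FrP.alt` : `P ∈ P*(S)`: `C_S(R) ≤ O₂(P)` or `P = C_P(R) S`;
* `FrP.le_o2_one` : `F ≤ O`, `F ≤ C(R)`, `F ≤ O₂(K₂)` imply `F ≤ O₂(P)` for all `P ∈ P(S)` (side 1);
* `FrP.le_o2_two` : `F ≤ O`, `F ≤ O₂(C_G(R))` imply `F ≤ O₂(P)` for all `P ∈ P(S)` (side 2);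
* `FrP.fixR`, `fixV` : `C_R(S) = R ∩ Z`, `C_{V*}(S) ≤ Z`;  `FrP.nJ` : `P ≤ N(C_S(R))` if `C_S(R) ≤ O₂(P)`;
* `FrE.sep` : `g ∈ N(R) ∩ N(B)` which centralises `z y`, `z ∈ R`, `y ∈ B`, centralises `z` and `y`.
-/

set_option autoImplicit false
set_option linter.unusedSectionVars false

namespace Cfsg.Agent.Omega.NOThreeL.RZ.TwoC

open Subgroup Cfsg
open Cfsg.Agent.ZN (o2 zc zl jj)
open Cfsg.Agent.ZN.ChoiceBase hiding mem_zc
open Cfsg.Agent.Omega.ML.GMod (nc normalizer_le_normalizer_o2)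
open Cfsg.Agent.Omega.MinPar Cfsg.Agent.Omega.Frame Cfsg.Agent.Omega.FrameNOFF
open Cfsg.Agent.Omega.NOThreeL.Star (YS le_YS S_le_YS)
open Cfsg.Agent.Omega.NoFF.Basic (comm_symm)
open Cfsg.Agent.MinSimple.VModule (zc_le_zl le_normalizer_zl zl_le zc_le zc_sq zc_comm mem_zc le_centralizer_zc
  le_normalizer_o2 o2_isPGroup o2_le le_o2 normalizer_le_normalizer_zc)

universe u

variable {G : Type u} [Group G]

namespace FrP

variable [Finite G] {S : Sylow 2 G} {R B : Subgroup G} {e : G} (h : FrP S R B e)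
include h

/-- `P ∈ P*(S)`: `C_S(R) ≤ O₂(P)` or `P = C_P(R) S` -/
theorem alt {P : Subgroup G} (hP : IsParS (S : Subgroup G) P) :
    (S : Subgroup G) ⊓ centralizer (R : Set G) ≤ o2 P ∨ (P ⊓ centralizer (R : Set G)) ⊔ (S : Subgroup G) = P := by
  have hPR : P ≤ normalizer (R : Set G) := (le_YS hP).trans h.nR
  have hn : P ≤ normalizer ((P ⊓ centralizer (R : Set G) : Subgroup G) : Set G) := by
    intro p hp
    rw [mem_normalizer_iff_cj, cj_inf, cj_centralizer, cj_eq_of_mem_normalizer (le_normalizer hp),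
      cj_eq_of_mem_normalizer (hPR hp)]
  rcases hP.toIsPar.sup_eq_or_inf_le S inf_le_left hn with h1 | h1
  · exact Or.inr h1
  · exact Or.inl ((le_inf inf_le_left (le_inf (inf_le_left.trans hP.le) inf_le_right)).trans h1)

/-- then `P ≤ K₂` -/
theorem le_K2 {P : Subgroup G} (h1 : (P ⊓ centralizer (R : Set G)) ⊔ (S : Subgroup G) = P) :
    P ≤ centralizer ((R ⊓ zc (S : Subgroup G) : Subgroup G) : Set G) := by
  rw [← h1]
  exact sup_le (inf_le_right.trans h.RK) ((le_CZ S).trans h.C2)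

theorem o2C_le_o2 {P : Subgroup G} (hS : (S : Subgroup G) ≤ P) (hP : P ≤ CZ (S : Subgroup G)) :
    o2 (CZ (S : Subgroup G)) ≤ o2 P := o2_le_o2 S hS hP

/-- **side 1**: `F ≤ O₂(P)` for all `P ∈ P(S)` -/
theorem le_o2_one {F : Subgroup G} (hFO : F ≤ o2 (CZ (S : Subgroup G))) (hFR : F ≤ centralizer (R : Set G))
    (hF2 : F ≤ o2 (centralizer ((R ⊓ zc (S : Subgroup G) : Subgroup G) : Set G))) {P : Subgroup G}
    (hP : IsPar (S : Subgroup G) P) : F ≤ o2 P := by
  rcases h.le_of_par hP with h1 | ⟨h1, _⟩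
  · exact hFO.trans (h.o2C_le_o2 hP.le h1)
  · rcases h.alt h1 with h2 | h2
    · exact (le_inf (hFO.trans Loc.o2C_le) hFR).trans h2
    · exact hF2.trans (o2_le_o2 S hP.le (h.le_K2 h2))

theorem nQR : (S : Subgroup G) ≤ normalizer (o2 (centralizer (R : Set G)) : Set G) :=
  ((h.S_le_ys.trans h.nR).trans (nc _)).trans (normalizer_le_normalizer_o2 _)

theorem QR_le : o2 (centralizer (R : Set G)) ≤ (S : Subgroup G) :=
  le_of_le_normalizer S (o2_isPGroup _) h.nQR

/-- **side 2**: `F ≤ O₂(P)` for all `P ∈ P(S)` -/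
theorem le_o2_two {F : Subgroup G} (hFO : F ≤ o2 (CZ (S : Subgroup G)))
    (hFQ : F ≤ o2 (centralizer (R : Set G))) {P : Subgroup G}
    (hP : IsPar (S : Subgroup G) P) : F ≤ o2 P := by
  rcases h.le_of_par hP with h1 | ⟨h1, _⟩
  · exact hFO.trans (h.o2C_le_o2 hP.le h1)
  · rcases h.alt h1 with h2 | h2
    · exact (le_inf (hFO.trans Loc.o2C_le) (hFQ.trans (o2_le _))).trans h2
    · refine hFQ.trans (le_o2 (h.QR_le.trans hP.le) (o2_isPGroup _) ?_)
      rw [← h2]
      exact sup_le (inf_le_right.trans (le_normalizer_o2 _)) h.nQR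

/-- `P ∈ P*(S)` with `C_S(R) ≤ O₂(P)` normalises `C_S(R)` -/
theorem nJ {P : Subgroup G} (hP : IsParS (S : Subgroup G) P)
    (h1 : (S : Subgroup G) ⊓ centralizer (R : Set G) ≤ o2 P) :
    P ≤ normalizer (((S : Subgroup G) ⊓ centralizer (R : Set G) : Subgroup G) : Set G) := by
  have e : (S : Subgroup G) ⊓ centralizer (R : Set G) = o2 P ⊓ centralizer (R : Set G) :=
    le_antisymm (le_inf h1 inf_le_right) (inf_le_inf_right _ (hP.isLoc.o2_le S))
  rw [e]
  intro p hp
  rw [mem_normalizer_iff_cj, cj_inf, cj_centralizer, cj_eq_of_mem_normalizer (le_normalizer_o2 P hp),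
    cj_eq_of_mem_normalizer (h.nR (le_YS hP hp))]

/-- `C_{V*}(S) ≤ Z` -/
theorem fixV {v : G} (hv : v ∈ zl (S : Subgroup G) (YS S)) (hs : ∀ s ∈ (S : Subgroup G), s * v = v * s) :
    v ∈ zc (S : Subgroup G) := mem_zc.2 ⟨h.vS hv, hs, h.vs v hv⟩

/-- `C_R(S) = R ∩ Z` -/
theorem fixR {v : G} (hv : v ∈ R) (hs : ∀ s ∈ (S : Subgroup G), s * v = v * s) :
    v ∈ R ⊓ zc (S : Subgroup G) := ⟨hv, h.fixV (h.RV hv) hs⟩

end FrP

/-- **`g ∈ N(R) ∩ N(B)` which centralises `z y` centralises `z` and `y`** -/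
theorem FrE.sep [Finite G] {S : Sylow 2 G} {R B : Subgroup G} {e : G} (h : FrE S R B e) {g z y : G}
    (hgR : g ∈ normalizer (R : Set G)) (hgB : g ∈ normalizer (B : Set G)) (hz : z ∈ R) (hy : y ∈ B)
    (hc : g * (z * y) = z * y * g) : g * z = z * g ∧ g * y = y * g := by
  have h1 : g * z * g⁻¹ ∈ R := (mem_normalizer_iff.1 hgR z).1 hz
  have h2 : g * y * g⁻¹ ∈ B := (mem_normalizer_iff.1 hgB y).1 hy
  have e1 : z⁻¹ * (g * z * g⁻¹) = y * (g * y * g⁻¹)⁻¹ := by
    have e2 : g * z * g⁻¹ * (g * y * g⁻¹) = z * y := by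
      calc g * z * g⁻¹ * (g * y * g⁻¹) = g * (z * y) * g⁻¹ := by group
        _ = z * y * g * g⁻¹ := by rw [hc]
        _ = z * y := by group
    calc z⁻¹ * (g * z * g⁻¹) = z⁻¹ * (g * z * g⁻¹ * (g * y * g⁻¹)) * (g * y * g⁻¹)⁻¹ := by group
      _ = z⁻¹ * (z * y) * (g * y * g⁻¹)⁻¹ := by rw [e2]
      _ = y * (g * y * g⁻¹)⁻¹ := by group
  have h3 : z⁻¹ * (g * z * g⁻¹) ∈ B ⊓ R :=
    ⟨by rw [e1]; exact B.mul_mem hy (B.inv_mem h2), R.mul_mem (R.inv_mem hz) h1⟩
  rw [h.spl, mem_bot] at h3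
  have h4 : g * z * g⁻¹ = z := (inv_mul_eq_one.1 h3).symm
  have h5 : g * y * g⁻¹ = y := by
    rw [h3] at e1
    exact (mul_inv_eq_one.1 e1.symm).symm
  exact ⟨mul_inv_eq_iff_eq_mul.1 h4, mul_inv_eq_iff_eq_mul.1 h5⟩

end Cfsg.Agent.Omega.NOThreeL.RZ.TwoC

end

section


/-!
# The two sides over a frame with a variable `X ≤ Z ∩ R` (THEOREM REL: helper849 #25853, helper863 #25809)

`FrX S R B X e` : helper652's `FrP` with `R ∩ Z` replaced by a subgroup `1 ≠ X ≤ Z ∩ R` and `hA` only for `A ≤ O₂(K₂)`,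
`K₂ = C_G(X)` (e.g. `X = Z ∩ R`, or `X = ⟨z₀⟩`); `K₁ = C_G(e)`.

* **`FrX.main`** : (alpha) or (beta), as in `TwoC/AbP.lean`;
* `FrP.toX` : `X = R ∩ Z`;
* `FrX.alt`, `le_o2_one`, `le_o2_two`, `nJ`, `fixV`, `fixR` : as in `TwoC/ParP.lean`;  `FrX.sep` if `B ∩ R = 1`.
-/

set_option autoImplicit false
set_option linter.unusedSectionVars false

namespace Cfsg.Agent.Omega.NOThreeL.RZ.TwoC

open Subgroup Cfsg
open Cfsg.Agent.ZN (o2 zc zl jj)
open Cfsg.Agent.ZN.ChoiceBase hiding mem_zc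
open Cfsg.Agent.Omega.ML.Final (MLK)
open Cfsg.Agent.Omega.ML.GMod (hul hul_le hul_le_of le_hul cj_le_hul le_normalizer_hul nc ri_mono
  normalizer_le_normalizer_o2)
open Cfsg.Agent.Omega.MinPar Cfsg.Agent.Omega.Frame Cfsg.Agent.Omega.FrameNOFF
open Cfsg.Agent.Omega.NO3b.Bang (le_normalizer_sup cent_symm)
open Cfsg.Agent.Omega.NOThreeL.Star (YS le_YS S_le_YS zl_mono)
open Cfsg.Agent.Omega.NO3S.EThree.ExactA (eab_iff eab_mono)
open Cfsg.Agent.Omega.EK3.Rank (NoOn)
open Cfsg.Agent.Omega.NoFF.Basic (comm_symm)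
open Cfsg.Agent.Omega.GI (relIndex_congr relIndex_sup_of_comm)
open Cfsg.Agent.MinSimple.VModule (zc_le_zl le_normalizer_zl zl_le zc_le zc_sq zc_comm mem_zc le_centralizer_zc
  le_normalizer_o2 o2_isPGroup o2_le le_o2 normalizer_le_normalizer_zc)
open Cfsg.Agent.Omega.NOThreeL.RZ.TwoC.Loc (gml o2C_le inf_cent_le norm_inf)
open Cfsg.Agent.Omega.NOThreeL.RZ.TwoC.SideP (NoA TwoP)

universe u

variable {G : Type u} [Group G]

/-- **The frame with a variable `X`.** -/
structure FrX [Finite G] (S : Sylow 2 G) (R B X : Subgroup G) (e : G) : Prop where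
  ctx : Ctx G
  full : Full (S : Subgroup G)
  nR : YS (S : Subgroup G) ≤ normalizer (R : Set G)
  nB : YS (S : Subgroup G) ≤ normalizer (B : Set G)
  sE : centralizer ({e} : Set G) ⊓ normalizer ((S : Subgroup G) : Set G) ≤ normalizer (R : Set G) ⊓ normalizer (B : Set G)
  sZ : centralizer (X : Set G) ⊓ normalizer ((S : Subgroup G) : Set G) ≤
    normalizer (R : Set G) ⊓ normalizer (B : Set G)
  RV : R ≤ zl (S : Subgroup G) (YS S)
  BV : B ≤ zl (S : Subgroup G) (YS S)
  XR : X ≤ R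
  XZ : X ≤ zc (S : Subgroup G)
  X1 : X ≠ ⊥
  hA : ∀ A ∈ AA (o2 (CZ (S : Subgroup G))), A ≤ o2 (centralizer (X : Set G)) → A ≤ centralizer (R : Set G)
  low : zl (S : Subgroup G) (YS S) ≤ o2 (CZ (S : Subgroup G))
  vc : zl (S : Subgroup G) (YS S) ≤ centralizer (zl (S : Subgroup G) (YS S) : Set G)
  vs : ∀ v ∈ zl (S : Subgroup G) (YS S), v ^ 2 = 1
  eZ : e ∈ zc (S : Subgroup G)
  eB : e ∈ B
  e1 : e ≠ 1
  tr : YS (S : Subgroup G) ≤ (YS (S : Subgroup G) ⊓ centralizer (R : Set G)) ⊔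
    (YS (S : Subgroup G) ⊓ centralizer ({e} : Set G))

/-- `X = R ∩ Z` -/
theorem FrP.toX [Finite G] {S : Sylow 2 G} {R B : Subgroup G} {e : G} (h : FrP S R B e) :
    FrX S R B (R ⊓ zc (S : Subgroup G)) e :=
  { ctx := h.ctx, full := h.full, nR := h.nR, nB := h.nB, sE := h.sE, sZ := h.sZ, RV := h.RV, BV := h.BV
    XR := inf_le_left
    XZ := inf_le_right
    X1 := h.ne
    hA := fun A hA _ => h.hA A hA
    low := h.low, vc := h.vc, vs := h.vs, eZ := h.eZ, eB := h.eB, e1 := h.e1, tr := h.tr }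

namespace FrX

variable [Finite G] {S : Sylow 2 G} {R B X : Subgroup G} {e : G} (h : FrX S R B X e)
include h

theorem S_le_ys : (S : Subgroup G) ≤ YS (S : Subgroup G) := S_le_YS h.ctx h.full

theorem vel : IsElementaryAbelian 2 (zl (S : Subgroup G) (YS S)) := eab_iff.2 ⟨h.vc, h.vs⟩

theorem vS : zl (S : Subgroup G) (YS S) ≤ (S : Subgroup G) := h.low.trans o2C_le

theorem R2 : IsPGroup 2 R := S.isPGroup'.to_le (h.RV.trans h.vS)

theorem R1 : R ≠ ⊥ := fun e => h.X1 (le_bot_iff.1 (e ▸ h.XR))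

theorem zc_ne : zc (S : Subgroup G) ≠ ⊥ := MinSimple.Basic.zc_ne_bot S.isPGroup' (h.ctx.sylow_ne_bot S)

theorem kg {L : Subgroup G} (hL : IsLoc (S : Subgroup G) L) : IsKGroup L :=
  ML.GNN.kgroup_of_isLoc h.ctx h.ctx.not_isPGroup hL

/-! ### `K₁`, `K₂` -/

theorem C1 : CZ (S : Subgroup G) ≤ centralizer ({e} : Set G) := centralizer_le (Set.singleton_subset_iff.2 h.eZ)

theorem C2 : CZ (S : Subgroup G) ≤ centralizer (X : Set G) := centralizer_le h.XZ

theorem lK1 : IsLoc (S : Subgroup G) (centralizer ({e} : Set G)) := RZ.LowR.isLoc_cent h.eZ h.e1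

theorem lK2 : IsLoc (S : Subgroup G) (centralizer (X : Set G)) :=
  isLoc_of_le_normalizer S ((le_CZ S).trans h.C2) (h.R2.to_le h.XR) h.X1 (centralizer_le_normalizer _)

theorem RK : centralizer (R : Set G) ≤ centralizer (X : Set G) := centralizer_le h.XR

/-- `Y C_G(R)` is local -/
theorem lX : IsLoc (S : Subgroup G) (YS (S : Subgroup G) ⊔ centralizer (R : Set G)) :=
  isLoc_of_le_normalizer S (h.S_le_ys.trans le_sup_left) h.R2 h.R1 (sup_le h.nR (centralizer_le_normalizer _))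

/-- **`⟨K₁, C_Y(R)⟩` is nonlocal** -/
theorem nl {U : Subgroup G} (hU : IsPGroup 2 U) (h1 : centralizer ({e} : Set G) ≤ normalizer (U : Set G))
    (h2 : YS (S : Subgroup G) ⊓ centralizer (R : Set G) ≤ normalizer (U : Set G)) : U = ⊥ := by
  refine eq_bot_of_norm h.ctx S h.full hU (fun P hP => ?_) (h.C1.trans h1)
  exact (le_YS hP).trans (h.tr.trans (sup_le h2 (inf_le_right.trans h1)))

/-- `⟨K₁, K₂⟩` is nonlocal -/
theorem nonLoc : NonLoc (centralizer ({e} : Set G)) (centralizer (X : Set G)) :=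
  fun _ hU h1 h2 => h.nl hU h1 ((inf_le_right.trans h.RK).trans h2)

/-- `P ∈ P(S)`, `P ≤ K` is in `C` or in `Y` -/
theorem le_of_par {P : Subgroup G} (hP : IsPar (S : Subgroup G) P) : P ≤ CZ (S : Subgroup G) ∨
    (IsParS (S : Subgroup G) P ∧ P ≤ YS (S : Subgroup G)) := by
  by_cases hz : P ≤ normalizer (zc (S : Subgroup G) : Set G)
  · exact Or.inl (Nz.le_centralizer_of hP hz)
  · exact Or.inr ⟨⟨hP, hz⟩, le_YS ⟨hP, hz⟩⟩

/-! ### `V* ≤ A` -/

/-- **`O₂(C_G(R))` centralises `V*`** -/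
theorem QR_cent : o2 (centralizer (R : Set G)) ≤ centralizer (zl (S : Subgroup G) (YS S) : Set G) := by
  have hn : YS (S : Subgroup G) ≤ normalizer (o2 (centralizer (R : Set G)) : Set G) :=
    (h.nR.trans (nc _)).trans (normalizer_le_normalizer_o2 _)
  have hS : o2 (centralizer (R : Set G)) ≤ (S : Subgroup G) :=
    le_of_le_normalizer S (o2_isPGroup _) (h.S_le_ys.trans hn)
  refine comm_symm (zl_le (comm_symm (hS.trans (le_CZ S))) ?_)
  exact hn.trans (nc _)

/-- `O₂(K) ∩ C_G(R) ≤ O₂(C_G(R))` for `K ≥ C_G(R)` -/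
theorem inf_le_QR {K : Subgroup G} (hK : centralizer (R : Set G) ≤ K) :
    o2 K ⊓ centralizer (R : Set G) ≤ o2 (centralizer (R : Set G)) :=
  le_o2 inf_le_right ((o2_isPGroup _).to_le inf_le_left)
    (le_trans (le_inf (hK.trans (le_normalizer_o2 _)) Subgroup.le_normalizer) inf_normalizer_le_normalizer_inf)

theorem inf_le_QB {K : Subgroup G} (hK : centralizer (B : Set G) ≤ K) :
    o2 K ⊓ centralizer (B : Set G) ≤ o2 (centralizer (B : Set G)) :=
  le_o2 inf_le_right ((o2_isPGroup _).to_le inf_le_left)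
    (le_trans (le_inf (hK.trans (le_normalizer_o2 _)) Subgroup.le_normalizer) inf_normalizer_le_normalizer_inf)

theorem BK : centralizer (B : Set G) ≤ centralizer ({e} : Set G) :=
  centralizer_le (Set.singleton_subset_iff.2 h.eB)

/-- `NR = ⟨Z^{Y C_G(R)}⟩ ≤ W₂` -/
theorem NR_le : zl (S : Subgroup G) (YS (S : Subgroup G) ⊔ centralizer (R : Set G)) ≤
    hul (zl (S : Subgroup G) (YS S)) (centralizer (X : Set G)) := by
  refine le_trans (zl_le ((zc_le_zl _ _).trans (le_hul (zl (S : Subgroup G) (YS S)) (centralizer (R : Set G)))) ?_)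
    (hul_mono h.RK)
  exact sup_le (norm_hul (le_normalizer_zl _ _) (h.nR.trans (nc _))) (le_normalizer_hul _ _)

/-! ### the minimal parabolics -/

/-- `P ∈ P*(S)`: `C_S(R) ≤ O₂(P)` or `P = C_P(R) S` -/
theorem alt {P : Subgroup G} (hP : IsParS (S : Subgroup G) P) :
    (S : Subgroup G) ⊓ centralizer (R : Set G) ≤ o2 P ∨ (P ⊓ centralizer (R : Set G)) ⊔ (S : Subgroup G) = P := by
  have hPR : P ≤ normalizer (R : Set G) := (le_YS hP).trans h.nR
  have hn : P ≤ normalizer ((P ⊓ centralizer (R : Set G) : Subgroup G) : Set G) := by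
    intro p hp
    rw [mem_normalizer_iff_cj, cj_inf, cj_centralizer, cj_eq_of_mem_normalizer (le_normalizer hp),
      cj_eq_of_mem_normalizer (hPR hp)]
  rcases hP.toIsPar.sup_eq_or_inf_le S inf_le_left hn with h1 | h1
  · exact Or.inr h1
  · exact Or.inl ((le_inf inf_le_left (le_inf (inf_le_left.trans hP.le) inf_le_right)).trans h1)

/-- then `P ≤ K₂` -/
theorem le_K2 {P : Subgroup G} (h1 : (P ⊓ centralizer (R : Set G)) ⊔ (S : Subgroup G) = P) :
    P ≤ centralizer (X : Set G) := by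
  rw [← h1]
  exact sup_le (inf_le_right.trans h.RK) ((le_CZ S).trans h.C2)

theorem o2C_le_o2 {P : Subgroup G} (hS : (S : Subgroup G) ≤ P) (hP : P ≤ CZ (S : Subgroup G)) :
    o2 (CZ (S : Subgroup G)) ≤ o2 P := o2_le_o2 S hS hP

/-- **side 1**: `F ≤ O₂(P)` for all `P ∈ P(S)` -/
theorem le_o2_one {F : Subgroup G} (hFO : F ≤ o2 (CZ (S : Subgroup G))) (hFR : F ≤ centralizer (R : Set G))
    (hF2 : F ≤ o2 (centralizer (X : Set G))) {P : Subgroup G}
    (hP : IsPar (S : Subgroup G) P) : F ≤ o2 P := by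
  rcases h.le_of_par hP with h1 | ⟨h1, _⟩
  · exact hFO.trans (h.o2C_le_o2 hP.le h1)
  · rcases h.alt h1 with h2 | h2
    · exact (le_inf (hFO.trans Loc.o2C_le) hFR).trans h2
    · exact hF2.trans (o2_le_o2 S hP.le (h.le_K2 h2))

theorem nQR : (S : Subgroup G) ≤ normalizer (o2 (centralizer (R : Set G)) : Set G) :=
  ((h.S_le_ys.trans h.nR).trans (nc _)).trans (normalizer_le_normalizer_o2 _)

theorem QR_le : o2 (centralizer (R : Set G)) ≤ (S : Subgroup G) :=
  le_of_le_normalizer S (o2_isPGroup _) h.nQR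

/-- **side 2**: `F ≤ O₂(P)` for all `P ∈ P(S)` -/
theorem le_o2_two {F : Subgroup G} (hFO : F ≤ o2 (CZ (S : Subgroup G)))
    (hFQ : F ≤ o2 (centralizer (R : Set G))) {P : Subgroup G}
    (hP : IsPar (S : Subgroup G) P) : F ≤ o2 P := by
  rcases h.le_of_par hP with h1 | ⟨h1, _⟩
  · exact hFO.trans (h.o2C_le_o2 hP.le h1)
  · rcases h.alt h1 with h2 | h2
    · exact (le_inf (hFO.trans Loc.o2C_le) (hFQ.trans (o2_le _))).trans h2
    · refine hFQ.trans (le_o2 (h.QR_le.trans hP.le) (o2_isPGroup _) ?_)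
      rw [← h2]
      exact sup_le (inf_le_right.trans (le_normalizer_o2 _)) h.nQR

/-- `P ∈ P*(S)` with `C_S(R) ≤ O₂(P)` normalises `C_S(R)` -/
theorem nJ {P : Subgroup G} (hP : IsParS (S : Subgroup G) P)
    (h1 : (S : Subgroup G) ⊓ centralizer (R : Set G) ≤ o2 P) :
    P ≤ normalizer (((S : Subgroup G) ⊓ centralizer (R : Set G) : Subgroup G) : Set G) := by
  have e : (S : Subgroup G) ⊓ centralizer (R : Set G) = o2 P ⊓ centralizer (R : Set G) :=
    le_antisymm (le_inf h1 inf_le_right) (inf_le_inf_right _ (hP.isLoc.o2_le S))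
  rw [e]
  intro p hp
  rw [mem_normalizer_iff_cj, cj_inf, cj_centralizer, cj_eq_of_mem_normalizer (le_normalizer_o2 P hp),
    cj_eq_of_mem_normalizer (h.nR (le_YS hP hp))]

/-- `C_{V*}(S) ≤ Z` -/
theorem fixV {v : G} (hv : v ∈ zl (S : Subgroup G) (YS S)) (hs : ∀ s ∈ (S : Subgroup G), s * v = v * s) :
    v ∈ zc (S : Subgroup G) := mem_zc.2 ⟨h.vS hv, hs, h.vs v hv⟩

/-- `C_R(S) = R ∩ Z` -/
theorem fixR {v : G} (hv : v ∈ R) (hs : ∀ s ∈ (S : Subgroup G), s * v = v * s) :
    v ∈ R ⊓ zc (S : Subgroup G) := ⟨hv, h.fixV (h.RV hv) hs⟩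

variable (hM : MLK.{u, u})
include hM

/-- every `A ∈ AA(C_O(⟨Z^{K₂}⟩))` centralises `V*` -/
theorem cent_V {A : Subgroup G} (hA : A ∈ AA (o2 (CZ (S : Subgroup G)) ⊓
    centralizer (zl (S : Subgroup G) (centralizer (X : Set G)) : Set G))) :
    A ≤ centralizer (zl (S : Subgroup G) (YS S) : Set G) := by
  have hU := h.lK2.zl_le S h.ctx.char2
  have hO2 : o2 (centralizer (X : Set G)) ≤ o2 (CZ (S : Subgroup G)) :=
    o2_le_o2 S (le_CZ S) h.C2
  have hel : IsElementaryAbelian 2 (zl (S : Subgroup G) (centralizer (X : Set G))) :=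
    eab_iff.2 ⟨fun x hx => mem_centralizer_iff.2 fun y hy => zc_comm _ _ (hU hy) _ (hU hx), fun x hx => zc_sq _ _ (hU hx)⟩
  have h1 : A ∈ AA (o2 (CZ (S : Subgroup G))) :=
    EK3.Rank.mem_AA_of_inf hel ((hU.trans (zc_le _)).trans hO2)
      (fun A' hel' hA' => gml hM h.ctx h.lK2 (h.kg h.lK2) hA' (eab_iff.1 hel').2) hA
  have h2 : A ≤ o2 (centralizer (X : Set G)) :=
    hA.2.1.trans (inf_cent_le h.lK2.le (zc_le_zl _ _) (le_normalizer_zl _ _))
  exact ((le_inf h2 (h.hA A h1 h2)).trans (h.inf_le_QR h.RK)).trans h.QR_cent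

/-- `W₂`: contained in every `A ∈ AA(C_O(⟨Z^{K₂}⟩))`, elementary abelian, `≤ O`, `(NO)` -/
theorem W2 :
    (∀ A ∈ AA (o2 (CZ (S : Subgroup G)) ⊓
      centralizer (zl (S : Subgroup G) (centralizer (X : Set G)) : Set G)),
      hul (zl (S : Subgroup G) (YS S)) (centralizer (X : Set G)) ≤ A) ∧
    IsElementaryAbelian 2
      (hul (zl (S : Subgroup G) (YS S)) (centralizer (X : Set G))) ∧
    hul (zl (S : Subgroup G) (YS S)) (centralizer (X : Set G)) ≤
      o2 (CZ (S : Subgroup G)) ∧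
    NoA (o2 (CZ (S : Subgroup G)))
      (hul (zl (S : Subgroup G) (YS S)) (centralizer (X : Set G))) := by
  have hU := h.lK2.zl_le S h.ctx.char2
  have hO2 : o2 (centralizer (X : Set G)) ≤ o2 (CZ (S : Subgroup G)) :=
    o2_le_o2 S (le_CZ S) h.C2
  refine SideP.noA_hul (U := zl (S : Subgroup G) (centralizer (X : Set G)))
    (eab_iff.2 ⟨fun x hx => mem_centralizer_iff.2 fun y hy => zc_comm _ _ (hU hy) _ (hU hx),
      fun x hx => zc_sq _ _ (hU hx)⟩) ((hU.trans (zc_le _)).trans hO2)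
    (fun A hA => gml hM h.ctx h.lK2 (h.kg h.lK2) hA.2.1 (eab_iff.1 hA.1).2)
    (norm_inf h.C2 (zc_le_zl _ _) (le_normalizer_zl _ _)) h.vel h.low ?_ fun A hA => h.cent_V hM hA
  exact zl_le ((zc_le_zl _ _).trans (le_hul _ _)) (le_normalizer_hul _ _)

/-- **The two sides.** -/
theorem twoP :
    TwoP (o2 (CZ (S : Subgroup G))) (CZ (S : Subgroup G)) (centralizer ({e} : Set G))
      (centralizer (X : Set G))
      ((centralizer ({e} : Set G) ⊓ YS (S : Subgroup G)) ⊔
        (centralizer ({e} : Set G) ⊓ normalizer ((S : Subgroup G) : Set G)))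
      (YS (S : Subgroup G) ⊓ centralizer (R : Set G))
      (zl (S : Subgroup G) (centralizer ({e} : Set G)))
      (hul (zl (S : Subgroup G) (YS S)) (centralizer (X : Set G)))
      (zl (S : Subgroup G) (YS (S : Subgroup G) ⊔ centralizer (R : Set G)))
      (o2 (centralizer (B : Set G))) := by
  have hO1 : o2 (centralizer ({e} : Set G)) ≤ o2 (CZ (S : Subgroup G)) := o2_le_o2 S (le_CZ S) h.C1
  have hz1 := h.lK1.zl_le S h.ctx.char2
  have hVW : zl (S : Subgroup G) (YS S) ≤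
      hul (zl (S : Subgroup G) (YS S)) (centralizer (X : Set G)) := le_hul _ _
  obtain ⟨_, w1, w2, w3⟩ := h.W2 hM
  exact
  { D1 := h.C1
    D2 := h.C2
    e1 := sup_le inf_le_left inf_le_left
    g1 := by
      refine h.lK1.le_of_forall S (le_sup_right.trans le_sup_right) fun P hP hPK => ?_
      rcases h.le_of_par hP with h1 | h1
      · exact h1.trans le_sup_left
      · exact ((le_inf hPK h1.2).trans le_sup_left).trans le_sup_right
    e2 := inf_le_right.trans h.RK
    el1 := eab_iff.2 ⟨fun x hx => mem_centralizer_iff.2 fun y hy => zc_comm _ _ (hz1 hy) _ (hz1 hx),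
      fun x hx => zc_sq _ _ (hz1 hx)⟩
    el2 := w1
    UO := (hz1.trans (zc_le _)).trans hO1
    WO := w2
    KU := le_normalizer_zl _ _
    KW := le_normalizer_hul _ _
    q1 := norm_inf h.C1 (zc_le_zl _ _) (le_normalizer_zl _ _)
    q2 := norm_inf h.C2 ((zc_le_zl _ _).trans hVW) (le_normalizer_hul _ _)
    core1 := by
      intro D hX hn
      have h1 : D ≤ o2 (centralizer ({e} : Set G)) := le_o2 (hX.trans ((o2_le _).trans h.C1)) ((o2_isPGroup _).to_le hX) hn
      intro x hx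
      rw [mem_centralizer_iff]
      intro y hy
      exact ((mem_zc.1 (hz1 hy)).2.1 _ (h1 hx)).symm
    no1 := fun A hA => gml hM h.ctx h.lK1 (h.kg h.lK1) hA.2.1 (eab_iff.1 hA.1).2
    no2 := w3
    RW := h.NR_le
    ER := by
      refine sup_le (inf_le_right.trans (le_sup_left.trans (le_normalizer_zl _ _))) ?_
      intro n hn'
      have hn := hn'.2
      have hnR := (h.sE hn').1
      have h1 : cj n (zl (S : Subgroup G) (YS (S : Subgroup G) ⊔ centralizer (R : Set G))) =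
          zl (cj n (S : Subgroup G)) (cj n (YS (S : Subgroup G) ⊔ centralizer (R : Set G))) :=
        (MinSimple.CosetFam.zl_conj n _ _).symm
      rw [mem_normalizer_iff_cj, h1, cj_eq_of_mem_normalizer hn,
        cj_eq_of_mem_normalizer (le_normalizer_sup (A := zpowers n) (by rw [zpowers_le]; exact nS_ys hn)
          (by rw [zpowers_le]; exact nc _ hnR) (mem_zpowers n))]
    noR := fun A hA => gml hM h.ctx h.lX (h.kg h.lX) (hA.2.1.trans inf_le_left) (eab_iff.1 hA.1).2
    qB := by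
      refine le_trans (le_inf ?_ ?_) (h.inf_le_QB h.BK)
      · exact inf_le_left.trans (inf_cent_le h.lK1.le (zc_le_zl _ _) (le_normalizer_zl _ _))
      · exact inf_le_right.trans (centralizer_le (h.BV.trans hVW))
    EQ := (inf_le_left.trans h.nB).trans ((nc _).trans (normalizer_le_normalizer_o2 _))
    nonloc := fun _ hX h1 h2 => h.nl ((o2_isPGroup _).to_le hX) h1 h2
    ne := fun e => h.zc_ne (le_bot_iff.1 (e ▸ zc_le_zl _ _)) }

/-- **(alpha) or (beta).** -/
theorem main :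
    (∃ A ∈ AA (o2 (CZ (S : Subgroup G))), zl (S : Subgroup G) (centralizer ({e} : Set G)) ≤ A ∧
      A ≤ o2 (centralizer ({e} : Set G)) ∧ ∃ F : Subgroup G, F ≤ A ∧ F ≤ o2 (centralizer (R : Set G)) ∧
      ¬ F ≤ centralizer
        (hul (zl (S : Subgroup G) (YS S)) (centralizer (X : Set G)) : Set G) ∧
      (centralizer (hul (zl (S : Subgroup G) (YS S))
        (centralizer (X : Set G)) : Set G)).relIndex F =
        (centralizer (F : Set G)).relIndex
          (hul (zl (S : Subgroup G) (YS S)) (centralizer (X : Set G)))) ∨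
    (∃ X₁ : Subgroup G, IsElementaryAbelian 2 X₁ ∧ centralizer ({e} : Set G) ≤ normalizer (X₁ : Set G) ∧
      zl (S : Subgroup G) (YS S) ≤ X₁ ∧ zl (S : Subgroup G) (centralizer ({e} : Set G)) ≤ X₁ ∧
      X₁ ≤ o2 (CZ (S : Subgroup G)) ∧
      ∃ F ∈ AA (o2 (CZ (S : Subgroup G))), zl (S : Subgroup G) (YS S) ≤ F ∧
        F ≤ o2 (centralizer (X : Set G)) ∧
        F ≤ centralizer (R : Set G) ∧ F ≤ o2 (centralizer (B : Set G)) ∧
        ¬ F ≤ centralizer (zl (S : Subgroup G) (centralizer ({e} : Set G)) : Set G) ∧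
        ¬ F ≤ o2 (centralizer ({e} : Set G)) ∧
        F ⊓ centralizer (zl (S : Subgroup G) (centralizer ({e} : Set G)) : Set G) ≤ centralizer (X₁ : Set G) ∧
        (centralizer (X₁ : Set G)).relIndex F = (centralizer (F : Set G)).relIndex X₁) := by
  have D := h.twoP hM
  have hVW : zl (S : Subgroup G) (YS S) ≤
      hul (zl (S : Subgroup G) (YS S)) (centralizer (X : Set G)) := le_hul _ _
  rcases D.main with ⟨A, hA, hAO, hU, hm, he⟩ | ⟨X₁, _, hel, hn, hW, hU, hO, _, _, F, hF, hFO, hWF, hQ, hm, hc, he⟩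
  · refine Or.inl ⟨A, hAO, hU, hA.2.1.trans (inf_cent_le h.lK1.le (zc_le_zl _ _) (le_normalizer_zl _ _)), _,
      inf_le_left, ?_, hm, he⟩
    have h1 : A ⊓ centralizer (zl (S : Subgroup G) (YS (S : Subgroup G) ⊔ centralizer (R : Set G)) : Set G) ≤
        o2 (YS (S : Subgroup G) ⊔ centralizer (R : Set G)) :=
      (inf_le_inf_right _ hAO.2.1).trans (inf_cent_le h.lX.le (zc_le_zl _ _) (le_normalizer_zl _ _))
    exact (le_inf h1 (inf_le_right.trans (centralizer_le (h.RV.trans (zl_mono le_sup_left))))).trans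
      (h.inf_le_QR le_sup_right)
  · have hF2 : F ≤ o2 (centralizer (X : Set G)) :=
      hF.2.1.trans (inf_cent_le h.lK2.le ((zc_le_zl _ _).trans hVW) (le_normalizer_hul _ _))
    refine Or.inr ⟨X₁, hel, hn, hVW.trans hW, hU, hO, F, hFO, hVW.trans hWF, hF2, h.hA F hFO hF2, hQ, hm, ?_, hc, he⟩
    · intro hcon
      apply hm
      have hz1 := h.lK1.zl_le S h.ctx.char2
      intro x hx
      rw [mem_centralizer_iff]
      intro y hy
      exact ((mem_zc.1 (hz1 hy)).2.1 _ (hcon hx)).symm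

end FrX

/-- **`g ∈ N(R) ∩ N(B)` which centralises `z y` centralises `z` and `y`** -/
theorem FrX.sep {R B : Subgroup G} (spl : B ⊓ R = ⊥) {g z y : G}
    (hgR : g ∈ normalizer (R : Set G)) (hgB : g ∈ normalizer (B : Set G)) (hz : z ∈ R) (hy : y ∈ B)
    (hc : g * (z * y) = z * y * g) : g * z = z * g ∧ g * y = y * g := by
  have h1 : g * z * g⁻¹ ∈ R := (mem_normalizer_iff.1 hgR z).1 hz
  have h2 : g * y * g⁻¹ ∈ B := (mem_normalizer_iff.1 hgB y).1 hy
  have e1 : z⁻¹ * (g * z * g⁻¹) = y * (g * y * g⁻¹)⁻¹ := by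
    have e2 : g * z * g⁻¹ * (g * y * g⁻¹) = z * y := by
      calc g * z * g⁻¹ * (g * y * g⁻¹) = g * (z * y) * g⁻¹ := by group
        _ = z * y * g * g⁻¹ := by rw [hc]
        _ = z * y := by group
    calc z⁻¹ * (g * z * g⁻¹) = z⁻¹ * (g * z * g⁻¹ * (g * y * g⁻¹)) * (g * y * g⁻¹)⁻¹ := by group
      _ = z⁻¹ * (z * y) * (g * y * g⁻¹)⁻¹ := by rw [e2]
      _ = y * (g * y * g⁻¹)⁻¹ := by group
  have h3 : z⁻¹ * (g * z * g⁻¹) ∈ B ⊓ R :=
    ⟨by rw [e1]; exact B.mul_mem hy (B.inv_mem h2), R.mul_mem (R.inv_mem hz) h1⟩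
  rw [spl, mem_bot] at h3
  have h4 : g * z * g⁻¹ = z := (inv_mul_eq_one.1 h3).symm
  have h5 : g * y * g⁻¹ = y := by
    rw [h3] at e1
    exact (mul_inv_eq_one.1 e1.symm).symm
  exact ⟨mul_inv_eq_iff_eq_mul.1 h4, mul_inv_eq_iff_eq_mul.1 h5⟩

end Cfsg.Agent.Omega.NOThreeL.RZ.TwoC

end

section


/-!
# (beta) over the frame `FrX` (side 1 of THEOREM REL; #24309 (6), #24934, #25079, #25809)

* `QQ S R B J`, `BadG Q J Y` : helper820's literals (#26172);
* **`FrX.beta`** : the exit (beta) of `FrX.main` is impossible: helper127's `GInR` with `C = C_G(e)`, `T = S`, `A = F`,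
  `J = C_S(R)`, `M = X₁`, `Z = R ∩ Z(S)`, `Y = B`, and helper345's `InpR.false_of`.
-/

set_option autoImplicit false
set_option linter.unusedSectionVars false

namespace Cfsg.Agent.Omega.NOThreeL.RZ.TwoC.BetaX

open Subgroup Cfsg
open Cfsg.Agent.ZN (o2 zc zl jj)
open Cfsg.Agent.ZN.ChoiceBase hiding mem_zc
open Cfsg.Agent.Omega.ML.Final (MLK)
open Cfsg.Agent.Omega.ML.GMod (hul hul_le hul_le_of le_hul cj_le_hul le_normalizer_hul nc ri_mono
  normalizer_le_normalizer_o2)
open Cfsg.Agent.Omega.MinPar Cfsg.Agent.Omega.Frame Cfsg.Agent.Omega.FrameNOFF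
open Cfsg.Agent.Omega.NOThreeL.Star (YS le_YS S_le_YS zl_mono)
open Cfsg.Agent.Omega.NO3S.EThree.ExactA (eab_iff eab_mono)
open Cfsg.Agent.MinSimple.VModule (zc_le_zl le_normalizer_zl zl_le zc_le zc_sq zc_comm mem_zc le_centralizer_zc
  le_normalizer_o2 o2_isPGroup o2_le le_o2 normalizer_le_normalizer_zc)
open Cfsg.Agent.MinSimple.Basic (not_dvd_relIndex)
open Cfsg.Agent.MinSimple.MinParabolic (IsMinPar)
open Cfsg.Agent.Omega.NOThreeL.RZ.TwoC.Loc
open Cfsg.Agent.Omega.NOThreeL.RZ.TwoC.Alpha (zl_eq)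
open Cfsg.Agent.Omega.KL.StarR (GInR)

universe u

variable {G : Type u} [Group G]

/-- the odd elements to be tested: they permute the blocks and normalise `R`, `B`, `J` -/
def QQ (S R B J : Subgroup G) : Subgroup G :=
  (YS S ⊔ normalizer (S : Set G)) ⊓ normalizer (R : Set G) ⊓ normalizer (B : Set G) ⊓ normalizer (J : Set G)

/-- `d ∈ Q` of odd order with `[[Y, d], [J, d]] = 1` centralises `Y` -/
def BadG (Q J Y : Subgroup G) : Prop :=
  ∀ d ∈ Q, Odd (orderOf d) → (∀ j ∈ J, ∀ w ∈ Y,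
    (j * d * j⁻¹ * d⁻¹) * (d * w * d⁻¹ * w⁻¹) = (d * w * d⁻¹ * w⁻¹) * (j * d * j⁻¹ * d⁻¹)) → d ∈ centralizer (Y : Set G)

variable [Finite G] {S : Sylow 2 G} {R B X : Subgroup G} {e : G}

/-- `N_{K}(S) ≤ QQ` if `N_K(S)` normalises `R`, `B` -/
theorem nS_QQ {K C : Subgroup G} (hK : K ⊓ normalizer ((S : Subgroup G) : Set G) ≤ normalizer (R : Set G) ⊓
    normalizer (B : Set G)) (hC : C = R ∨ C = B) :
    K ⊓ normalizer ((S : Subgroup G) : Set G) ≤ QQ (S : Subgroup G) R B ((S : Subgroup G) ⊓ centralizer (C : Set G)) := by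
  intro n hn
  have h1 := hK hn
  have hCn : n ∈ normalizer (C : Set G) := by
    rcases hC with rfl | rfl
    · exact h1.1
    · exact h1.2
  refine ⟨⟨⟨(le_sup_right : normalizer ((S : Subgroup G) : Set G) ≤ _) hn.2, h1.1⟩, h1.2⟩, ?_⟩
  change n ∈ normalizer (((S : Subgroup G) ⊓ centralizer (C : Set G) : Subgroup G) : Set G)
  rw [mem_normalizer_iff_cj, cj_inf, cj_centralizer, cj_eq_of_mem_normalizer hn.2, cj_eq_of_mem_normalizer hCn]

/-- **(beta) is impossible.** -/
theorem _root_.Cfsg.Agent.Omega.NOThreeL.RZ.TwoC.FrX.beta (h : FrX S R B X e) (spl : B ⊓ R = ⊥) (hM : MLK.{u, u})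
    (hRp : NO3b.EndX.RedP.{u, u}) (hE : ML.Ex.Two.Ext.{u, u})
    (b1 : BadG (centralizer ({e} : Set G) ⊓ QQ (S : Subgroup G) R B ((S : Subgroup G) ⊓ centralizer (R : Set G)))
      ((S : Subgroup G) ⊓ centralizer (R : Set G)) B)
    {X₁ F : Subgroup G} (hel : IsElementaryAbelian 2 X₁) (hn : centralizer ({e} : Set G) ≤ normalizer (X₁ : Set G))
    (hV : zl (S : Subgroup G) (YS S) ≤ X₁) (hU : zl (S : Subgroup G) (centralizer ({e} : Set G)) ≤ X₁)
    (hFO : F ∈ AA (o2 (CZ (S : Subgroup G)))) (hFX : F ≤ o2 (centralizer (X : Set G)))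
    (hFR : F ≤ centralizer (R : Set G)) (hFB : F ≤ o2 (centralizer (B : Set G)))
    (hm : ¬ F ≤ centralizer (zl (S : Subgroup G) (centralizer ({e} : Set G)) : Set G))
    (hc : F ⊓ centralizer (zl (S : Subgroup G) (centralizer ({e} : Set G)) : Set G) ≤ centralizer (X₁ : Set G))
    (he : (centralizer (X₁ : Set G)).relIndex F = (centralizer (F : Set G)).relIndex X₁) : False := by
  have hSK : (S : Subgroup G) ≤ centralizer ({e} : Set G) := h.lK1.le
  have hFO' : F ≤ o2 (CZ (S : Subgroup G)) := hFO.2.1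
  have helF : IsElementaryAbelian 2 F := hFO.1
  have hFS : F ≤ (S : Subgroup G) := hFO'.trans o2C_le
  have hzV : zc (S : Subgroup G) ≤ zl (S : Subgroup G) (YS S) := zc_le_zl _ _
  have hSB : (S : Subgroup G) ≤ normalizer (B : Set G) := h.S_le_ys.trans h.nB
  have hPar : ∀ P : Subgroup G, IsMinPar (S : Subgroup G) P → P ≤ centralizer ({e} : Set G) →
      P ≤ centralizer ((R ⊓ zc (S : Subgroup G) : Subgroup G) : Set G) ∨
        (∀ g ∈ P, Odd (orderOf g) → g ∈ centralizer (B : Set G)) ∨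
        (F ≤ o2 P ∧ (S : Subgroup G) ⊓ centralizer (R : Set G) ≤ o2 P ∧
          P ≤ QQ (S : Subgroup G) R B ((S : Subgroup G) ⊓ centralizer (R : Set G))) := by
    intro P hP0 hPH
    have hP := h.lK1.isPar S hP0 hPH
    rcases h.le_of_par hP with h1 | ⟨h1, h2⟩
    · exact Or.inl (h1.trans (centralizer_le inf_le_right))
    rcases h.alt h1 with h3 | h3
    · refine Or.inr (Or.inr ⟨h.le_o2_one hFO' hFR hFX hP, h3, ?_⟩)
      exact le_inf (le_inf (le_inf (h2.trans le_sup_left) (h2.trans h.nR)) (h2.trans h.nB)) (h.nJ h1 h3)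
    · left
      rw [← h3]
      refine sup_le (inf_le_right.trans (centralizer_le inf_le_left)) ?_
      exact (le_CZ S).trans (centralizer_le inf_le_right)
  have hno : ∀ D : Subgroup G, D ≤ F →
      (centralizer (X₁ : Set G)).relIndex D ≤ (centralizer (D : Set G)).relIndex X₁ := by
    intro D hD
    have h1 := gml hM h.ctx h.lK1 (h.kg h.lK1) (hD.trans hFO') (eab_iff.1 (eab_mono helF hD)).2
    have h2 : (centralizer (X₁ : Set G)).relIndex D =
        (centralizer (zl (S : Subgroup G) (centralizer ({e} : Set G)) : Set G)).relIndex D := by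
      rw [← inf_relIndex_left (H := D) (K := centralizer (X₁ : Set G)), ← inf_relIndex_left (H := D)
        (K := centralizer (zl (S : Subgroup G) (centralizer ({e} : Set G)) : Set G))]
      congr 1
      refine le_antisymm (inf_le_inf_left _ (centralizer_le hU)) (le_inf inf_le_left ?_)
      exact (inf_le_inf_right _ hD).trans hc
    rw [h2]
    exact h1.trans (ri_mono _ hU)
  have hg : GInR (centralizer ({e} : Set G)) (S : Subgroup G) F ((S : Subgroup G) ⊓ centralizer (R : Set G))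
      (QQ (S : Subgroup G) R B ((S : Subgroup G) ⊓ centralizer (R : Set G))) X₁ (R ⊓ zc (S : Subgroup G))
      (zc (S : Subgroup G)) B :=
    { CM := hn
      sqM := (eab_iff.1 hel).2
      TC := hSK
      two := S.isPGroup'
      syl := not_dvd_relIndex S hSK
      ZM := inf_le_right.trans (hzV.trans hV)
      ZM' := hzV.trans hV
      YM := h.BV.trans hV
      TZ := (le_CZ S).trans (centralizer_le inf_le_right)
      TZ' := le_CZ S
      NZ := by
        intro n hn'
        rw [mem_normalizer_iff_cj, cj_inf, cj_eq_of_mem_normalizer (h.sE hn').1,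
          cj_eq_of_mem_normalizer (normalizer_le_normalizer_zc _ hn'.2)]
      NQ := nS_QQ h.sE (Or.inl rfl)
      QY := fun q hq => hq.2.1.2
      QJ := fun q hq => hq.2.2
      JT := inf_le_left
      AT := hFS
      par := hPar
      sep := fun g _ hg _ z hz y hy hgz => (FrX.sep spl hg.1.1.2 hg.1.2 hz.1 hy hgz).1
      hb := Or.inl fun d hd hQ ho hj => b1 d ⟨hd, hQ⟩ ho hj
      sqA := (eab_iff.1 helF).2
      AZ := by
        exact hFX.trans (o2_le_o2 S (le_inf hSK ((le_CZ S).trans (centralizer_le inf_le_right)))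
          (inf_le_right.trans (centralizer_le (le_inf h.XR h.XZ))))
      AY := by
        have e1 : centralizer ({e} : Set G) ⊓ centralizer (B : Set G) = centralizer (B : Set G) := inf_eq_right.2 h.BK
        rw [e1]
        refine hFB.trans (le_o2 ((o2_le _).trans le_sup_left) (o2_isPGroup _) ?_)
        exact sup_le (le_normalizer_o2 _) ((hSB.trans (nc _)).trans (normalizer_le_normalizer_o2 _))
      nk := by
        rw [zl_eq]
        exact hc
      mv := fun hcon => hm (hcon.trans (centralizer_le hU))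
      no := hno
      le := he.ge
      K := h.kg h.lK1 }
  obtain ⟨_, _, _, _, _, _, _, _, _, _, _, _, _, hI⟩ := hg.inpR
  exact hI.false_of hM hRp hE

end Cfsg.Agent.Omega.NOThreeL.RZ.TwoC.BetaX

end
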