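import Cfsg.Agent.Mrg.Omega.NOThreeL.RZ.TwoC.FrEOf
import Cfsg.Agent.Mrg.Omega.NOThreeL.RZ.TwoC.AbP
import Cfsg.Agent.Mrg.Omega.NOThreeL.RRed.EOneTr
import Cfsg.Agent.Mrg.Omega.NOThreeL.RZ.TwoC.EndV
import Cfsg.Agent.Mrg.Omega.HOne.PairP

section


/-!
# [R-z], nonsplit (helper855 #26560, helper878, helper133 #25243): the frame `FrP` for `B = [V*, D]`, block-free

`V* = ⟨Z^Y⟩`, `Y = ⟨P*(S)⟩`, `D ≤ Y` normalised by `Y` and `N_G(S)`.

* `exa_of_AA` : `V* ≤ O`, no over-offenders: every `A ∈ AA(O)` is exact on `V*`;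
* `low_of` : `C_Z(D) ≠ 1`, `1 ≠ e ∈ Z`, `Y = D C_Y(e)`, `[V*, D] ≤ ⟨Z^D⟩` imply `V* ≤ O₂(C_G(Z))`;
* `frP_of` : all fields of `FrP S R [V*, D] e` for every `R ≤ V*` which is centralised by `D` and by the exact
  offenders of `S`.
-/

set_option autoImplicit false
set_option linter.unusedSectionVars false

namespace Cfsg.Agent.Omega.NOThreeL.RZ.TwoC.FrPOf

open Subgroup Cfsg
open Cfsg.Agent.ZN (o2 zc zl jj)
open Cfsg.Agent.ZN.ChoiceBase hiding mem_zc
open Cfsg.Agent.Omega.ML.GMod (hul hul_le hul_le_of le_hul cj_le_hul le_normalizer_hul nc)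
open Cfsg.Agent.Omega.MinPar Cfsg.Agent.Omega.Frame Cfsg.Agent.Omega.FrameNOFF
open Cfsg.Agent.Omega.FFThm (ElemM OffM NoOverM)
open Cfsg.Agent.Omega.NO1.BestOff (Best exists_best)
open Cfsg.Agent.Omega.NO3b.Bang (le_normalizer_sup cent_symm)
open Cfsg.Agent.Omega.NOThreeL.Star (YS le_YS S_le_YS zl_mono)
open Cfsg.Agent.Omega.NO3S.EThree.ExactA (eab_iff eab_mono)
open Cfsg.Agent.MinSimple.VModule (zc_le_zl le_normalizer_zl zl_le zc_le zc_sq mem_zc le_centralizer_zc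
  le_normalizer_o2 o2_isPGroup o2_le le_o2 normalizer_le_normalizer_zc)
open Cfsg.Agent.Omega.NOThreeL.RTree (RB)
open Cfsg.Agent.Omega.NOThreeL.RZ (norm_cent norm_V_of norm_commutator_of V_le_of le_norm_V V_mono)
open Cfsg.Agent.Omega.NOThreeL.RRed (Exa)
open Cfsg.Agent.Omega.NOThreeL.RRed.EOne (Vstar_eqD VC Vsq S_YS VS comm_leD VcZ_cent VcZ_le norm_commD)

universe u

variable {G : Type u} [Group G] [Finite G] {S : Sylow 2 G} {D R : Subgroup G} {e : G}

/-- **Every `A ∈ AA(O)` is exact on `V`**, if `V ≤ O` and there are no over-offenders. -/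
theorem exa_of_AA {O V L A : Subgroup G} (hV : IsElementaryAbelian 2 V) (hVO : V ≤ O) (hA : A ∈ AA O) (hAL : A ≤ L)
    (no : NoOverM V L) : ElemM V A ∧ Exa V A := by
  have hb := FrEOf.best_of_mem hV hVO hA
  refine ⟨hb.toElemM, ?_⟩
  have h1 := hb.max (A ⊓ centralizer (V : Set G)) inf_le_left le_rfl
  have h2 : V ⊓ centralizer ((A ⊓ centralizer (V : Set G) : Subgroup G) : Set G) = V :=
    inf_eq_left.2 (cent_symm inf_le_right)
  rw [h2] at h1
  have h3 := no A hAL hb.toElemM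
  unfold Exa
  refine le_antisymm ?_ h3
  rwa [mul_comm] at h1

/-- **`V* ≤ O₂(C_G(Z))`** -/
theorem low_of (h : RB S) (hY : YS (S : Subgroup G) ≤ normalizer (D : Set G)) (hD : D ≤ YS (S : Subgroup G))
    (hZ : zc (S : Subgroup G) ⊓ centralizer (D : Set G) ≠ ⊥) (eZ : e ∈ zc (S : Subgroup G)) (e1 : e ≠ 1)
    (tr : YS (S : Subgroup G) ≤ D ⊔ (YS (S : Subgroup G) ⊓ centralizer ({e} : Set G)))
    (gen : (⁅zl (S : Subgroup G) (YS S), D⁆ : Subgroup G) ≤ hul (zc (S : Subgroup G)) D) :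
    zl (S : Subgroup G) (YS S) ≤ o2 (CZ (S : Subgroup G)) := by
  set R₀ : Subgroup G := NoFF.Basic.V (zc (S : Subgroup G) ⊓ centralizer (D : Set G)) (YS (S : Subgroup G)) with hR₀
  have hRD : R₀ ≤ centralizer (D : Set G) := VcZ_cent hY
  have hDR : D ≤ centralizer (R₀ : Set G) := cent_symm hRD
  have hZR : zc (S : Subgroup G) ⊓ centralizer (D : Set G) ≤ R₀ ⊓ zc (S : Subgroup G) :=
    le_inf (RZ.Z_le _ _) inf_le_left
  have hRV : R₀ ≤ zl (S : Subgroup G) (YS S) := VcZ_le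
  have ne : R₀ ⊓ zc (S : Subgroup G) ≠ ⊥ := fun h0 => hZ (le_bot_iff.1 (h0 ▸ hZR))
  refine LowP.low_star (R := R₀) (B := (⁅zl (S : Subgroup G) (YS S), D⁆ : Subgroup G)) h.ctx.char2 (le_norm_V _ _)
    (S.isPGroup'.to_le (hRV.trans (VS h))) (V_mono hZR le_rfl) ne eZ e1 ?_ (gen.trans ?_) (Vstar_eqD h hY hD).le
  · exact tr.trans (sup_le ((le_inf hD hDR).trans le_sup_left) le_sup_right)
  · exact hul_le_of (le_hul _ _) (hDR.trans (le_normalizer_hul _ _))

/-- **The frame `FrP S R [V*, D] e`.** -/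
theorem frP_of (h : RB S) (hY : YS (S : Subgroup G) ≤ normalizer (D : Set G)) (hD : D ≤ YS (S : Subgroup G))
    (nD : normalizer ((S : Subgroup G) : Set G) ≤ normalizer (D : Set G))
    (hZ : zc (S : Subgroup G) ⊓ centralizer (D : Set G) ≠ ⊥) (eZ : e ∈ zc (S : Subgroup G))
    (eB : e ∈ (⁅zl (S : Subgroup G) (YS S), D⁆ : Subgroup G)) (e1 : e ≠ 1)
    (tr : YS (S : Subgroup G) ≤ D ⊔ (YS (S : Subgroup G) ⊓ centralizer ({e} : Set G)))
    (gen : (⁅zl (S : Subgroup G) (YS S), D⁆ : Subgroup G) ≤ hul (zc (S : Subgroup G)) D)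
    (no : NoOverM (zl (S : Subgroup G) (YS S)) (YS (S : Subgroup G)))
    (RV : R ≤ zl (S : Subgroup G) (YS S)) (nR : YS (S : Subgroup G) ≤ normalizer (R : Set G))
    (nSR : normalizer ((S : Subgroup G) : Set G) ≤ normalizer (R : Set G)) (RD : R ≤ centralizer (D : Set G))
    (ne : R ⊓ zc (S : Subgroup G) ≠ ⊥)
    (hex : ∀ A ≤ (S : Subgroup G), ElemM (zl (S : Subgroup G) (YS S)) A → Exa (zl (S : Subgroup G) (YS S)) A →
      A ≤ centralizer (R : Set G)) :
    FrP S R (⁅zl (S : Subgroup G) (YS S), D⁆ : Subgroup G) e := by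
  have low := low_of h hY hD hZ eZ e1 tr gen
  have hsq : ∀ v ∈ zl (S : Subgroup G) (YS S), v ^ 2 = 1 := Vsq h
  have nB : normalizer ((S : Subgroup G) : Set G) ≤
      normalizer ((⁅zl (S : Subgroup G) (YS S), D⁆ : Subgroup G) : Set G) := norm_commutator_of RZ.Frm.nS_Vs nD
  exact
    { ctx := h.ctx
      full := h.full
      nR := nR
      nB := norm_commD hY
      sE := inf_le_right.trans (le_inf nSR nB)
      sZ := inf_le_right.trans (le_inf nSR nB)
      RV := RV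
      BV := comm_leD hD
      ne := ne
      hA := fun A hA => by
        have hAS : A ≤ (S : Subgroup G) := hA.2.1.trans Loc.o2C_le
        obtain ⟨h1, h2⟩ := exa_of_AA (eab_iff.2 ⟨VC h, hsq⟩) low hA (hAS.trans (S_YS h)) no
        exact hex A hAS h1 h2
      low := low
      vc := VC h
      vs := hsq
      eZ := eZ
      eB := eB
      e1 := e1
      tr := tr.trans (sup_le ((le_inf hD (cent_symm RD)).trans le_sup_left) le_sup_right) }

end Cfsg.Agent.Omega.NOThreeL.RZ.TwoC.FrPOf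

end

section


/-!
# The frame of `AbV.lean` with a variable group `Y` instead of `⟨P*(S)⟩` (bb #27002, #25865, #25243)

`S ≤ Y` normalises `R` and `B`, `V = ⟨Z^Y⟩`; every `P ∈ P*(S)` which centralises `e` or `Z₀` lies in `Y`; `N(S) ∩ C(e)` and
`N(S) ∩ C(Z₀)` normalise `R`, `B`, `Y`; no `2`-group `≠ 1` is normalised by `C_G(e)` and `C_Y(R)`.

* `FrY S Y R B Z₀ e` : the frame;  **`FrY.main`** : (alpha) or (beta);
* `FrY.altX`, `FrY.le_o2_one`, `FrY.le_o2_two`, `FrY.sep`.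
-/

set_option autoImplicit false
set_option linter.unusedSectionVars false

namespace Cfsg.Agent.Omega.NOThreeL.RZ.TwoC

open Subgroup Cfsg
open Cfsg.Agent.ZN (o2 zc zl jj)
open Cfsg.Agent.ZN.ChoiceBase hiding mem_zc
open Cfsg.Agent.Omega.ML.Final (MLK)
open Cfsg.Agent.Omega.ML.GMod (hul hul_le hul_le_of le_hul cj_le_hul le_normalizer_hul nc ri_mono
  normalizer_le_normalizer_o2)
open Cfsg.Agent.Omega.MinPar Cfsg.Agent.Omega.Frame Cfsg.Agent.Omega.FrameNOFF
open Cfsg.Agent.Omega.NO3b.Bang (le_normalizer_sup cent_symm)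
open Cfsg.Agent.Omega.NOThreeL.Star (YS le_YS S_le_YS zl_mono)
open Cfsg.Agent.Omega.NO3S.EThree.ExactA (eab_iff eab_mono)
open Cfsg.Agent.Omega.EK3.Rank (NoOn)
open Cfsg.Agent.Omega.NoFF.Basic (comm_symm)
open Cfsg.Agent.Omega.GI (relIndex_congr relIndex_sup_of_comm)
open Cfsg.Agent.MinSimple.VModule (zc_le_zl le_normalizer_zl zl_le zc_le zc_sq zc_comm mem_zc le_centralizer_zc
  le_normalizer_o2 o2_isPGroup o2_le le_o2 normalizer_le_normalizer_zc)
open Cfsg.Agent.Omega.NOThreeL.RZ.TwoC.Loc (gml o2C_le inf_cent_le norm_inf)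
open Cfsg.Agent.Omega.NOThreeL.RZ.TwoC.SideP (NoA TwoP)

universe u

variable {G : Type u} [Group G]

/-- **The frame.** -/
structure FrY [Finite G] (S : Sylow 2 G) (Y R B Z₀ : Subgroup G) (e : G) : Prop where
  ctx : Ctx G
  SY : (S : Subgroup G) ≤ Y
  nR : Y ≤ normalizer (R : Set G)
  nB : Y ≤ normalizer (B : Set G)
  sE : centralizer ({e} : Set G) ⊓ normalizer ((S : Subgroup G) : Set G) ≤
    normalizer (R : Set G) ⊓ normalizer (B : Set G) ⊓ normalizer (Y : Set G)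
  sZ : centralizer (Z₀ : Set G) ⊓ normalizer ((S : Subgroup G) : Set G) ≤
    normalizer (R : Set G) ⊓ normalizer (B : Set G) ⊓ normalizer (Y : Set G)
  parY : ∀ P, IsParS (S : Subgroup G) P → (P ≤ centralizer ({e} : Set G) ∨ P ≤ centralizer (Z₀ : Set G)) → P ≤ Y
  RV : R ≤ zl (S : Subgroup G) Y
  BV : B ≤ zl (S : Subgroup G) Y
  Z0R : Z₀ ≤ R ⊓ zc (S : Subgroup G)
  ne : Z₀ ≠ ⊥
  hA : ∀ A ∈ AA (o2 (CZ (S : Subgroup G))), A ≤ o2 (centralizer (Z₀ : Set G)) → A ≤ centralizer (R : Set G)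
  low : zl (S : Subgroup G) Y ≤ o2 (CZ (S : Subgroup G))
  vc : zl (S : Subgroup G) Y ≤ centralizer (zl (S : Subgroup G) Y : Set G)
  vs : ∀ v ∈ zl (S : Subgroup G) Y, v ^ 2 = 1
  eZ : e ∈ zc (S : Subgroup G)
  eB : e ∈ B
  e1 : e ≠ 1
  nl : ∀ U : Subgroup G, IsPGroup 2 U → centralizer ({e} : Set G) ≤ normalizer (U : Set G) →
    Y ⊓ centralizer (R : Set G) ≤ normalizer (U : Set G) → U = ⊥
  spl : B ⊓ R = ⊥

namespace FrY

variable [Finite G] {S : Sylow 2 G} {Y R B Z₀ : Subgroup G} {e : G} (h : FrY S Y R B Z₀ e)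
include h

theorem S_le_ys : (S : Subgroup G) ≤ Y := h.SY

theorem vel : IsElementaryAbelian 2 (zl (S : Subgroup G) Y) := eab_iff.2 ⟨h.vc, h.vs⟩

theorem vS : zl (S : Subgroup G) Y ≤ (S : Subgroup G) := h.low.trans o2C_le

theorem R2 : IsPGroup 2 R := S.isPGroup'.to_le (h.RV.trans h.vS)

theorem R1 : R ≠ ⊥ := fun e => h.ne (le_bot_iff.1 (e ▸ h.Z0R.trans inf_le_left))

theorem zc_ne : zc (S : Subgroup G) ≠ ⊥ := MinSimple.Basic.zc_ne_bot S.isPGroup' (h.ctx.sylow_ne_bot S)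

theorem kg {X : Subgroup G} (hL : IsLoc (S : Subgroup G) X) : IsKGroup X :=
  ML.GNN.kgroup_of_isLoc h.ctx h.ctx.not_isPGroup hL

/-! ### `K₁`, `K₂` -/

theorem C1 : CZ (S : Subgroup G) ≤ centralizer ({e} : Set G) := centralizer_le (Set.singleton_subset_iff.2 h.eZ)

theorem C2 : CZ (S : Subgroup G) ≤ centralizer (Z₀ : Set G) :=
  centralizer_le (h.Z0R.trans inf_le_right)

theorem lK1 : IsLoc (S : Subgroup G) (centralizer ({e} : Set G)) := RZ.LowR.isLoc_cent h.eZ h.e1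

theorem lK2 : IsLoc (S : Subgroup G) (centralizer (Z₀ : Set G)) :=
  isLoc_of_le_normalizer S ((le_CZ S).trans h.C2) (h.R2.to_le (h.Z0R.trans inf_le_left)) h.ne (centralizer_le_normalizer _)

theorem RK : centralizer (R : Set G) ≤ centralizer (Z₀ : Set G) :=
  centralizer_le (h.Z0R.trans inf_le_left)

/-- `Y C_G(R)` is local -/
theorem lX : IsLoc (S : Subgroup G) (Y ⊔ centralizer (R : Set G)) :=
  isLoc_of_le_normalizer S (h.S_le_ys.trans le_sup_left) h.R2 h.R1 (sup_le h.nR (centralizer_le_normalizer _))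

/-- `P ∈ P(S)`, `P ≤ K₁` or `P ≤ K₂` is in `C` or in `Y` -/
theorem le_of_par {P : Subgroup G} (hP : IsPar (S : Subgroup G) P)
    (hK : P ≤ centralizer ({e} : Set G) ∨ P ≤ centralizer (Z₀ : Set G)) : P ≤ CZ (S : Subgroup G) ∨
    (IsParS (S : Subgroup G) P ∧ P ≤ Y) := by
  by_cases hz : P ≤ normalizer (zc (S : Subgroup G) : Set G)
  · exact Or.inl (Nz.le_centralizer_of hP hz)
  · exact Or.inr ⟨⟨hP, hz⟩, h.parY P ⟨hP, hz⟩ hK⟩

/-! ### `V* ≤ A` -/

/-- **`O₂(C_G(R))` centralises `V*`** -/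
theorem QR_cent : o2 (centralizer (R : Set G)) ≤ centralizer (zl (S : Subgroup G) Y : Set G) := by
  have hn : Y ≤ normalizer (o2 (centralizer (R : Set G)) : Set G) :=
    (h.nR.trans (nc _)).trans (normalizer_le_normalizer_o2 _)
  have hS : o2 (centralizer (R : Set G)) ≤ (S : Subgroup G) :=
    le_of_le_normalizer S (o2_isPGroup _) (h.S_le_ys.trans hn)
  refine comm_symm (zl_le (comm_symm (hS.trans (le_CZ S))) ?_)
  exact hn.trans (nc _)

/-- `O₂(K) ∩ C_G(R) ≤ O₂(C_G(R))` for `K ≥ C_G(R)` -/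
theorem inf_le_QR {K : Subgroup G} (hK : centralizer (R : Set G) ≤ K) :
    o2 K ⊓ centralizer (R : Set G) ≤ o2 (centralizer (R : Set G)) :=
  le_o2 inf_le_right ((o2_isPGroup _).to_le inf_le_left)
    (le_trans (le_inf (hK.trans (le_normalizer_o2 _)) Subgroup.le_normalizer) inf_normalizer_le_normalizer_inf)

theorem inf_le_QB {K : Subgroup G} (hK : centralizer (B : Set G) ≤ K) :
    o2 K ⊓ centralizer (B : Set G) ≤ o2 (centralizer (B : Set G)) :=
  le_o2 inf_le_right ((o2_isPGroup _).to_le inf_le_left)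
    (le_trans (le_inf (hK.trans (le_normalizer_o2 _)) Subgroup.le_normalizer) inf_normalizer_le_normalizer_inf)

theorem BK : centralizer (B : Set G) ≤ centralizer ({e} : Set G) :=
  centralizer_le (Set.singleton_subset_iff.2 h.eB)

/-- `NR = ⟨Z^{Y C_G(R)}⟩ ≤ W₂` -/
theorem NR_le : zl (S : Subgroup G) (Y ⊔ centralizer (R : Set G)) ≤
    hul (zl (S : Subgroup G) Y) (centralizer (Z₀ : Set G)) := by
  refine le_trans (zl_le ((zc_le_zl _ _).trans (le_hul (zl (S : Subgroup G) Y) (centralizer (R : Set G)))) ?_)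
    (hul_mono h.RK)
  exact sup_le (norm_hul (le_normalizer_zl _ _) (h.nR.trans (nc _))) (le_normalizer_hul _ _)

variable (hM : MLK.{u, u})
include hM

/-- every `A ∈ AA(C_O(⟨Z^{K₂}⟩))` centralises `V*` -/
theorem cent_V {A : Subgroup G} (hA : A ∈ AA (o2 (CZ (S : Subgroup G)) ⊓
    centralizer (zl (S : Subgroup G) (centralizer (Z₀ : Set G)) : Set G))) :
    A ≤ centralizer (zl (S : Subgroup G) Y : Set G) := by
  have hU := h.lK2.zl_le S h.ctx.char2
  have hO2 : o2 (centralizer (Z₀ : Set G)) ≤ o2 (CZ (S : Subgroup G)) :=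
    o2_le_o2 S (le_CZ S) h.C2
  have hel : IsElementaryAbelian 2 (zl (S : Subgroup G) (centralizer (Z₀ : Set G))) :=
    eab_iff.2 ⟨fun x hx => mem_centralizer_iff.2 fun y hy => zc_comm _ _ (hU hy) _ (hU hx), fun x hx => zc_sq _ _ (hU hx)⟩
  have h1 : A ∈ AA (o2 (CZ (S : Subgroup G))) :=
    EK3.Rank.mem_AA_of_inf hel ((hU.trans (zc_le _)).trans hO2)
      (fun A' hel' hA' => gml hM h.ctx h.lK2 (h.kg h.lK2) hA' (eab_iff.1 hel').2) hA
  have h2 : A ≤ o2 (centralizer (Z₀ : Set G)) :=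
    hA.2.1.trans (inf_cent_le h.lK2.le (zc_le_zl _ _) (le_normalizer_zl _ _))
  exact ((le_inf h2 (h.hA A h1 h2)).trans (h.inf_le_QR h.RK)).trans h.QR_cent

/-- `W₂`: contained in every `A ∈ AA(C_O(⟨Z^{K₂}⟩))`, elementary abelian, `≤ O`, `(NO)` -/
theorem W2 :
    (∀ A ∈ AA (o2 (CZ (S : Subgroup G)) ⊓
      centralizer (zl (S : Subgroup G) (centralizer (Z₀ : Set G)) : Set G)),
      hul (zl (S : Subgroup G) Y) (centralizer (Z₀ : Set G)) ≤ A) ∧
    IsElementaryAbelian 2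
      (hul (zl (S : Subgroup G) Y) (centralizer (Z₀ : Set G))) ∧
    hul (zl (S : Subgroup G) Y) (centralizer (Z₀ : Set G)) ≤
      o2 (CZ (S : Subgroup G)) ∧
    NoA (o2 (CZ (S : Subgroup G)))
      (hul (zl (S : Subgroup G) Y) (centralizer (Z₀ : Set G))) := by
  have hU := h.lK2.zl_le S h.ctx.char2
  have hO2 : o2 (centralizer (Z₀ : Set G)) ≤ o2 (CZ (S : Subgroup G)) :=
    o2_le_o2 S (le_CZ S) h.C2
  refine SideP.noA_hul (U := zl (S : Subgroup G) (centralizer (Z₀ : Set G)))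
    (eab_iff.2 ⟨fun x hx => mem_centralizer_iff.2 fun y hy => zc_comm _ _ (hU hy) _ (hU hx),
      fun x hx => zc_sq _ _ (hU hx)⟩) ((hU.trans (zc_le _)).trans hO2)
    (fun A hA => gml hM h.ctx h.lK2 (h.kg h.lK2) hA.2.1 (eab_iff.1 hA.1).2)
    (norm_inf h.C2 (zc_le_zl _ _) (le_normalizer_zl _ _)) h.vel h.low ?_ fun A hA => h.cent_V hM hA
  exact zl_le ((zc_le_zl _ _).trans (le_hul _ _)) (le_normalizer_hul _ _)

/-- **The two sides.** -/
theorem twoP :
    TwoP (o2 (CZ (S : Subgroup G))) (CZ (S : Subgroup G)) (centralizer ({e} : Set G))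
      (centralizer (Z₀ : Set G))
      ((centralizer ({e} : Set G) ⊓ Y) ⊔
        (centralizer ({e} : Set G) ⊓ normalizer ((S : Subgroup G) : Set G)))
      (Y ⊓ centralizer (R : Set G))
      (zl (S : Subgroup G) (centralizer ({e} : Set G)))
      (hul (zl (S : Subgroup G) Y) (centralizer (Z₀ : Set G)))
      (zl (S : Subgroup G) (Y ⊔ centralizer (R : Set G)))
      (o2 (centralizer (B : Set G))) := by
  have hO1 : o2 (centralizer ({e} : Set G)) ≤ o2 (CZ (S : Subgroup G)) := o2_le_o2 S (le_CZ S) h.C1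
  have hz1 := h.lK1.zl_le S h.ctx.char2
  have hVW : zl (S : Subgroup G) Y ≤
      hul (zl (S : Subgroup G) Y) (centralizer (Z₀ : Set G)) := le_hul _ _
  obtain ⟨_, w1, w2, w3⟩ := h.W2 hM
  exact
  { D1 := h.C1
    D2 := h.C2
    e1 := sup_le inf_le_left inf_le_left
    g1 := by
      refine h.lK1.le_of_forall S (le_sup_right.trans le_sup_right) fun P hP hPK => ?_
      rcases h.le_of_par hP (Or.inl hPK) with h1 | h1
      · exact h1.trans le_sup_left
      · exact ((le_inf hPK h1.2).trans le_sup_left).trans le_sup_right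
    e2 := inf_le_right.trans h.RK
    el1 := eab_iff.2 ⟨fun x hx => mem_centralizer_iff.2 fun y hy => zc_comm _ _ (hz1 hy) _ (hz1 hx),
      fun x hx => zc_sq _ _ (hz1 hx)⟩
    el2 := w1
    UO := (hz1.trans (zc_le _)).trans hO1
    WO := w2
    KU := le_normalizer_zl _ _
    KW := le_normalizer_hul _ _
    q1 := norm_inf h.C1 (zc_le_zl _ _) (le_normalizer_zl _ _)
    q2 := norm_inf h.C2 ((zc_le_zl _ _).trans hVW) (le_normalizer_hul _ _)
    core1 := by
      intro X hX hn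
      have h1 : X ≤ o2 (centralizer ({e} : Set G)) := le_o2 (hX.trans ((o2_le _).trans h.C1)) ((o2_isPGroup _).to_le hX) hn
      intro x hx
      rw [mem_centralizer_iff]
      intro y hy
      exact ((mem_zc.1 (hz1 hy)).2.1 _ (h1 hx)).symm
    no1 := fun A hA => gml hM h.ctx h.lK1 (h.kg h.lK1) hA.2.1 (eab_iff.1 hA.1).2
    no2 := w3
    RW := h.NR_le
    ER := by
      refine sup_le (inf_le_right.trans (le_sup_left.trans (le_normalizer_zl _ _))) ?_
      intro n hn'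
      have hn := hn'.2
      have hnR := (h.sE hn').1.1
      have hnY := (h.sE hn').2
      have h1 : cj n (zl (S : Subgroup G) (Y ⊔ centralizer (R : Set G))) =
          zl (cj n (S : Subgroup G)) (cj n (Y ⊔ centralizer (R : Set G))) :=
        (MinSimple.CosetFam.zl_conj n _ _).symm
      rw [mem_normalizer_iff_cj, h1, cj_eq_of_mem_normalizer hn,
        cj_eq_of_mem_normalizer (le_normalizer_sup (A := zpowers n) (by rw [zpowers_le]; exact hnY)
          (by rw [zpowers_le]; exact nc _ hnR) (mem_zpowers n))]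
    noR := fun A hA => gml hM h.ctx h.lX (h.kg h.lX) (hA.2.1.trans inf_le_left) (eab_iff.1 hA.1).2
    qB := by
      refine le_trans (le_inf ?_ ?_) (h.inf_le_QB h.BK)
      · exact inf_le_left.trans (inf_cent_le h.lK1.le (zc_le_zl _ _) (le_normalizer_zl _ _))
      · exact inf_le_right.trans (centralizer_le (h.BV.trans hVW))
    EQ := (inf_le_left.trans h.nB).trans ((nc _).trans (normalizer_le_normalizer_o2 _))
    nonloc := fun X hX h1 h2 => h.nl X ((o2_isPGroup _).to_le hX) h1 h2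
    ne := fun e => h.zc_ne (le_bot_iff.1 (e ▸ zc_le_zl _ _)) }

/-- **(alpha) or (beta).** -/
theorem main :
    (∃ A ∈ AA (o2 (CZ (S : Subgroup G))), zl (S : Subgroup G) (centralizer ({e} : Set G)) ≤ A ∧
      A ≤ o2 (centralizer ({e} : Set G)) ∧ ∃ F : Subgroup G, F ≤ A ∧ F ≤ o2 (centralizer (R : Set G)) ∧
      ¬ F ≤ centralizer
        (hul (zl (S : Subgroup G) Y) (centralizer (Z₀ : Set G)) : Set G) ∧
      (centralizer (hul (zl (S : Subgroup G) Y)
        (centralizer (Z₀ : Set G)) : Set G)).relIndex F =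
        (centralizer (F : Set G)).relIndex
          (hul (zl (S : Subgroup G) Y) (centralizer (Z₀ : Set G)))) ∨
    (∃ X₁ : Subgroup G, IsElementaryAbelian 2 X₁ ∧ centralizer ({e} : Set G) ≤ normalizer (X₁ : Set G) ∧
      zl (S : Subgroup G) Y ≤ X₁ ∧ zl (S : Subgroup G) (centralizer ({e} : Set G)) ≤ X₁ ∧
      X₁ ≤ o2 (CZ (S : Subgroup G)) ∧
      ∃ F ∈ AA (o2 (CZ (S : Subgroup G))), zl (S : Subgroup G) Y ≤ F ∧
        F ≤ o2 (centralizer (Z₀ : Set G)) ∧
        F ≤ o2 (centralizer (B : Set G)) ∧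
        ¬ F ≤ centralizer (zl (S : Subgroup G) (centralizer ({e} : Set G)) : Set G) ∧
        ¬ F ≤ o2 (centralizer ({e} : Set G)) ∧
        F ⊓ centralizer (zl (S : Subgroup G) (centralizer ({e} : Set G)) : Set G) ≤ centralizer (X₁ : Set G) ∧
        (centralizer (X₁ : Set G)).relIndex F = (centralizer (F : Set G)).relIndex X₁) := by
  have D := h.twoP hM
  have hVW : zl (S : Subgroup G) Y ≤
      hul (zl (S : Subgroup G) Y) (centralizer (Z₀ : Set G)) := le_hul _ _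
  rcases D.main with ⟨A, hA, hAO, hU, hm, he⟩ | ⟨X₁, _, hel, hn, hW, hU, hO, _, _, F, hF, hFO, hWF, hQ, hm, hc, he⟩
  · refine Or.inl ⟨A, hAO, hU, hA.2.1.trans (inf_cent_le h.lK1.le (zc_le_zl _ _) (le_normalizer_zl _ _)), _,
      inf_le_left, ?_, hm, he⟩
    have h1 : A ⊓ centralizer (zl (S : Subgroup G) (Y ⊔ centralizer (R : Set G)) : Set G) ≤
        o2 (Y ⊔ centralizer (R : Set G)) :=
      (inf_le_inf_right _ hAO.2.1).trans (inf_cent_le h.lX.le (zc_le_zl _ _) (le_normalizer_zl _ _))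
    exact (le_inf h1 (inf_le_right.trans (centralizer_le (h.RV.trans (zl_mono le_sup_left))))).trans
      (h.inf_le_QR le_sup_right)
  · refine Or.inr ⟨X₁, hel, hn, hVW.trans hW, hU, hO, F, hFO, hVW.trans hWF, ?_, hQ, hm, ?_, hc, he⟩
    · exact hF.2.1.trans (inf_cent_le h.lK2.le ((zc_le_zl _ _).trans hVW) (le_normalizer_hul _ _))
    · intro hcon
      apply hm
      have hz1 := h.lK1.zl_le S h.ctx.char2
      intro x hx
      rw [mem_centralizer_iff]
      intro y hy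
      exact ((mem_zc.1 (hz1 hy)).2.1 _ (hcon hx)).symm

omit hM

/-! ### The minimal parabolics -/

/-- `P ∈ P*(S)`, `X = R` or `B`: `C_S(X) ≤ O₂(P)` or `P = C_P(X) S` -/
theorem altX {X P : Subgroup G} (nX : Y ≤ normalizer (X : Set G)) (hP : IsParS (S : Subgroup G) P) (hPY : P ≤ Y) :
    (S : Subgroup G) ⊓ centralizer (X : Set G) ≤ o2 P ∨ (P ⊓ centralizer (X : Set G)) ⊔ (S : Subgroup G) = P := by
  have hPR : P ≤ normalizer (X : Set G) := hPY.trans nX
  have hn : P ≤ normalizer ((P ⊓ centralizer (X : Set G) : Subgroup G) : Set G) := by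
    intro p hp
    rw [mem_normalizer_iff_cj, cj_inf, cj_centralizer, cj_eq_of_mem_normalizer (le_normalizer hp),
      cj_eq_of_mem_normalizer (hPR hp)]
  rcases hP.toIsPar.sup_eq_or_inf_le S inf_le_left hn with h1 | h1
  · exact Or.inr h1
  · exact Or.inl ((le_inf inf_le_left (le_inf (inf_le_left.trans hP.le) inf_le_right)).trans h1)

/-- then `P` centralises `X ∩ Z` -/
theorem le_of_alt {X P : Subgroup G} (h1 : (P ⊓ centralizer (X : Set G)) ⊔ (S : Subgroup G) = P) :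
    P ≤ centralizer ((X ⊓ zc (S : Subgroup G) : Subgroup G) : Set G) := by
  rw [← h1]
  exact sup_le (inf_le_right.trans (centralizer_le inf_le_left))
    ((le_CZ S).trans (centralizer_le inf_le_right))

/-- `P ∈ P*(S)` with `C_S(X) ≤ O₂(P)` normalises `C_S(X)` -/
theorem nJ {X P : Subgroup G} (nX : Y ≤ normalizer (X : Set G)) (hP : IsParS (S : Subgroup G) P) (hPY : P ≤ Y)
    (h1 : (S : Subgroup G) ⊓ centralizer (X : Set G) ≤ o2 P) :
    P ≤ normalizer (((S : Subgroup G) ⊓ centralizer (X : Set G) : Subgroup G) : Set G) := by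
  have e : (S : Subgroup G) ⊓ centralizer (X : Set G) = o2 P ⊓ centralizer (X : Set G) :=
    le_antisymm (le_inf h1 inf_le_right) (inf_le_inf_right _ (hP.isLoc.o2_le S))
  rw [e]
  intro p hp
  rw [mem_normalizer_iff_cj, cj_inf, cj_centralizer, cj_eq_of_mem_normalizer (le_normalizer_o2 P hp),
    cj_eq_of_mem_normalizer (nX (hPY hp))]

/-- **side 1**: `F ≤ O₂(P)` for all `P ∈ P(S)` -/
theorem le_o2_one {F : Subgroup G} (hFO : F ≤ o2 (CZ (S : Subgroup G))) (hFR : F ≤ centralizer (R : Set G))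
    (hF2 : F ≤ o2 (centralizer (Z₀ : Set G))) {P : Subgroup G} (hP : IsPar (S : Subgroup G) P)
    (hK : P ≤ centralizer ({e} : Set G) ∨ P ≤ centralizer (Z₀ : Set G)) : F ≤ o2 P := by
  rcases h.le_of_par hP hK with h1 | ⟨h1, hPY⟩
  · exact hFO.trans (o2_le_o2 S hP.le h1)
  · rcases h.altX h.nR h1 hPY with h2 | h2
    · exact (le_inf (hFO.trans Loc.o2C_le) hFR).trans h2
    · exact hF2.trans (o2_le_o2 S hP.le ((h.le_of_alt h2).trans (centralizer_le h.Z0R)))

theorem nQR : (S : Subgroup G) ≤ normalizer (o2 (centralizer (R : Set G)) : Set G) :=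
  ((h.S_le_ys.trans h.nR).trans (nc _)).trans (normalizer_le_normalizer_o2 _)

theorem QR_le : o2 (centralizer (R : Set G)) ≤ (S : Subgroup G) :=
  le_of_le_normalizer S (o2_isPGroup _) h.nQR

/-- **side 2**: `F ≤ O₂(P)` for all `P ∈ P(S)` -/
theorem le_o2_two {F : Subgroup G} (hFO : F ≤ o2 (CZ (S : Subgroup G)))
    (hFQ : F ≤ o2 (centralizer (R : Set G))) {P : Subgroup G}
    (hP : IsPar (S : Subgroup G) P) (hK : P ≤ centralizer ({e} : Set G) ∨ P ≤ centralizer (Z₀ : Set G)) :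
    F ≤ o2 P := by
  rcases h.le_of_par hP hK with h1 | ⟨h1, hPY⟩
  · exact hFO.trans (o2_le_o2 S hP.le h1)
  · rcases h.altX h.nR h1 hPY with h2 | h2
    · exact (le_inf (hFO.trans Loc.o2C_le) (hFQ.trans (o2_le _))).trans h2
    · refine hFQ.trans (le_o2 (h.QR_le.trans hP.le) (o2_isPGroup _) ?_)
      rw [← h2]
      exact sup_le (inf_le_right.trans (le_normalizer_o2 _)) h.nQR

/-- `C_{V*}(S) ≤ Z` -/
theorem fixV {v : G} (hv : v ∈ zl (S : Subgroup G) Y) (hs : ∀ s ∈ (S : Subgroup G), s * v = v * s) :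
    v ∈ zc (S : Subgroup G) := mem_zc.2 ⟨h.vS hv, hs, h.vs v hv⟩

/-- **`g ∈ N(R) ∩ N(B)` which centralises `z y` centralises `z` and `y`** -/
theorem sep {g z y : G} (hgR : g ∈ normalizer (R : Set G)) (hgB : g ∈ normalizer (B : Set G)) (hz : z ∈ R) (hy : y ∈ B)
    (hc : g * (z * y) = z * y * g) : g * z = z * g ∧ g * y = y * g := by
  have h1 : g * z * g⁻¹ ∈ R := (mem_normalizer_iff.1 hgR z).1 hz
  have h2 : g * y * g⁻¹ ∈ B := (mem_normalizer_iff.1 hgB y).1 hy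
  have e1 : z⁻¹ * (g * z * g⁻¹) = y * (g * y * g⁻¹)⁻¹ := by
    have e2 : g * z * g⁻¹ * (g * y * g⁻¹) = z * y := by
      calc g * z * g⁻¹ * (g * y * g⁻¹) = g * (z * y) * g⁻¹ := by group
        _ = z * y * g * g⁻¹ := by rw [hc]
        _ = z * y := by group
    calc z⁻¹ * (g * z * g⁻¹) = z⁻¹ * (g * z * g⁻¹ * (g * y * g⁻¹)) * (g * y * g⁻¹)⁻¹ := by group
      _ = z⁻¹ * (z * y) * (g * y * g⁻¹)⁻¹ := by rw [e2]
      _ = y * (g * y * g⁻¹)⁻¹ := by group
  have h3 : z⁻¹ * (g * z * g⁻¹) ∈ B ⊓ R :=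
    ⟨by rw [e1]; exact B.mul_mem hy (B.inv_mem h2), R.mul_mem (R.inv_mem hz) h1⟩
  rw [h.spl, mem_bot] at h3
  have h4 : g * z * g⁻¹ = z := (inv_mul_eq_one.1 h3).symm
  have h5 : g * y * g⁻¹ = y := by
    rw [h3] at e1
    exact (mul_inv_eq_one.1 e1.symm).symm
  exact ⟨mul_inv_eq_iff_eq_mul.1 h4, mul_inv_eq_iff_eq_mul.1 h5⟩

end FrY

end Cfsg.Agent.Omega.NOThreeL.RZ.TwoC

end

section


/-!
# Both sides of the frame `FrY` (variable `Y`) are impossible (bb #27002, #25865, #25243)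

* `QY S Y R B J` = `⟨Y, N(S)⟩ ∩ N(R) ∩ N(B) ∩ N(J)`;
* **`FrY.alpha`** (side 2), **`FrY.beta`** (side 1), **`FrY.false_of`**.
-/

set_option autoImplicit false
set_option linter.unusedSectionVars false

namespace Cfsg.Agent.Omega.NOThreeL.RZ.TwoC

open Subgroup Cfsg
open Cfsg.Agent.ZN (o2 zc zl jj)
open Cfsg.Agent.ZN.ChoiceBase hiding mem_zc
open Cfsg.Agent.Omega.ML.Final (MLK)
open Cfsg.Agent.Omega.ML.GMod (hul hul_le hul_le_of le_hul cj_le_hul le_normalizer_hul nc ri_mono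
  normalizer_le_normalizer_o2)
open Cfsg.Agent.Omega.MinPar Cfsg.Agent.Omega.Frame Cfsg.Agent.Omega.FrameNOFF
open Cfsg.Agent.Omega.NO3b.Bang (le_normalizer_sup cent_symm)
open Cfsg.Agent.Omega.NOThreeL.Star (YS le_YS S_le_YS zl_mono)
open Cfsg.Agent.Omega.NO3S.EThree.ExactA (eab_iff eab_mono)
open Cfsg.Agent.Omega.NoFF.Basic (comm_symm V V_le Z_le_V mem_conj)
open Cfsg.Agent.Omega.GI (relIndex_congr relIndex_sup_of_comm)
open Cfsg.Agent.MinSimple.VModule (zc_le_zl le_normalizer_zl zl_le zc_le zc_sq zc_comm mem_zc le_centralizer_zc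
  le_normalizer_o2 o2_isPGroup o2_le le_o2 normalizer_le_normalizer_zc)
open Cfsg.Agent.MinSimple.Basic (not_dvd_relIndex)
open Cfsg.Agent.MinSimple.MinParabolic (IsMinPar)
open Cfsg.Agent.Omega.NOThreeL.RZ.TwoC.Loc (gml o2C_le inf_cent_le norm_inf)
open Cfsg.Agent.Omega.NOThreeL.RZ.TwoC.SideP (NoA TwoP exch_inf)
open Cfsg.Agent.Omega.NO3b.EndX (RedP)
open Cfsg.Agent.Omega.KL.StarR (GInR)
open scoped Pointwise

universe u

variable {G : Type u} [Group G]

/-- the elements of `⟨Y, N(S)⟩` which normalise `R`, `B` and `J` -/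
def QY (S Y R B J : Subgroup G) : Subgroup G :=
  (Y ⊔ normalizer (S : Set G)) ⊓ normalizer (R : Set G) ⊓ normalizer (B : Set G) ⊓ normalizer (J : Set G)

namespace FrY

variable [Finite G] {S : Sylow 2 G} {Y R B Z₀ : Subgroup G} {e : G} (h : FrY S Y R B Z₀ e)
include h

/-- `C ∩ Q` for the two sides -/
theorem nS_QQ {X J K : Subgroup G} (hX : K ⊓ normalizer ((S : Subgroup G) : Set G) ≤
    normalizer (R : Set G) ⊓ normalizer (B : Set G) ⊓ normalizer (Y : Set G)) (hJ : J = (S : Subgroup G) ⊓ centralizer (X : Set G))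
    (hN : normalizer (R : Set G) ⊓ normalizer (B : Set G) ≤ normalizer (X : Set G)) :
    K ⊓ normalizer ((S : Subgroup G) : Set G) ≤ QY (S : Subgroup G) Y R B J := by
  intro g hg
  have h1 := (hX hg).1
  have h2 : g ∈ normalizer (((S : Subgroup G) ⊓ centralizer (X : Set G) : Subgroup G) : Set G) := by
    rw [mem_normalizer_iff_cj, cj_inf, cj_centralizer, cj_eq_of_mem_normalizer hg.2,
      cj_eq_of_mem_normalizer (hN h1)]
  exact ⟨⟨⟨le_sup_right (a := Y) hg.2, h1.1⟩, h1.2⟩, hJ ▸ h2⟩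

theorem par_QQ {X P : Subgroup G} (nX : Y ≤ normalizer (X : Set G))
    (hP : IsParS (S : Subgroup G) P) (hPY : P ≤ Y) (h1 : (S : Subgroup G) ⊓ centralizer (X : Set G) ≤ o2 P) :
    P ≤ QY (S : Subgroup G) Y R B ((S : Subgroup G) ⊓ centralizer (X : Set G)) :=
  le_inf (le_inf (le_inf (hPY.trans le_sup_left) (hPY.trans h.nR)) (hPY.trans h.nB))
    (h.nJ nX hP hPY h1)

/-- `O₂(C_G(X)) ≤ O₂(C_G(X) S)` -/
theorem o2_sup {X K : Subgroup G} (nX : Y ≤ normalizer (X : Set G))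
    (hK : centralizer (X : Set G) ≤ K) :
    o2 (centralizer (X : Set G)) ≤ o2 (K ⊓ centralizer (X : Set G) ⊔ (S : Subgroup G)) := by
  rw [inf_eq_right.2 hK]
  refine le_o2 ((o2_le _).trans le_sup_left) (o2_isPGroup _) (sup_le (le_normalizer_o2 _) ?_)
  exact ((h.S_le_ys.trans nX).trans (nc _)).trans (normalizer_le_normalizer_o2 _)

variable (hM : MLK.{u, u}) (hR : RedP.{u, u}) (hE : ML.Ex.Two.Ext.{u, u})
include hM hR hE

/-- **side 2** -/
theorem alpha
    (b2 : R ⊓ zc (S : Subgroup G) ≤ Z₀ ∨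
      BadG (centralizer (Z₀ : Set G) ⊓ QY (S : Subgroup G) Y R B ((S : Subgroup G) ⊓ centralizer (B : Set G)))
        ((S : Subgroup G) ⊓ centralizer (B : Set G)) R)
    {A F : Subgroup G} (hA : A ∈ AA (o2 (CZ (S : Subgroup G)))) (hAK : A ≤ o2 (centralizer ({e} : Set G)))
    (hFA : F ≤ A) (hFR : F ≤ o2 (centralizer (R : Set G)))
    (hm : ¬ F ≤ centralizer (hul (zl (S : Subgroup G) Y) (centralizer (Z₀ : Set G)) : Set G))
    (he : (centralizer (hul (zl (S : Subgroup G) Y) (centralizer (Z₀ : Set G)) : Set G)).relIndex F =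
      (centralizer (F : Set G)).relIndex (hul (zl (S : Subgroup G) Y) (centralizer (Z₀ : Set G)))) : False := by
  set W : Subgroup G := hul (zl (S : Subgroup G) Y) (centralizer (Z₀ : Set G)) with hW
  obtain ⟨w0, w1, w2, -⟩ := h.W2 hM
  rw [← hW] at w0 w1 w2
  have hFO : F ≤ o2 (CZ (S : Subgroup G)) := hFA.trans hA.2.1
  have hFS : F ≤ (S : Subgroup G) := hFO.trans o2C_le
  have hSK : (S : Subgroup G) ≤ centralizer (Z₀ : Set G) := (le_CZ S).trans h.C2
  have hZB : (S : Subgroup G) ≤ centralizer ((B ⊓ zc (S : Subgroup G) : Subgroup G) : Set G) :=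
    (le_CZ S).trans (centralizer_le inf_le_right)
  have hVW : zl (S : Subgroup G) Y ≤ W := le_hul _ _
  have hU := h.lK2.zl_le S h.ctx.char2
  have hUO : zl (S : Subgroup G) (centralizer (Z₀ : Set G)) ≤ o2 (CZ (S : Subgroup G)) :=
    (hU.trans (zc_le _)).trans (o2_le_o2 S (le_CZ S) h.C2)
  have hUel : IsElementaryAbelian 2 (zl (S : Subgroup G) (centralizer (Z₀ : Set G))) :=
    eab_iff.2 ⟨fun x hx => mem_centralizer_iff.2 fun y hy => zc_comm _ _ (hU hy) _ (hU hx), fun x hx => zc_sq _ _ (hU hx)⟩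
  have hno : NoA (o2 (CZ (S : Subgroup G))) (zl (S : Subgroup G) (centralizer (Z₀ : Set G))) :=
    fun A' hA' => gml hM h.ctx h.lK2 (h.kg h.lK2) hA'.2.1 (eab_iff.1 hA'.1).2
  have hUW : zl (S : Subgroup G) (centralizer (Z₀ : Set G)) ≤ W := zl_le ((zc_le_zl _ _).trans hVW) (le_normalizer_hul _ _)
  -- `C_A(U₂)` centralises `W₂`
  have hker : A ⊓ centralizer (zl (S : Subgroup G) (centralizer (Z₀ : Set G)) : Set G) ≤ centralizer (W : Set G) := by
    have h1 := exch_inf hUel hUO hno hA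
    exact le_sup_left.trans (((eab_iff.1 h1.1).1).trans (centralizer_le (w0 _ h1)))
  have hgml : ∀ C : Subgroup G, C ≤ F → (centralizer (W : Set G)).relIndex C ≤ (centralizer (C : Set G)).relIndex W := by
    intro C hC
    have e1 : (centralizer (W : Set G)).relIndex C =
        (centralizer (zl (S : Subgroup G) (centralizer (Z₀ : Set G)) : Set G)).relIndex C :=
      relIndex_congr (le_antisymm (inf_le_inf_left _ (centralizer_le hUW))
        (le_inf inf_le_left ((inf_le_inf_right _ (hC.trans hFA)).trans hker)))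
    rw [e1]
    exact (gml hM h.ctx h.lK2 (h.kg h.lK2) (hC.trans hFO) (eab_iff.1 (eab_mono hA.1 (hC.trans hFA))).2).trans
      (ri_mono _ hUW)
  have hEN : normalizer (R : Set G) ⊓ normalizer (B : Set G) ≤ normalizer (B : Set G) := inf_le_right
  have hG : GInR (centralizer (Z₀ : Set G)) (S : Subgroup G) F ((S : Subgroup G) ⊓ centralizer (B : Set G))
      (QY (S : Subgroup G) Y R B ((S : Subgroup G) ⊓ centralizer (B : Set G))) W (B ⊓ zc (S : Subgroup G))
      (zc (S : Subgroup G)) R :=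
    { CM := le_normalizer_hul _ _
      sqM := (eab_iff.1 w1).2
      TC := hSK
      two := S.isPGroup'
      syl := not_dvd_relIndex S hSK
      ZM := inf_le_left.trans (h.BV.trans hVW)
      ZM' := (zc_le_zl _ _).trans hVW
      YM := h.RV.trans hVW
      TZ := hZB
      TZ' := le_centralizer_zc _
      NZ := by
        intro g hg
        have h1 := (h.sZ hg).1
        rw [mem_normalizer_iff_cj, cj_inf, cj_eq_of_mem_normalizer h1.2,
          cj_eq_of_mem_normalizer (normalizer_le_normalizer_zc _ hg.2)]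
      NQ := h.nS_QQ h.sZ rfl hEN
      QY := inf_le_right.trans ((inf_le_left.trans inf_le_left).trans inf_le_right)
      QJ := inf_le_right.trans inf_le_right
      JT := inf_le_left
      AT := hFS
      par := by
        intro P hP0 hPK
        have hP := h.lK2.isPar S hP0 hPK
        rcases h.le_of_par hP (Or.inr hPK) with h1 | ⟨h1, hPY⟩
        · exact Or.inl (h1.trans (centralizer_le inf_le_right))
        · rcases h.altX h.nB h1 hPY with h2 | h2
          · exact Or.inr (Or.inr ⟨h.le_o2_two hFO hFR hP (Or.inr hPK), h2, h.par_QQ h.nB h1 hPY h2⟩)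
          · exact Or.inl (h.le_of_alt h2)
      sep := by
        intro g _ hgQ _ z hz y hy hc
        have hc' : g * (y * z) = y * z * g := by
          have h3 : y * z = z * y := by
            have h4 := h.vc (h.RV hy)
            exact ((mem_centralizer_iff.1 h4) z (h.BV hz.1)).symm
          rw [h3]
          exact hc
        exact (h.sep hgQ.1.1.2 hgQ.1.2 hy hz.1 hc').2
      hb := by
        rcases b2 with h1 | h1
        · right
          intro v hv
          have h2 : v ∈ Z₀ := h1 ⟨hv.1, h.fixV (h.RV hv.1) fun s hs => mem_centralizer_iff.1 hv.2 s hs⟩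
          rw [mem_centralizer_iff]
          intro k hk
          exact ((mem_centralizer_iff.1 hk) v h2).symm
        · left
          intro d hdC hdQ hdo hcom
          exact h1 d ⟨hdC, hdQ⟩ hdo hcom
      sqA := (eab_iff.1 (eab_mono hA.1 hFA)).2
      AZ := by
        refine (le_inf (hFA.trans hAK) (le_inf (hFS.trans hSK) (hFS.trans hZB))).trans ?_
        rw [inf_comm]
        refine le_o2 inf_le_left ((o2_isPGroup _).to_le inf_le_right) ?_
        refine le_trans (le_inf Subgroup.le_normalizer ?_) inf_normalizer_le_normalizer_inf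
        refine (inf_le_right.trans (centralizer_le ?_)).trans (le_normalizer_o2 _)
        exact Set.singleton_subset_iff.2 ⟨h.eB, h.eZ⟩
      AY := hFR.trans (h.o2_sup h.nR h.RK)
      nk := by
        rw [v_eq]
        exact (inf_le_inf_right _ hFA).trans hker
      mv := hm
      no := hgml
      le := he.ge
      K := h.kg h.lK2 }
  obtain ⟨X, N, _, _, _, _, _, T', A', J', Q', Z₁, Y', h1⟩ := hG.inpR
  exact h1.false_of hM hR hE

/-- **side 1** -/
theorem beta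
    (b1 : BadG (centralizer ({e} : Set G) ⊓ QY (S : Subgroup G) Y R B ((S : Subgroup G) ⊓ centralizer (R : Set G)))
      ((S : Subgroup G) ⊓ centralizer (R : Set G)) B)
    {X₁ F : Subgroup G} (hX : IsElementaryAbelian 2 X₁) (hXn : centralizer ({e} : Set G) ≤ normalizer (X₁ : Set G))
    (hVX : zl (S : Subgroup G) Y ≤ X₁) (hUX : zl (S : Subgroup G) (centralizer ({e} : Set G)) ≤ X₁)
    (hF : F ∈ AA (o2 (CZ (S : Subgroup G)))) (hF2 : F ≤ o2 (centralizer (Z₀ : Set G)))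
    (hFB : F ≤ o2 (centralizer (B : Set G)))
    (hm : ¬ F ≤ centralizer (zl (S : Subgroup G) (centralizer ({e} : Set G)) : Set G))
    (hk : F ⊓ centralizer (zl (S : Subgroup G) (centralizer ({e} : Set G)) : Set G) ≤ centralizer (X₁ : Set G))
    (he : (centralizer (X₁ : Set G)).relIndex F = (centralizer (F : Set G)).relIndex X₁) : False := by
  have hFO : F ≤ o2 (CZ (S : Subgroup G)) := hF.2.1
  have hFR : F ≤ centralizer (R : Set G) := h.hA F hF hF2
  have hFS : F ≤ (S : Subgroup G) := hFO.trans o2C_le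
  have hSK : (S : Subgroup G) ≤ centralizer ({e} : Set G) := (le_CZ S).trans h.C1
  have hZR : (S : Subgroup G) ≤ centralizer ((R ⊓ zc (S : Subgroup G) : Subgroup G) : Set G) :=
    (le_CZ S).trans (centralizer_le inf_le_right)
  have hgml : ∀ C : Subgroup G, C ≤ F → (centralizer (X₁ : Set G)).relIndex C ≤ (centralizer (C : Set G)).relIndex X₁ := by
    intro C hC
    have e1 : (centralizer (X₁ : Set G)).relIndex C =
        (centralizer (zl (S : Subgroup G) (centralizer ({e} : Set G)) : Set G)).relIndex C :=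
      relIndex_congr (le_antisymm (inf_le_inf_left _ (centralizer_le hUX))
        (le_inf inf_le_left ((inf_le_inf_right _ hC).trans hk)))
    rw [e1]
    exact (gml hM h.ctx h.lK1 (h.kg h.lK1) (hC.trans hFO) (eab_iff.1 (eab_mono hF.1 hC)).2).trans (ri_mono _ hUX)
  have hG : GInR (centralizer ({e} : Set G)) (S : Subgroup G) F ((S : Subgroup G) ⊓ centralizer (R : Set G))
      (QY (S : Subgroup G) Y R B ((S : Subgroup G) ⊓ centralizer (R : Set G))) X₁ (R ⊓ zc (S : Subgroup G))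
      (zc (S : Subgroup G)) B :=
    { CM := hXn
      sqM := (eab_iff.1 hX).2
      TC := hSK
      two := S.isPGroup'
      syl := not_dvd_relIndex S hSK
      ZM := inf_le_left.trans (h.RV.trans hVX)
      ZM' := (zc_le_zl _ _).trans hVX
      YM := h.BV.trans hVX
      TZ := hZR
      TZ' := le_centralizer_zc _
      NZ := by
        intro g hg
        have h1 := (h.sE hg).1
        rw [mem_normalizer_iff_cj, cj_inf, cj_eq_of_mem_normalizer h1.1,
          cj_eq_of_mem_normalizer (normalizer_le_normalizer_zc _ hg.2)]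
      NQ := h.nS_QQ h.sE rfl inf_le_left
      QY := inf_le_right.trans (inf_le_left.trans inf_le_right)
      QJ := inf_le_right.trans inf_le_right
      JT := inf_le_left
      AT := hFS
      par := by
        intro P hP0 hPK
        have hP := h.lK1.isPar S hP0 hPK
        rcases h.le_of_par hP (Or.inl hPK) with h1 | ⟨h1, hPY⟩
        · exact Or.inl (h1.trans (centralizer_le inf_le_right))
        · rcases h.altX h.nR h1 hPY with h2 | h2
          · exact Or.inr (Or.inr ⟨h.le_o2_one hFO hFR hF2 hP (Or.inl hPK), h2, h.par_QQ h.nR h1 hPY h2⟩)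
          · exact Or.inl (h.le_of_alt h2)
      sep := by
        intro g _ hgQ _ z hz y hy hc
        exact (h.sep hgQ.1.1.2 hgQ.1.2 hz.1 hy hc).1
      hb := Or.inl fun d hdC hdQ hdo hcom => b1 d ⟨hdC, hdQ⟩ hdo hcom
      sqA := (eab_iff.1 hF.1).2
      AZ := by
        refine (le_inf hF2 (le_inf (hFS.trans hSK) (hFS.trans hZR))).trans ?_
        rw [inf_comm]
        refine le_o2 inf_le_left ((o2_isPGroup _).to_le inf_le_right) ?_
        refine le_trans (le_inf Subgroup.le_normalizer ?_) inf_normalizer_le_normalizer_inf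
        exact (inf_le_right.trans (centralizer_le h.Z0R)).trans (le_normalizer_o2 _)
      AY := hFB.trans (h.o2_sup h.nB h.BK)
      nk := by
        rw [v_eq]
        exact hk
      mv := fun hc => hm (hc.trans (centralizer_le hUX))
      no := hgml
      le := he.ge
      K := h.kg h.lK1 }
  obtain ⟨X, N, _, _, _, _, _, T', A', J', Q', Z₁, Y', h1⟩ := hG.inpR
  exact h1.false_of hM hR hE

/-- **The frame is impossible.** -/
theorem false_of
    (b1 : BadG (centralizer ({e} : Set G) ⊓ QY (S : Subgroup G) Y R B ((S : Subgroup G) ⊓ centralizer (R : Set G)))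
      ((S : Subgroup G) ⊓ centralizer (R : Set G)) B)
    (b2 : R ⊓ zc (S : Subgroup G) ≤ Z₀ ∨
      BadG (centralizer (Z₀ : Set G) ⊓ QY (S : Subgroup G) Y R B ((S : Subgroup G) ⊓ centralizer (B : Set G)))
        ((S : Subgroup G) ⊓ centralizer (B : Set G)) R) : False := by
  rcases h.main hM with ⟨A, hA, -, hAK, F, hFA, hFR, hm, he⟩ | ⟨X₁, hX, hXn, hVX, hUX, -, F, hF, -, hF2, hFB, hm, -, hk, he⟩
  · exact h.alpha hM hR hE b2 hA hAK hFA hFR hm he
  · exact h.beta hM hR hE b1 hX hXn hVX hUX hF hF2 hFB hm hk he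

end FrY

end Cfsg.Agent.Omega.NOThreeL.RZ.TwoC

end

section


/-!
# [R-z], the nonsplit case: the lift of `bad` from `B/C_B(E)` to `B` (helper878, bb #27009)

`E ≤ Y = ⟨P*(S)⟩` normal, `B ≤ V*` normal in `Y`, `[V*, E] ≤ B ≤ [B, E]`.

* `kerD` : the elements of `E` which centralise `B/C_B(E)`;  **`kerD_le`** : they centralise `V*` (`V*` is 2-reduced);
* **`lift`** : an element which normalises `B`, `E` and centralises `B/C_B(E)` centralises `B`.
-/

set_option autoImplicit false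

namespace Cfsg.Agent.Omega.NOThreeL.RZ.TwoC.BadN

open Subgroup Cfsg
open Cfsg.Agent.ZN (o2 zc zl)
open Cfsg.Agent.Omega.MinPar Cfsg.Agent.Omega.Frame Cfsg.Agent.Omega.FrameNOFF
open Cfsg.Agent.Omega.NOThreeL.Star (YS le_YS S_le_YS)
open Cfsg.Agent.MinSimple.VModule (zc_le_zl le_normalizer_zl zl_le zc_le mem_zc)

open scoped commutatorElement

universe u

variable {G : Type u} [Group G]

/-- the elements of `E` which centralise `B/C_B(E)` -/
def kerD (E B : Subgroup G) (h : E ≤ normalizer (B : Set G)) : Subgroup G where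
  carrier := {k | k ∈ E ∧ ∀ w ∈ B, k * w * k⁻¹ * w⁻¹ ∈ centralizer (E : Set G)}
  one_mem' := ⟨E.one_mem, fun w _ => by simp [one_mem]⟩
  mul_mem' := by
    rintro k l ⟨hk, hk'⟩ ⟨hl, hl'⟩
    refine ⟨E.mul_mem hk hl, fun w hw => ?_⟩
    have h1 := mem_centralizer_iff.1 (hl' w hw) k hk
    have e1 : k * l * w * (k * l)⁻¹ * w⁻¹ = k * (l * w * l⁻¹ * w⁻¹) * k⁻¹ * (k * w * k⁻¹ * w⁻¹) := by group
    rw [e1, h1, mul_inv_cancel_right]
    exact mul_mem (hl' w hw) (hk' w hw)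
  inv_mem' := by
    rintro k ⟨hk, hk'⟩
    refine ⟨E.inv_mem hk, fun w hw => ?_⟩
    have h1 := hk' (k⁻¹ * w * k⁻¹⁻¹) ((mem_normalizer_iff.1 (h (E.inv_mem hk)) w).1 hw)
    have e1 : k⁻¹ * w * k⁻¹⁻¹ * w⁻¹ = (k * (k⁻¹ * w * k⁻¹⁻¹) * k⁻¹ * (k⁻¹ * w * k⁻¹⁻¹)⁻¹)⁻¹ := by group
    rw [e1]
    exact inv_mem h1

theorem mem_kerD {E B : Subgroup G} {h : E ≤ normalizer (B : Set G)} {k : G} :
    k ∈ kerD E B h ↔ k ∈ E ∧ ∀ w ∈ B, k * w * k⁻¹ * w⁻¹ ∈ centralizer (E : Set G) := Iff.rfl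

/-- **`C_E(B/C_B(E))` centralises `V*`** -/
theorem kerD_le [Finite G] {S : Sylow 2 G} {Y E B : Subgroup G} (SY : (S : Subgroup G) ≤ Y)
    (nE : Y ≤ normalizer (E : Set G)) (EY : E ≤ Y)
    (nB : Y ≤ normalizer (B : Set G)) (BV : B ≤ zl (S : Subgroup G) Y)
    (VE : ⁅zl (S : Subgroup G) Y, E⁆ ≤ B)
    (vc : zl (S : Subgroup G) Y ≤ centralizer (zl (S : Subgroup G) Y : Set G))
    (vs : ∀ v ∈ zl (S : Subgroup G) Y, v ^ 2 = 1) :
    kerD E B (EY.trans nB) ≤ centralizer (zl (S : Subgroup G) Y : Set G) := by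
  have hcom : ∀ a ∈ zl (S : Subgroup G) Y, ∀ b ∈ zl (S : Subgroup G) Y, a * b = b * a := fun a ha b hb =>
    mem_centralizer_iff.1 (vc hb) a ha
  refine HOne.TvHSide.red_of (Z₀ := (zc (S : Subgroup G) : Set G)) (S := (S : Subgroup G)) (H := Y) SY S.isPGroup'
    (MinSimple.Basic.not_dvd_relIndex S SY)
    (fun x hx z hz => (mem_zc.1 hz).2.1 x hx) (le_normalizer_zl _ _) (zc_le_zl _ _) ?_ _ (fun k hk => EY hk.1) ?_ ?_
  · refine zl_le ?_ ?_
    · intro z hz
      exact subset_closure ⟨1, Y.one_mem, z, hz, by simp⟩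
    · intro y hy
      have key : ∀ y ∈ Y, ∀ x ∈ closure {x : G | ∃ g ∈ Y, ∃ z ∈ (zc (S : Subgroup G) : Set G), g * z * g⁻¹ = x},
          y * x * y⁻¹ ∈ closure {x : G | ∃ g ∈ Y, ∃ z ∈ (zc (S : Subgroup G) : Set G), g * z * g⁻¹ = x} := by
        intro y hy x hx
        have h1 : closure {x : G | ∃ g ∈ Y, ∃ z ∈ (zc (S : Subgroup G) : Set G), g * z * g⁻¹ = x} ≤
            (closure {x : G | ∃ g ∈ Y, ∃ z ∈ (zc (S : Subgroup G) : Set G), g * z * g⁻¹ = x}).comap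
              (MulAut.conj y).toMonoidHom := by
          rw [closure_le]
          rintro _ ⟨g, hg, z, hz, rfl⟩
          exact subset_closure ⟨y * g, Y.mul_mem hy hg, z, hz, by
            change y * g * z * (y * g)⁻¹ = y * (g * z * g⁻¹) * y⁻¹
            group⟩
        exact h1 hx
      rw [mem_normalizer_iff]
      intro x
      refine ⟨key y hy x, fun hx => ?_⟩
      have h1 := key y⁻¹ (Y.inv_mem hy) _ hx
      have e1 : y⁻¹ * (y * x * y⁻¹) * y⁻¹⁻¹ = x := by group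
      rwa [e1] at h1
  · have key : ∀ y ∈ Y, ∀ k ∈ kerD E B (EY.trans nB), y * k * y⁻¹ ∈ kerD E B (EY.trans nB) := by
      intro y hy k hk
      refine ⟨(mem_normalizer_iff.1 (nE hy) k).1 hk.1, fun w hw => ?_⟩
      have hw' : y⁻¹ * w * y⁻¹⁻¹ ∈ B := (mem_normalizer_iff.1 (nB (Y.inv_mem hy)) w).1 hw
      have h1 := hk.2 _ hw'
      have e1 : y * k * y⁻¹ * w * (y * k * y⁻¹)⁻¹ * w⁻¹ =
          y * (k * (y⁻¹ * w * y⁻¹⁻¹) * k⁻¹ * (y⁻¹ * w * y⁻¹⁻¹)⁻¹) * y⁻¹ := by group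
      rw [e1]
      have h2 := ML.GMod.nc _ (nE hy)
      exact (mem_normalizer_iff.1 h2 _).1 h1
    intro y hy
    rw [mem_normalizer_iff]
    intro k
    refine ⟨key y hy k, fun hx => ?_⟩
    have h1 := key y⁻¹ (Y.inv_mem hy) _ hx
    have e1 : y⁻¹ * (y * k * y⁻¹) * y⁻¹⁻¹ = k := by group
    rwa [e1] at h1
  · rintro x ⟨hxE, hx⟩
    refine ⟨2, mem_centralizer_iff.2 fun v hv => ?_⟩
    -- `x v x⁻¹ = v b`, `x b x⁻¹ = b c`, `x c x⁻¹ = c`
    obtain ⟨b, hb, hb'⟩ : ∃ b ∈ B, x * v * x⁻¹ = v * b := by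
      refine ⟨v⁻¹ * (x * v * x⁻¹), ?_, by group⟩
      have h1 : ⁅v⁻¹, x⁆ ∈ B := VE (commutator_mem_commutator (inv_mem hv) hxE)
      have e1 : ⁅v⁻¹, x⁆ = v⁻¹ * (x * v * x⁻¹) := by rw [commutatorElement_def]; group
      rwa [e1] at h1
    obtain ⟨c, hc, hcE, hc'⟩ : ∃ c ∈ B, c ∈ centralizer (E : Set G) ∧ x * b * x⁻¹ = b * c := by
      have h1 := hx b hb
      have h2 : x * b * x⁻¹ ∈ B := (mem_normalizer_iff.1 (nB (EY hxE)) b).1 hb
      have h3 : b⁻¹ * (x * b * x⁻¹) = x * b * x⁻¹ * b⁻¹ := hcom _ (BV (B.inv_mem hb)) _ (BV h2)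
      exact ⟨b⁻¹ * (x * b * x⁻¹), B.mul_mem (B.inv_mem hb) h2, by rw [h3]; exact h1, by group⟩
    have hcx : x * c * x⁻¹ = c := by
      rw [mem_centralizer_iff.1 hcE x hxE, mul_inv_cancel_right]
    have hbb : b * b = 1 := by have := vs b (BV hb); rwa [pow_two] at this
    have hcc : c * c = 1 := by have := vs c (BV hc); rwa [pow_two] at this
    have h2 : x ^ 2 * v * (x ^ 2)⁻¹ = v * c := by
      have e1 : x ^ 2 * v * (x ^ 2)⁻¹ = x * (x * v * x⁻¹) * x⁻¹ := by rw [pow_two]; group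
      have e2 : x * (v * b) * x⁻¹ = x * v * x⁻¹ * (x * b * x⁻¹) := by group
      rw [e1, hb', e2, hb', hc', ← mul_assoc, mul_assoc v b b, hbb, mul_one]
    have h4 : x ^ 2 ^ 2 * v * (x ^ 2 ^ 2)⁻¹ = v := by
      have e0 : x ^ 2 ^ 2 = x ^ 2 * x ^ 2 := pow_add x 2 2
      have e1 : x ^ 2 ^ 2 * v * (x ^ 2 ^ 2)⁻¹ = x ^ 2 * (x ^ 2 * v * (x ^ 2)⁻¹) * (x ^ 2)⁻¹ := by rw [e0]; group
      have e2 : x ^ 2 * (v * c) * (x ^ 2)⁻¹ = x ^ 2 * v * (x ^ 2)⁻¹ * (x * (x * c * x⁻¹) * x⁻¹) := by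
        rw [pow_two]; group
      rw [e1, h2, e2, h2, hcx, hcx, mul_assoc, hcc, mul_one]
    exact (mul_inv_eq_iff_eq_mul.1 h4).symm

/-- **the lift** -/
theorem lift [Finite G] {S : Sylow 2 G} {Y E B : Subgroup G} (SY : (S : Subgroup G) ≤ Y)
    (nE : Y ≤ normalizer (E : Set G)) (EY : E ≤ Y)
    (nB : Y ≤ normalizer (B : Set G)) (BV : B ≤ zl (S : Subgroup G) Y)
    (VE : ⁅zl (S : Subgroup G) Y, E⁆ ≤ B) (BE : B ≤ ⁅B, E⁆)
    (vc : zl (S : Subgroup G) Y ≤ centralizer (zl (S : Subgroup G) Y : Set G))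
    (vs : ∀ v ∈ zl (S : Subgroup G) Y, v ^ 2 = 1)
    {d : G} (dB : d ∈ normalizer (B : Set G)) (dE : d ∈ normalizer (E : Set G))
    (hd : ∀ w ∈ B, d * w * d⁻¹ * w⁻¹ ∈ centralizer (E : Set G)) : d ∈ centralizer (B : Set G) := by
  have hcom : ∀ a ∈ B, ∀ b ∈ B, a * b = b * a := fun a ha b hb =>
    mem_centralizer_iff.1 (vc (BV hb)) a (BV ha)
  have hEB : E ≤ normalizer (B : Set G) := EY.trans nB
  -- `d w d⁻¹ = w δ`
  have hdd : ∀ w ∈ B, ∃ δ ∈ B, δ ∈ centralizer (E : Set G) ∧ d * w * d⁻¹ = w * δ := by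
    intro w hw
    have h1 := hd w hw
    have h2 : d * w * d⁻¹ ∈ B := (mem_normalizer_iff.1 dB w).1 hw
    have h3 : w⁻¹ * (d * w * d⁻¹) = d * w * d⁻¹ * w⁻¹ := hcom _ (B.inv_mem hw) _ h2
    exact ⟨w⁻¹ * (d * w * d⁻¹), B.mul_mem (B.inv_mem hw) h2, by rw [h3]; exact h1, by group⟩
  have dCE : d ∈ normalizer ((centralizer (E : Set G) : Subgroup G) : Set G) := ML.GMod.nc _ dE
  -- `[d, g]` centralises `B`
  have hK : ∀ g ∈ E, d * g * d⁻¹ * g⁻¹ ∈ centralizer (B : Set G) := by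
    intro g hg
    have hgE : d * g * d⁻¹ * g⁻¹ ∈ E := E.mul_mem ((mem_normalizer_iff.1 dE g).1 hg) (E.inv_mem hg)
    have hk : d * g * d⁻¹ * g⁻¹ ∈ kerD E B hEB := by
      refine ⟨hgE, fun w hw => ?_⟩
      -- `w₁ = g⁻¹ w g`
      have hw1 : g⁻¹ * w * g⁻¹⁻¹ ∈ B := (mem_normalizer_iff.1 (hEB (E.inv_mem hg)) w).1 hw
      rw [inv_inv] at hw1
      have hw2 : d⁻¹ * (g⁻¹ * w * g) * d⁻¹⁻¹ ∈ B := (mem_normalizer_iff.1 (inv_mem dB) _).1 hw1
      rw [inv_inv] at hw2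
      obtain ⟨δ, hδB, hδ, hδ'⟩ := hdd _ hw2
      -- `g⁻¹ w g = w₂ δ`, `w₂ = d⁻¹ w₁ d`
      have h1 : g⁻¹ * w * g = d⁻¹ * (g⁻¹ * w * g) * d * δ := by
        rw [← hδ']; group
      obtain ⟨ε, hεB, hε, hε'⟩ := hdd _ hw
      -- `(d g d⁻¹ g⁻¹) w (..)⁻¹ = d g w₂ g⁻¹ d⁻¹ = d (w δ⁻¹) d⁻¹ = w ε (d δ⁻¹ d⁻¹)`
      have h2 : g * (d⁻¹ * (g⁻¹ * w * g) * d) * g⁻¹ = w * δ⁻¹ := by
        have h3 : d⁻¹ * (g⁻¹ * w * g) * d = g⁻¹ * w * g * δ⁻¹ := by
          rw [eq_mul_inv_iff_mul_eq]; exact h1.symm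
        rw [h3]
        have h4 : g * δ⁻¹ = δ⁻¹ * g := mem_centralizer_iff.1 (inv_mem hδ) g hg
        calc g * (g⁻¹ * w * g * δ⁻¹) * g⁻¹ = w * (g * δ⁻¹) * g⁻¹ := by group
          _ = w * (δ⁻¹ * g) * g⁻¹ := by rw [h4]
          _ = w * δ⁻¹ := by group
      have h3 : d * g * d⁻¹ * g⁻¹ * w * (d * g * d⁻¹ * g⁻¹)⁻¹ * w⁻¹ =
          w * (ε * (d * δ⁻¹ * d⁻¹)) * w⁻¹ := by
        calc d * g * d⁻¹ * g⁻¹ * w * (d * g * d⁻¹ * g⁻¹)⁻¹ * w⁻¹
            = d * (g * (d⁻¹ * (g⁻¹ * w * g) * d) * g⁻¹) * d⁻¹ * w⁻¹ := by group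
          _ = d * (w * δ⁻¹) * d⁻¹ * w⁻¹ := by rw [h2]
          _ = (d * w * d⁻¹) * (d * δ⁻¹ * d⁻¹) * w⁻¹ := by group
          _ = w * ε * (d * δ⁻¹ * d⁻¹) * w⁻¹ := by rw [hε']
          _ = _ := by group
      have h5 : d * δ⁻¹ * d⁻¹ ∈ centralizer (E : Set G) := (mem_normalizer_iff.1 dCE _).1 (inv_mem hδ)
      have h6 : d * δ⁻¹ * d⁻¹ ∈ B := (mem_normalizer_iff.1 dB _).1 (B.inv_mem hδB)
      have h7 : w * (ε * (d * δ⁻¹ * d⁻¹)) * w⁻¹ = ε * (d * δ⁻¹ * d⁻¹) := by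
        rw [hcom w hw _ (B.mul_mem hεB h6), mul_inv_cancel_right]
      rw [h3, h7]
      exact mul_mem hε h5
    exact centralizer_le BV (kerD_le SY nE EY nB BV VE vc vs hk)
  -- `d` centralises `[B, E]`
  have h1 : ⁅B, E⁆ ≤ centralizer ({d} : Set G) := by
    rw [commutator_le]
    intro w hw g hg
    rw [mem_centralizer_singleton_iff]
    obtain ⟨δ, hδB, hδ, hδ'⟩ := hdd w hw
    have hk := hK g hg
    have h2 : d * ⁅w, g⁆ * d⁻¹ = ⁅w, g⁆ := by
      have hwB : g * (w * δ)⁻¹ * g⁻¹ ∈ B :=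
        (mem_normalizer_iff.1 (hEB hg) _).1 (B.inv_mem (B.mul_mem hw hδB))
      have h3 : (d * g * d⁻¹ * g⁻¹) * (g * (w * δ)⁻¹ * g⁻¹) * (d * g * d⁻¹ * g⁻¹)⁻¹ = g * (w * δ)⁻¹ * g⁻¹ := by
        rw [← mem_centralizer_iff.1 hk _ hwB, mul_inv_cancel_right]
      have h4 : g * δ⁻¹ = δ⁻¹ * g := mem_centralizer_iff.1 (inv_mem hδ) g hg
      calc d * ⁅w, g⁆ * d⁻¹ = (d * w * d⁻¹) * (d * g * d⁻¹ * g⁻¹) * (g * (d * w * d⁻¹)⁻¹ * g⁻¹) *
            (d * g * d⁻¹ * g⁻¹)⁻¹ := by rw [commutatorElement_def]; group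
        _ = (w * δ) * ((d * g * d⁻¹ * g⁻¹) * (g * (w * δ)⁻¹ * g⁻¹) * (d * g * d⁻¹ * g⁻¹)⁻¹) := by
            rw [hδ']; group
        _ = (w * δ) * (g * (w * δ)⁻¹ * g⁻¹) := by rw [h3]
        _ = w * δ * (g * δ⁻¹) * w⁻¹ * g⁻¹ := by group
        _ = w * δ * (δ⁻¹ * g) * w⁻¹ * g⁻¹ := by rw [h4]
        _ = ⁅w, g⁆ := by rw [commutatorElement_def]; group
    have h3 := mul_inv_eq_iff_eq_mul.1 h2
    exact h3.symm
  rw [mem_centralizer_iff]
  intro w hw
  exact mem_centralizer_singleton_iff.1 (h1 (BE hw))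

end Cfsg.Agent.Omega.NOThreeL.RZ.TwoC.BadN

end
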